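import Cfsg.Agent.TwoR73.Count
import Cfsg.Agent.CharDeep.CC.Main
import Cfsg.Agent.S0346

/-!
# The semiregular case
-/

set_option autoImplicit false
set_option linter.style.haveILetI false
set_option linter.unusedSectionVars false

open Subgroup
open Cfsg.Agent.CharDeep.CA (cent nrm mem_cent)

namespace Cfsg.Agent.TwoR73.SE

universe u

variable {G : Type u} [Group G] [Finite G] {r : ℕ} {T W : Subgroup G}

theorem W_ne_bot_semireg (E : SE r T W) (hex : ∃ g : G, orderOf g = 2 * r)
    (hsemi : ∀ a ∈ T, a ≠ 1 → centralizer ({a} : Set G) ≤ centralizer (T : Set G)) : W ≠ ⊥ := by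
  obtain ⟨g, hg⟩ := hex
  have h2 : orderOf (g ^ r) = 2 := by
    rw [orderOf_pow' g E.hyp.prime.ne_zero, hg, Nat.gcd_eq_right (dvd_mul_left r 2),
      Nat.mul_div_cancel _ E.hyp.prime.pos]
  have hr' : orderOf (g ^ 2) = r := by
    rw [orderOf_pow' g two_ne_zero, hg, Nat.gcd_eq_right (dvd_mul_right 2 r),
      Nat.mul_div_cancel_left _ two_pos]
  obtain ⟨c, hc⟩ := E.sys.exists_conj_mem h2
  intro hW
  have hy : c * g ^ 2 * c⁻¹ ∈ centralizer (T : Set G) := by
    refine hsemi _ hc (fun e => ne_one_two h2 (conj_eq_one_iff.mp e)) ?_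
    exact mem_centralizer_singleton_iff.mpr
      ((Commute.conj_iff c).mpr ((Commute.refl g).pow_pow 2 r)).eq
  have hord : orderOf (c * g ^ 2 * c⁻¹) = r :=
    ((Involution.orderOf_conj c _).trans hr')
  have := E.W_max _ hy (hord.symm ▸ E.hyp.r_odd)
  rw [hW, mem_bot] at this
  rw [this, orderOf_one] at hord
  exact E.hyp.prime.one_lt.ne hord

/-- No `r`-elements outside `W`: a Zassenhaus group of impossible degree. -/
theorem false_of_no_r [IsSimpleGroup G] (E : SE r T W) (hW : W ≠ ⊥)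
    (hsemi : ∀ a ∈ T, a ≠ 1 → centralizer ({a} : Set G) ≤ centralizer (T : Set G))
    (hnr : ∀ y ∈ normalizer (T : Set G), orderOf y = r → y ∈ W) : False := by
  classical
  obtain ⟨t, ht, ht1⟩ := E.T_ne_bot
  have hct : cent t = centralizer (T : Set G) :=
    le_antisymm (hsemi t ht ht1) (centralizer_le (Set.singleton_subset_iff.mpr ht))
  have hCN : centralizer (T : Set G) ≤ normalizer (T : Set G) := centralizer_le_normalizer _
  have hNn : normalizer (cent t : Set G) = normalizer (T : Set G) := by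
    rw [hct]
    refine le_antisymm (Coprime.le_normalizer_of_conj_mem fun g hg x hx => ?_) ?_
    · refine E.sys.mem_of_commute ?_ ?_
      · rw [show g * x * g⁻¹ * (g * x * g⁻¹) = g * (x * x) * g⁻¹ by group, E.sys.sq hx, mul_one,
          mul_inv_cancel]
      · intro t' ht'
        have h1 : g * x * g⁻¹ ∈ centralizer (T : Set G) :=
          (mem_normalizer_iff.mp hg x).mp (E.T_cent hx)
        exact (mem_centralizer_iff.mp h1 t' ht').symm
    · exact Coprime.le_normalizer_centralizer le_rfl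
  obtain ⟨S, hS⟩ := E.sys.sylow
  have hsub : ∀ a ∈ cent t, a ≠ 1 → cent a ≤ cent t := by
    intro a ha ha1
    rw [hct] at ha ⊢
    obtain ⟨t', ht', w, hw, rfl⟩ := E.cent_T ha
    have hcw : Commute t' w := mem_centralizer_iff.mp (E.W_cent hw) t' ht'
    intro x hx
    have hxc : Commute x (t' * w) := mem_cent.mp hx
    by_cases ht'1 : t' = 1
    · subst ht'1
      rw [one_mul] at hxc ha1
      have hxM := E.cent_W hw ha1 (mem_centralizer_singleton_iff.mpr hxc.eq)
      obtain ⟨i, b, rfl, hi, hb, hi', hb'⟩ := E.hyp.exists_parts x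
      refine mul_mem (E.T_cent (E.inv_mem_T (zpowers_le.mpr hxM hi') hi)) ?_
      by_cases hb1 : b = 1
      · rw [hb1]; exact one_mem _
      obtain ⟨m, hm⟩ := mem_zpowers_iff.mp hb'
      have hbc : Commute w b := hm ▸ (hxc.symm.zpow_right m)
      rcases E.hyp.orderOf_cases_of_commute_r (E.hyp.orderOf_r E.W_r hw ha1) hbc
        (E.hyp.orderOf_prime hb1 hb) rfl with h2 | hr'
      · rw [h2] at hb; exact absurd hb (by decide)
      · exact E.W_cent (hnr b (zpowers_le.mpr hxM hb') hr')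
    · refine hsemi t' ht' ht'1 (mem_centralizer_singleton_iff.mpr ?_)
      have h1 : (t' * w) ^ r = t' := by
        rw [hcw.mul_pow, E.hyp.pow_r E.W_r hw, mul_one]
        obtain ⟨j, hj⟩ := E.hyp.r_odd
        rw [hj, pow_succ, pow_mul, pow_two, E.sys.sq ht', one_pow, one_mul]
      exact (h1 ▸ hxc.pow_right r : Commute x t').eq
  have hD : CharDeep.CC.Data G t :=
    { sub := hsub
      t_ne := ht1
      t_sq := E.sys.sq ht
      sylow := ⟨S, by rw [hS, hct]; exact E.T_cent⟩
      ne_top := by rw [hNn]; exact E.emb.1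
      ne_cent := by
        rw [hNn, hct]
        intro e
        obtain ⟨n, hn, hnc⟩ := E.sys.exists_fusion
        exact hnc (e ▸ hn) }
  obtain ⟨-, hZ, hΩ, -, -⟩ := CharDeep.CC.zassenhaus hD
  haveI := Fintype.ofFinite (G ⧸ nrm t)
  have hpp := S0346.result hZ
  rw [← Nat.card_eq_fintype_card, hΩ, Nat.add_sub_cancel, hct] at hpp
  obtain ⟨p, k, hp, hk, hpk⟩ := (isPrimePow_nat_iff _).mp hpp
  obtain ⟨w, hw, hw1⟩ := W.bot_or_exists_ne_one.resolve_left hW
  have h2 : 2 ∣ Nat.card (centralizer (T : Set G)) := by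
    rw [← E.sys.order_two ht ht1]
    exact Subgroup.orderOf_dvd_natCard _ (E.T_cent ht)
  have hr' : r ∣ Nat.card (centralizer (T : Set G)) := by
    rw [← E.hyp.orderOf_r E.W_r hw hw1]
    exact Subgroup.orderOf_dvd_natCard _ (E.W_cent hw)
  rw [← hpk] at h2 hr'
  have e2 := (Nat.prime_dvd_prime_iff_eq Nat.prime_two hp).mp (Nat.prime_two.dvd_of_dvd_pow h2)
  have er := (Nat.prime_dvd_prime_iff_eq E.hyp.prime hp).mp (E.hyp.prime.dvd_of_dvd_pow hr')
  exact E.hyp.ne_two (er.trans e2.symm)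

theorem false_semireg [IsSimpleGroup G] (E : SE r T W) (hex : ∃ g : G, orderOf g = 2 * r)
    (hsemi : ∀ a ∈ T, a ≠ 1 → centralizer ({a} : Set G) ≤ centralizer (T : Set G)) : False := by
  classical
  haveI := Fact.mk E.hyp.prime
  have hW := E.W_ne_bot_semireg hex hsemi
  by_cases hnr : ∀ y ∈ normalizer (T : Set G), orderOf y = r → y ∈ W
  · exact E.false_of_no_r hW hsemi hnr
  push Not at hnr
  obtain ⟨y, hyM, hyr, hyW⟩ := hnr
  set M := normalizer (T : Set G) with hM
  -- a swapping involution moves `W` out of `M`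
  have hDW : ∀ u : G, u ∉ M → u * u = 1 → ∀ x ∈ W, u * x * u ∈ M → x = 1 := by
    intro u hu hu2 x hx hx'
    by_contra hx1
    set x' := u * x * u with hx'def
    have hWn := E.W_norm
    have hcj : ∀ z ∈ W, u * z * u ∈ W → z = 1 := fun z hz hz' => by
      by_contra hz1
      exact hu (E.W_conj hz hz1 (by rwa [inv_two hu2]))
    have hc1 : x * x' * x⁻¹ * x'⁻¹ ∈ W := by
      rw [mul_assoc, mul_assoc, ← mul_assoc x']
      exact mul_mem hx ((mem_normalizer_iff.mp (hWn hx') _).mp (inv_mem hx))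
    have hxM : x ∈ M := (E.W_cent.trans (centralizer_le_normalizer _)) hx
    have hxu : u * x * u ∈ M := hx'
    have hc2 : u * (x * x' * x⁻¹ * x'⁻¹) * u ∈ W := by
      have e : u * (x * x' * x⁻¹ * x'⁻¹) * u = (x' * x * x'⁻¹) * x⁻¹ := by
        rw [hx'def, mul_inv_rev, mul_inv_rev, inv_two hu2]
        simp only [mul_assoc]
        rw [hu2, mul_one]
      rw [e]
      exact mul_mem ((mem_normalizer_iff.mp (hWn hxu) _).mp hx) (inv_mem hx)
    have hcomm : Commute x x' := by
      have := hcj _ hc1 hc2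
      rw [mul_inv_eq_one, mul_inv_eq_iff_eq_mul] at this
      exact this
    set z := x * x' with hz
    have hzu : Commute z u := by
      have : u * z * u = z := by
        rw [hz, hcomm.eq]
        nth_rewrite 1 [hx'def]
        rw [show u * (u * x * u * x) * u = (u * u) * x * (u * x * u) by group, hu2, one_mul, ← hx'def,
          hcomm.eq]
      rw [Commute, SemiconjBy]
      calc z * u = (u * z * u) * u := by rw [this]
        _ = u * z * (u * u) := by group
        _ = u * z := by rw [hu2, mul_one]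
    have hz1 : z ≠ 1 := fun e => hx1 (hcj x hx (by
      rw [← hx'def, eq_inv_of_mul_eq_one_right e]; exact inv_mem hx))
    have hzr : z ^ r = 1 := by
      rw [hz, hcomm.mul_pow, E.hyp.pow_r E.W_r hx, one_mul, hx'def,
        show u * x * u = u * x * u⁻¹ by rw [inv_two hu2], conj_pow, E.hyp.pow_r E.W_r hx, mul_one,
        mul_inv_cancel]
    have hu1 : u ≠ 1 := fun e => hu (e ▸ one_mem _)
    obtain ⟨g, hg⟩ := E.sys.exists_conj_mem (orderOf_two hu2 hu1)
    have hgu1 : g * u * g⁻¹ ≠ 1 := fun e => hu1 (conj_eq_one_iff.mp e)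
    have hgz : g * z * g⁻¹ ∈ W := by
      refine E.W_max _ (hsemi _ hg hgu1 (mem_centralizer_singleton_iff.mpr
        ((Commute.conj_iff g).mpr hzu).eq)) ?_
      rw [Involution.orderOf_conj]
      exact E.hyp.r_odd.of_dvd_nat (orderOf_dvd_of_pow_eq_one hzr)
    have hgx : g * x * g⁻¹ ∈ M :=
      E.cent_W hgz (fun e => hz1 (conj_eq_one_iff.mp e)) (mem_centralizer_singleton_iff.mpr
        ((Commute.conj_iff g).mpr ((Commute.refl x).mul_right hcomm)).eq)
    have hT' : g * (x * x'⁻¹) * g⁻¹ ∈ T := by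
      have h1 := mul_mem ((mem_normalizer_iff.mp hgx _).mp hg) hg
      have e : g * (x * x'⁻¹) * g⁻¹ =
          g * x * g⁻¹ * (g * u * g⁻¹) * (g * x * g⁻¹)⁻¹ * (g * u * g⁻¹) := by
        rw [hx'def, mul_inv_rev, mul_inv_rev, inv_two hu2]
        group
      rw [e]
      exact h1
    have hxx : x * x'⁻¹ = 1 := by
      refine eq_one_of_odd_of_sq (E.hyp.r_odd.of_dvd_nat (orderOf_dvd_of_pow_eq_one ?_)) ?_
      · rw [(hcomm.inv_right).mul_pow, E.hyp.pow_r E.W_r hx, one_mul, inv_pow, hx'def,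
          show u * x * u = u * x * u⁻¹ by rw [inv_two hu2], conj_pow, E.hyp.pow_r E.W_r hx,
          mul_one, mul_inv_cancel, inv_one]
      · have := E.sys.sq hT'
        rwa [show g * (x * x'⁻¹) * g⁻¹ * (g * (x * x'⁻¹) * g⁻¹) =
          g * (x * x'⁻¹ * (x * x'⁻¹)) * g⁻¹ by group, conj_eq_one_iff] at this
    rw [mul_inv_eq_one] at hxx
    exact hx1 (hcj x hx (by rw [← hx'def, ← hxx]; exact hx))
  have hfix : ∀ g x : G, x ∈ W → x ≠ 1 → g⁻¹ * x * g ∈ M → g ∈ M := by
    intro g x hx hx1 hgx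
    by_contra hg
    obtain ⟨u, hu2, hu, hgu⟩ := E.exists_rep (y := QuotientGroup.mk g) (fun e => hg (by
      have := QuotientGroup.eq.mp e
      rwa [mul_one, inv_mem_iff] at this))
    have hm := QuotientGroup.eq.mp hgu
    refine hx1 (hDW u hu hu2 x hx ?_)
    have e : u * x * u = (g⁻¹ * u)⁻¹ * (g⁻¹ * x * g) * (g⁻¹ * u) := by
      rw [mul_inv_rev, inv_two hu2, inv_inv]; group
    rw [e]
    exact mul_mem (mul_mem (inv_mem hm) hgx) hm
  have hidx := E.index_not_dvd hW hfix
  -- a coset and its stabiliser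
  obtain ⟨z, hz⟩ := TwoFusionB.exists_ne_coset E.emb (QuotientGroup.mk 1 : G ⧸ M)
  obtain ⟨u, hu2, hu, -⟩ := E.exists_rep hz.symm
  obtain ⟨a, ha, ha1⟩ := E.T_ne_bot
  set D := E.stab2 u with hD
  have hCD : ∀ d ∈ D, d ∈ centralizer (T : Set G) → d = 1 := by
    intro d hd hdC
    obtain ⟨h1, h2⟩ := (E.mem_stab2 hu2).mp hd
    exact hDW u hu hu2 d (E.W_max d hdC (E.odd_of_swap hu hu2 h1 h2)) h2
  have hDcard : Nat.card D ≤ Nat.card T - 1 := by
    rw [← E.card_fixInv, TwoFusionB.card_fixInv_one]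
    refine Nat.card_le_card_of_injective (fun d : D => ⟨(d : G) * a * (d : G)⁻¹,
      (Involution.orderOf_conj _ _).trans (E.sys.order_two ha ha1),
      le_normalizer ((mem_normalizer_iff.mp ((E.mem_stab2 hu2).mp d.2).1 _).mp ha)⟩) ?_
    intro d d' he
    have he' : (d : G) * a * (d : G)⁻¹ = d' * a * (d' : G)⁻¹ := congrArg Subtype.val he
    refine Subtype.ext (inv_mul_eq_one.mp (hCD _ (mul_mem (inv_mem d.2) d'.2) (hsemi a ha ha1 ?_)))
    rw [mem_centralizer_singleton_iff]
    calc (d : G)⁻¹ * d' * a = (d : G)⁻¹ * (d' * a * (d' : G)⁻¹) * d' := by group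
      _ = (d : G)⁻¹ * (d * a * (d : G)⁻¹) * d' := by rw [he']
      _ = _ := by group
  let f : {d : G // d ∈ M ∧ u * d * u = d⁻¹} → D := fun d =>
    ⟨d.1, (E.mem_stab2 hu2).mpr ⟨d.2.1, d.2.2.symm ▸ inv_mem d.2.1⟩⟩
  have hfinj : Function.Injective f := fun d d' e => Subtype.ext (congrArg (fun z : D => (z : G)) e)
  have hle := E.card_inverted hu hu2
  have hge := Nat.card_le_card_of_injective f hfinj
  have hDeq : Nat.card D = Nat.card T - 1 := le_antisymm hDcard (hle.trans hge)
  have hall : ∀ d ∈ D, u * d * u = d⁻¹ := by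
    intro d hd
    obtain ⟨⟨e, he⟩, hee⟩ := (hfinj.bijective_of_nat_card_le (hDeq.le.trans hle)).2 ⟨d, hd⟩
    have : e = d := congrArg (fun z : D => (z : G)) hee
    exact this ▸ he.2
  -- an inverted element of order `r`
  have hrs : r ∣ Nat.card T - 1 := by
    have h1 := card_fixT_modEq E.hyp.prime (hyr ▸ pow_orderOf_eq_one y) hyM
    have h2 : fixT T y = ⊥ := by
      rw [eq_bot_iff]
      intro t ht
      rw [mem_bot]
      obtain ⟨htT, hty⟩ := mem_fixT.mp ht
      by_contra ht1
      exact hyW (E.W_max y (hsemi t htT ht1 (mem_centralizer_singleton_iff.mpr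
        (mul_inv_eq_iff_eq_mul.mp hty))) (hyr ▸ E.hyp.r_odd))
    rw [h2, Subgroup.card_bot] at h1
    exact (Nat.modEq_iff_dvd' Nat.card_pos).mp h1.symm
  obtain ⟨⟨d, hdD⟩, hd⟩ := exists_prime_orderOf_dvd_card' (G := D) r (hDeq ▸ hrs)
  rw [Subgroup.orderOf_mk] at hd
  obtain ⟨hdM, hduM⟩ := (E.mem_stab2 hu2).mp hdD
  have hd1 : d ≠ 1 := fun e => by rw [e, orderOf_one] at hd; exact E.hyp.prime.one_lt.ne hd
  have hCdr : IsPGroup r (centralizer ({d} : Set G)) := by
    refine IsPGroup.of_card (n := (Nat.card (centralizer ({d} : Set G))).primeFactorsList.length)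
      (Nat.eq_prime_pow_of_unique_prime_dvd Nat.card_pos.ne' fun {q} hq hqd => ?_)
    haveI := Fact.mk hq
    obtain ⟨⟨i, hiC⟩, hi⟩ := exists_prime_orderOf_dvd_card' q hqd
    rw [Subgroup.orderOf_mk] at hi
    have hic : Commute d i := (mem_centralizer_singleton_iff.mp hiC).symm
    rcases E.hyp.orderOf_cases_of_commute_r hd hic hq hi with h2 | hr'
    · exfalso
      obtain ⟨g, hg⟩ := E.sys.exists_conj_mem (hi.trans h2)
      have hgd : g * d * g⁻¹ ∈ W := by
        refine E.W_max _ (hsemi _ hg (fun e => ne_one_two (hi.trans h2) (conj_eq_one_iff.mp e))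
          (mem_centralizer_singleton_iff.mpr ((Commute.conj_iff g).mpr hic).eq)) ?_
        rw [Involution.orderOf_conj, hd]
        exact E.hyp.r_odd
      have h1 := hfix g _ hgd (fun e => hd1 (conj_eq_one_iff.mp e)) (by
        rw [show g⁻¹ * (g * d * g⁻¹) * g = d by group]; exact hdM)
      have h3 := hfix (g * u) _ hgd (fun e => hd1 (conj_eq_one_iff.mp e)) (by
        rw [show (g * u)⁻¹ * (g * d * g⁻¹) * (g * u) = u⁻¹ * d * u by group, inv_two hu2]
        exact hduM)
      exact hu ((mul_mem_cancel_left h1).mp h3)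
    · exact hr'
  -- a fixed point of `d` in `W`
  obtain ⟨x, hxW, hx1, hxd⟩ : ∃ x ∈ W, x ≠ 1 ∧ Commute d x := by
    have hdW : d ∈ normalizer (W : Set G) := E.W_norm hdM
    let P := zpowers (⟨d, hdW⟩ : normalizer (W : Set G))
    letI : MulAction P W :=
      { smul := fun p t => W.normalizerMonoidHom p.1 t
        one_smul := fun t => by
          show W.normalizerMonoidHom ((1 : P) : normalizer (W : Set G)) t = t
          rw [OneMemClass.coe_one, map_one]; rfl
        mul_smul := fun p p' t => by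
          show W.normalizerMonoidHom ((p * p' : P) : normalizer (W : Set G)) t = _
          rw [Subgroup.coe_mul, map_mul]; rfl }
    have hP : IsPGroup r P := IsPGroup.of_card (n := 1) (by
      rw [Nat.card_zpowers, Subgroup.orderOf_mk, hd, pow_one])
    have hrW : r ∣ Nat.card W := by
      obtain ⟨w, hw, hw1⟩ := W.bot_or_exists_ne_one.resolve_left hW
      rw [← E.hyp.orderOf_r E.W_r hw hw1]
      exact Subgroup.orderOf_dvd_natCard _ hw
    have h1 : (1 : W) ∈ MulAction.fixedPoints P W := fun p => map_one (W.normalizerMonoidHom p.1)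
    obtain ⟨x, hx, hx1⟩ := hP.exists_fixed_point_of_prime_dvd_card_of_fixed_point W hrW h1
    refine ⟨x, x.2, fun e => hx1 (Subtype.ext e.symm), ?_⟩
    have := congrArg (fun z : W => (z : G)) (hx ⟨_, mem_zpowers _⟩)
    exact mul_inv_eq_iff_eq_mul.mp this
  obtain ⟨g, hg⟩ := E.exists_fix_of_pgroup hidx hCdr
  have hgM := hfix g x hxW hx1 (hg x (mem_centralizer_singleton_iff.mpr hxd.symm.eq))
  refine hx1 (hDW u hu hu2 x hxW ?_)
  have hC : u * x * u ∈ centralizer ({d} : Set G) := by
    rw [mem_centralizer_singleton_iff]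
    have hdi : d = u * d⁻¹ * u := by
      rw [← hall d hdD]
      rw [show u * (u * d * u) * u = (u * u) * d * (u * u) by group, hu2, one_mul, mul_one]
    calc u * x * u * d = u * x * (u * d * u) * u := by
          rw [show u * x * (u * d * u) * u = u * x * u * d * (u * u) by group, hu2, mul_one]
      _ = u * (x * d⁻¹) * u := by rw [hall d hdD]; group
      _ = u * (d⁻¹ * x) * u := by rw [hxd.inv_left.eq]
      _ = (u * d⁻¹ * u) * (u * x * u) := by
          rw [show (u * d⁻¹ * u) * (u * x * u) = u * d⁻¹ * (u * u) * x * u by group, hu2, mul_one]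
          group
      _ = _ := by rw [← hdi]
  have := mul_mem (mul_mem hgM (hg _ hC)) (inv_mem hgM)
  rwa [show g * (g⁻¹ * (u * x * u) * g) * g⁻¹ = u * x * u by group] at this

end Cfsg.Agent.TwoR73.SE
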