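import Cfsg.Agent.TwoR73.TwistedCount

/-!
# The case of trivial `W`: contradiction
-/

set_option autoImplicit false
set_option linter.style.haveILetI false
set_option linter.unusedSectionVars false

open Subgroup

namespace Cfsg.Agent.TwoR73.SE

universe u

variable {G : Type u} [Group G] [Finite G] {r : ℕ} {T : Subgroup G}
variable (E : SE r T (⊥ : Subgroup G)) (w : Tw r T)
include E w

theorem four_false {P Q : Subgroup G} (hP2 : IsPGroup 2 P) (hP4 : 4 ≤ Nat.card P)
    (hPQ : P ≤ normalizer (Q : Set G)) (hQc : ∀ x ∈ Q, ∀ y ∈ Q, Commute x y)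
    (hQs : ∀ x ∈ Q, x ≠ 1 → orderOf x = w.s) (hσQ : (w.σ : G) ∈ Q) : False := by
  have hsq : ∀ x ∈ P, x * x = 1 := fun x hx => E.hyp.two_group_sq hP2 hx
  have hfree : ∀ a ∈ P, a ≠ 1 → ∀ x ∈ Q, Commute a x → x = 1 := by
    intro a ha ha1 x hx hc
    by_contra hx1
    exact w.s_ne ((hQs x hx hx1).symm.trans (E.hyp.orderOf_r_of_commute (orderOf_two (hsq a ha) ha1)
      hc hx1 ((hQs x hx hx1).symm ▸ E.s_odd w)))
  have hinv : ∀ a ∈ P, a ≠ 1 → a * (w.σ : G) * a⁻¹ = (w.σ : G)⁻¹ := by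
    intro a ha ha1
    have hm : a * (w.σ : G) * a⁻¹ ∈ Q := (mem_normalizer_iff.mp (hPQ ha) _).mp hσQ
    have hinva := inv_two (hsq a ha)
    have h1 := hfree a ha ha1 _ (mul_mem hσQ hm) (by
      rw [Commute, SemiconjBy]
      calc a * ((w.σ : G) * (a * w.σ * a⁻¹)) = (a * w.σ * a⁻¹) * (a * a) * w.σ * a⁻¹ := by group
        _ = (a * w.σ * a⁻¹) * w.σ * a := by rw [hsq a ha, mul_one, hinva]
        _ = _ := by rw [(hQc _ hm _ hσQ).eq])
    exact (eq_inv_of_mul_eq_one_right h1)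
  cases nonempty_fintype P
  haveI : Nontrivial P := (Finite.one_lt_card_iff_nontrivial).mp (by omega)
  obtain ⟨a, ha⟩ := exists_ne (1 : P)
  obtain ⟨b, hb1, hba⟩ : ∃ b : P, b ≠ 1 ∧ b ≠ a := by
    classical
    by_contra hcon
    push Not at hcon
    have hsub : (Finset.univ : Finset P) ⊆ {1, a} := fun b _ => by
      rw [Finset.mem_insert, Finset.mem_singleton]
      by_cases h1 : b = 1
      · exact Or.inl h1
      · exact Or.inr (hcon b h1)
    have := Finset.card_le_card hsub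
    rw [Finset.card_univ, ← Nat.card_eq_fintype_card] at this
    have := this.trans Finset.card_le_two
    omega
  have ha' : (a : G) ≠ 1 := fun e => ha (Subtype.ext e)
  have hb' : (b : G) ≠ 1 := fun e => hb1 (Subtype.ext e)
  have hab : (a : G) * b ≠ 1 := fun e => hba (Subtype.ext (by
    rw [eq_inv_of_mul_eq_one_right e, inv_two (hsq a a.2)]))
  refine E.sigma_ne w (hfree _ (mul_mem a.2 b.2) hab _ hσQ ?_)
  rw [Commute, SemiconjBy]
  have h := hinv b b.2 hb'
  have h' := hinv a a.2 ha'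
  have h'' : (a : G) * (w.σ : G)⁻¹ * (a : G)⁻¹ = w.σ := by
    have := congrArg Inv.inv h'
    rwa [mul_inv_rev, mul_inv_rev, inv_inv, inv_inv, ← mul_assoc] at this
  calc (a : G) * b * w.σ = (a : G) * ((b : G) * w.σ * (b : G)⁻¹) * (a : G)⁻¹ * ((a : G) * b) := by group
    _ = _ := by rw [h, h'']

/-- The index is `s + 2`. -/
theorem index_eq : (normalizer (T : Set G)).index = w.s + 2 ∧
    Nat.card {z : G ⧸ normalizer (T : Set G) // (w.σ : G) • z = z} = 2 := by
  classical
  haveI := Fact.mk w.s_prime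
  haveI := Fact.mk E.hyp.prime
  cases nonempty_fintype (G ⧸ normalizer (T : Set G))
  set s := w.s with hs
  set N := (normalizer (T : Set G)).index with hN
  set f := Nat.card {z : G ⧸ normalizer (T : Set G) // (w.σ : G) • z = z} with hf
  set Q := centralizer ({(w.σ : G)} : Set G) with hQ
  obtain ⟨c, hc⟩ := IsPGroup.iff_card.mp (E.isPGroup_cent w w.σ_ord)
  rw [← hQ, ← hs] at hc
  have hσQ : (w.σ : G) ∈ Q := mem_centralizer_singleton_iff.mpr rfl
  have hc0 : c ≠ 0 := fun e => by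
    rw [e, pow_zero, Subgroup.card_eq_one] at hc
    rw [hc, mem_bot] at hσQ
    exact E.sigma_ne w hσQ
  obtain ⟨c, rfl⟩ := Nat.exists_eq_succ_of_ne_zero hc0
  have hH := E.card_H w
  rw [← hQ, hc] at hH
  have hfH := E.card_fix_mul w
  rw [hH, ← hf, pow_succ] at hfH
  have hf2 : f = 2 * s ^ c := by
    have : f * (s * r) = (2 * s ^ c) * (s * r) := by rw [hfH]; ring
    exact Nat.eq_of_mul_eq_mul_right (Nat.mul_pos w.s_prime.pos E.hyp.prime.pos) this
  have hoth := E.card_others w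
  rw [← hf, ← hN, hf2, ← hs] at hoth
  have hcardG : Nat.card G = (s + 1) * s * r * N := by
    rw [← (normalizer (T : Set G)).card_mul_index, E.card_M w]
  have hpc : 0 < s ^ c := pow_pos w.s_prime.pos c
  have hNs : N + s = 2 * (s + 1) * s ^ c := by
    rw [← hoth]
    obtain ⟨m, hm⟩ := Nat.exists_eq_add_of_le (show 1 ≤ 2 * s ^ c by omega)
    rw [show 2 * (s + 1) * s ^ c = (s + 1) * (2 * s ^ c) by ring, hm, Nat.add_sub_cancel_left]
    ring
  have hdvd : s ^ c ∣ N := by
    have h1 : s * s ^ c ∣ s * ((s + 1) * r * N) := by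
      have h0 := card_subgroup_dvd_card Q
      rw [hc, hcardG] at h0
      rwa [show s * s ^ c = s ^ (c + 1) by ring, show s * ((s + 1) * r * N) = (s + 1) * s * r * N by ring]
    have h2 := Nat.dvd_of_mul_dvd_mul_left w.s_prime.pos h1
    refine (Nat.Coprime.dvd_of_dvd_mul_left ?_ h2)
    refine Nat.Coprime.mul_right ?_ ?_
    · exact (Nat.coprime_self_add_right.mpr (Nat.coprime_one_right s)).pow_left c
    · exact ((Nat.coprime_primes w.s_prime E.hyp.prime).mpr w.s_ne).pow_left c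
  have hc1 : c ≤ 1 := by
    by_contra hlt
    have h1 : s ^ 2 ∣ s ^ c := pow_dvd_pow s (by omega)
    have h2 : s ^ 2 ∣ N + s := hNs ▸ h1.mul_left _
    have h3 : s ^ 2 ∣ s := (Nat.dvd_add_right (h1.trans hdvd)).mp h2
    have := Nat.le_of_dvd w.s_prime.pos h3
    have := w.s_prime.two_le
    nlinarith
  rcases Nat.le_one_iff_eq_zero_or_eq_one.mp hc1 with rfl | rfl
  · rw [pow_zero, mul_one] at hf2 hNs
    exact ⟨by omega, hf2⟩
  exfalso
  rw [pow_one] at hf2 hNs
  have hN2 : N = 2 * s * s + s := by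
    have : N + s = 2 * s * s + 2 * s := by rw [hNs]; ring
    omega
  -- `C(x) = Q` for all `x ∈ Q#`
  have hQc : ∀ x ∈ Q, ∀ y ∈ Q, Commute x y := fun x hx y hy =>
    congrArg Subtype.val (((IsPGroup.isMulCommutative_of_card_eq_prime_sq (p := s) hc).is_comm.comm
      (⟨x, hx⟩ : Q) ⟨y, hy⟩))
  have hQs : ∀ x ∈ Q, x ≠ 1 → orderOf x = s := by
    intro x hx hx1
    have hd : orderOf x ∣ s ^ 2 := hc ▸ Subgroup.orderOf_dvd_natCard Q hx
    have hodd : Odd (orderOf x) := (E.s_odd w).pow.of_dvd_nat hd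
    have hp := E.hyp.orderOf_prime hx1 hodd
    exact (Nat.prime_dvd_prime_iff_eq hp w.s_prime).mp (hp.dvd_of_dvd_pow hd)
  have hQmax : ∀ R : Subgroup G, IsPGroup s R → Q ≤ R → R = Q := by
    intro R hR hQR
    refine (eq_of_le_of_card_ge hQR ?_).symm
    obtain ⟨k, hk⟩ := IsPGroup.iff_card.mp hR
    rw [hc, hk]
    refine Nat.pow_le_pow_right w.s_prime.pos ?_
    have hd : s ^ k ∣ (s + 1) * s * r * N := hcardG ▸ hk ▸ card_subgroup_dvd_card R
    rw [hN2, show (s + 1) * s * r * (2 * s * s + s) = s ^ 2 * ((s + 1) * r * (2 * s + 1)) by ring] at hd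
    by_contra hk3
    have h3 : s ^ 2 * s ∣ s ^ 2 * ((s + 1) * r * (2 * s + 1)) :=
      ((pow_succ s 2).symm ▸ pow_dvd_pow s (show 2 + 1 ≤ k by omega) : s ^ 2 * s ∣ s ^ k).trans hd
    have h4 := Nat.dvd_of_mul_dvd_mul_left (pow_pos w.s_prime.pos 2) h3
    rcases w.s_prime.dvd_mul.mp h4 with h5 | h5
    · rcases w.s_prime.dvd_mul.mp h5 with h6 | h6
      · have := (Nat.dvd_add_right (dvd_refl s)).mp h6
        exact w.s_prime.one_lt.ne' (Nat.dvd_one.mp this)
      · exact w.s_ne ((Nat.prime_dvd_prime_iff_eq w.s_prime E.hyp.prime).mp h6)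
    · have := (Nat.dvd_add_right (dvd_mul_left s 2)).mp h5
      exact w.s_prime.one_lt.ne' (Nat.dvd_one.mp this)
  have hCx : ∀ x ∈ Q, x ≠ 1 → centralizer ({x} : Set G) = Q := fun x hx hx1 =>
    hQmax _ (E.isPGroup_cent w (hQs x hx hx1))
      fun y hy => mem_centralizer_singleton_iff.mpr (hQc y hy x hx).eq
  set H := normalizer (zpowers (w.σ : G) : Set G) with hHdef
  set NQ := normalizer (Q : Set G) with hNQ
  have hHNQ : H ≤ NQ := by
    rw [hNQ, hQ, ← E.centralizer_zpowers_sigma w]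
    exact Coprime.le_normalizer_centralizer le_rfl
  -- elements of `Q` with a fixed point
  let K := {x : Q // (x : G) ≠ 1 ∧ ∃ z : G ⧸ normalizer (T : Set G), (x : G) • z = z}
  have hKconj : ∀ x : K, ∃ g ∈ NQ, ∃ i : ℕ, (x.1 : G) = g * (w.σ : G) ^ i * g⁻¹ := by
    rintro ⟨⟨x, hxQ⟩, hx1, z, hz⟩
    obtain ⟨g, rfl⟩ := QuotientGroup.mk_surjective z
    have hm := TwoFusionB.smul_mk_eq_iff.mp hz
    have hord : orderOf (g⁻¹ * x * g) = s := by
      have := Involution.orderOf_conj g⁻¹ x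
      rw [inv_inv] at this
      exact this.trans (hQs x hxQ hx1)
    have hφ : w.φ ⟨_, hm⟩ = 1 := by
      rw [← orderOf_eq_one_iff]
      refine Nat.eq_one_of_dvd_coprimes ((Nat.coprime_primes w.s_prime E.hyp.prime).mpr w.s_ne) ?_
        (orderOf_dvd_of_pow_eq_one (w.φ_pow _))
      exact ((orderOf_map_dvd w.φ _).trans (Subgroup.orderOf_mk (g⁻¹ * x * g) hm).dvd).trans hord.dvd
    rcases E.ker_cases w ⟨_, hm⟩ hφ with h | ⟨t, -, i, hi, he⟩
    · have h1 : g⁻¹ * x * g = 1 := eq_one_of_odd_of_sq (hord ▸ E.s_odd w) (E.sys.sq h)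
      rw [h1, orderOf_one] at hord
      exact absurd hord w.s_prime.one_lt.ne
    replace he : g⁻¹ * x * g = t * (w.σ : G) ^ i * t⁻¹ := he
    have hx : x = (g * t) * (w.σ : G) ^ i * (g * t)⁻¹ := by
      calc x = g * (g⁻¹ * x * g) * g⁻¹ := by group
        _ = _ := by rw [he]; group
    refine ⟨g * t, ?_, i, hx⟩
    -- `g t` carries `Q = C(σ^i)` to `C(x) = Q`
    have hσi : (w.σ : G) ^ i ∈ Q := pow_mem hσQ i
    have hmap : Q.map (MulAut.conj (g * t)).toMonoidHom = Q := by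
      have hle : Q.map (MulAut.conj (g * t)).toMonoidHom ≤ centralizer ({x} : Set G) := by
        rintro _ ⟨y, hy, rfl⟩
        refine mem_centralizer_singleton_iff.mpr ?_
        rw [hx]
        exact ((Commute.conj_iff (g * t)).mpr (hQc y hy _ hσi)).eq
      rw [hCx x hxQ hx1] at hle
      exact eq_of_le_of_card_ge hle (by rw [card_map_of_injective (MulAut.conj _).injective])
    rw [hNQ, mem_normalizer_iff]
    intro y
    refine ⟨fun hy => hmap ▸ ⟨y, hy, rfl⟩, fun hy => ?_⟩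
    rw [← hmap] at hy
    obtain ⟨y', hy', he'⟩ := hy
    have : y' = y := (MulAut.conj (g * t)).injective he'
    rwa [← this]
  -- Burnside counting
  have hfixK : ∀ x : K, Nat.card {z : G ⧸ normalizer (T : Set G) // (x.1 : G) • z = z} = 2 * s := by
    intro x
    obtain ⟨g, -, i, hi⟩ := hKconj x
    have hi' : ¬ s ∣ i := fun hd => x.2.1 (by
      rw [hi, orderOf_dvd_iff_pow_eq_one.mp (w.σ_ord.symm ▸ hd), mul_one, mul_inv_cancel])
    obtain ⟨m, -, hm⟩ := Nat.exists_mul_mod_eq_one_of_coprime (n := i) (k := s)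
      ((w.s_prime.coprime_iff_not_dvd.mpr hi').symm) w.s_prime.one_lt
    have hm' : ((w.σ : G) ^ i) ^ m = w.σ := by
      rw [← pow_mul, ← Nat.div_add_mod (i * m) s, hm, pow_add, pow_mul, hs, ← w.σ_ord,
        pow_orderOf_eq_one, one_pow, one_mul, pow_one]
    have hit : ∀ (a : G) (z : G ⧸ normalizer (T : Set G)) (k : ℕ), a • z = z → (a ^ k) • z = z := by
      intro a z k ha
      induction k with
      | zero => rw [pow_zero, one_smul]
      | succ k ih => rw [pow_succ, mul_smul, ha, ih]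
    rw [← hf2]
    refine Nat.card_congr ((MulAction.toPerm (g⁻¹ : G)).subtypeEquiv fun z => ?_)
    show (x.1 : G) • z = z ↔ (w.σ : G) • (g⁻¹ • z) = g⁻¹ • z
    rw [hi, mul_smul, mul_smul, ← eq_inv_smul_iff]
    refine ⟨fun h => ?_, fun h => hit _ _ i h⟩
    have := hit _ _ m h
    rwa [hm'] at this
  have hburn : s ^ 2 ∣ N + Nat.card K * (2 * s) := by
    cases nonempty_fintype Q
    haveI : ∀ x : Q, Fintype (MulAction.fixedBy (G ⧸ normalizer (T : Set G)) x) :=
      fun x => Fintype.ofFinite _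
    haveI : Fintype (MulAction.orbitRel.Quotient Q (G ⧸ normalizer (T : Set G))) := Fintype.ofFinite _
    have h := MulAction.sum_card_fixedBy_eq_card_orbits_mul_card_group Q
      (G ⧸ normalizer (T : Set G))
    have hcQ : Fintype.card Q = s ^ 2 := by rw [← Nat.card_eq_fintype_card, hc]
    rw [hcQ] at h
    refine ⟨Fintype.card (MulAction.orbitRel.Quotient Q (G ⧸ normalizer (T : Set G))), ?_⟩
    rw [mul_comm (s ^ 2), ← h, ← Finset.add_sum_erase _ _ (Finset.mem_univ (1 : Q))]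
    congr 1
    · rw [hN, Subgroup.index_eq_card, ← Nat.card_eq_fintype_card]
      exact Nat.card_congr (Equiv.subtypeUnivEquiv fun z => one_smul Q z).symm
    · let P : Q → Prop := fun x => ∃ z : G ⧸ normalizer (T : Set G), (x : G) • z = z
      rw [← Finset.sum_filter_add_sum_filter_not _ P]
      have h0 : ∑ x ∈ ((Finset.univ : Finset Q).erase 1).filter (fun x => ¬ P x),
          Fintype.card (MulAction.fixedBy (G ⧸ normalizer (T : Set G)) x) = 0 := by
        refine Finset.sum_eq_zero fun x hx => ?_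
        rw [Fintype.card_eq_zero_iff]
        exact ⟨fun z => (Finset.mem_filter.mp hx).2 ⟨z.1, z.2⟩⟩
      rw [h0, add_zero]
      have hmem : ∀ x : Q, x ∈ ((Finset.univ : Finset Q).erase 1).filter P ↔
          ((x : G) ≠ 1 ∧ P x) := fun x => by
        simp only [Finset.mem_filter, Finset.mem_erase, Finset.mem_univ, and_true]
        exact and_congr_left' ⟨fun h e => h (Subtype.ext e), fun h e => h (congrArg Subtype.val e)⟩
      rw [Finset.sum_congr rfl (g := fun _ => 2 * s) fun x hx => ?_, Finset.sum_const, smul_eq_mul]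
      · congr 1
        rw [Nat.card_eq_fintype_card]
        exact Fintype.card_of_subtype _ hmem
      · rw [← Nat.card_eq_fintype_card]
        exact hfixK ⟨x, (hmem x).mp hx⟩
  have hKH : Nat.card K * Nat.card H = Nat.card NQ * (s - 1) := by
    have hpow : ∀ i : {i : ℕ // i < s ∧ i ≠ 0}, (w.σ : G) ^ (i : ℕ) ≠ 1 := fun i e => by
      have := Nat.le_of_dvd (Nat.pos_of_ne_zero i.2.2) (w.σ_ord ▸ orderOf_dvd_of_pow_eq_one e)
      have := i.2.1
      omega
    let F : NQ × {i : ℕ // i < s ∧ i ≠ 0} → K := fun p =>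
      ⟨⟨(p.1 : G) * (w.σ : G) ^ (p.2 : ℕ) * (p.1 : G)⁻¹,
        (mem_normalizer_iff.mp p.1.2 _).mp (pow_mem hσQ _)⟩,
        fun e => hpow p.2 (conj_eq_one_iff.mp e),
        (p.1 : G) • (QuotientGroup.mk 1), by
          show ((p.1 : G) * (w.σ : G) ^ (p.2 : ℕ) * (p.1 : G)⁻¹) • ((p.1 : G) • _) = _
          rw [← mul_smul, inv_mul_cancel_right, mul_smul]
          congr 1
          exact TwoFusionB.smul_one_eq_iff.mpr (pow_mem w.σ.2 _)⟩
    have hfib : ∀ k : K, Nat.card {p // F p = k} = Nat.card H := by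
      intro k
      obtain ⟨g0, hg0, i0, hk⟩ := hKconj k
      have hi0 : (w.σ : G) ^ i0 ≠ 1 := fun e => k.2.1 (by rw [hk, e, mul_one, mul_inv_cancel])
      let φ0 : {p // F p = k} → H := fun p => ⟨g0⁻¹ * (p.1.1 : G), by
        have h1 : (p.1.1 : G) * (w.σ : G) ^ (p.1.2 : ℕ) * (p.1.1 : G)⁻¹ =
            g0 * (w.σ : G) ^ i0 * g0⁻¹ := by
          rw [← hk]; exact congrArg (fun k : K => ((k.1 : Q) : G)) p.2
        have h2 : (g0⁻¹ * (p.1.1 : G)) * (w.σ : G) ^ (p.1.2 : ℕ) * (g0⁻¹ * (p.1.1 : G))⁻¹ =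
            (w.σ : G) ^ i0 := by
          calc _ = g0⁻¹ * ((p.1.1 : G) * (w.σ : G) ^ (p.1.2 : ℕ) * (p.1.1 : G)⁻¹) * g0 := by group
            _ = _ := by rw [h1]; group
        have hni : ¬ s ∣ (p.1.2 : ℕ) := fun hd =>
          hpow p.1.2 (orderOf_dvd_iff_pow_eq_one.mp (w.σ_ord.symm ▸ hd))
        obtain ⟨m, -, hm⟩ := Nat.exists_mul_mod_eq_one_of_coprime (n := (p.1.2 : ℕ)) (k := s)
          ((w.s_prime.coprime_iff_not_dvd.mpr hni).symm) w.s_prime.one_lt
        have hm' : ((w.σ : G) ^ (p.1.2 : ℕ)) ^ m = w.σ := by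
          rw [← pow_mul, ← pow_mod_orderOf, w.σ_ord, ← hs, hm, pow_one]
        refine mem_normalizer_zpowers ?_
        rw [← hm', ← conj_pow, h2, hm']
        exact pow_mem (pow_mem (mem_zpowers _) _) _⟩
      refine Nat.card_eq_of_bijective φ0 ⟨?_, ?_⟩
      · rintro ⟨⟨g, i⟩, hp⟩ ⟨⟨g', i'⟩, hp'⟩ he
        have hg : g = g' := Subtype.ext (mul_left_cancel (congrArg Subtype.val he))
        subst hg
        have h1 := congrArg (fun k : K => ((k.1 : Q) : G)) (hp.trans hp'.symm)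
        have h2 : (w.σ : G) ^ (i : ℕ) = (w.σ : G) ^ (i' : ℕ) := mul_left_cancel (mul_right_cancel h1)
        have h3 : (i : ℕ) = i' := pow_injOn_Iio_orderOf (by simp [w.σ_ord, ← hs, i.2.1])
          (by simp [w.σ_ord, ← hs, i'.2.1]) h2
        exact Subtype.ext (Prod.ext rfl (Subtype.ext h3))
      · rintro ⟨h, hh⟩
        have hm : h⁻¹ * (w.σ : G) ^ i0 * h ∈ zpowers (w.σ : G) := by
          have := (mem_normalizer_iff.mp (inv_mem hh) _).mp
            (pow_mem (mem_zpowers (w.σ : G)) i0)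
          rwa [inv_inv] at this
        obtain ⟨j, hj⟩ := mem_powers_iff_mem_zpowers.mpr hm
        have hj' : (w.σ : G) ^ (j % s) = h⁻¹ * (w.σ : G) ^ i0 * h := by
          rw [← hj, hs, ← w.σ_ord, pow_mod_orderOf]
        have hj0 : j % s ≠ 0 := fun e => hi0 (by
          rw [e, pow_zero] at hj'
          calc (w.σ : G) ^ i0 = h * (h⁻¹ * (w.σ : G) ^ i0 * h) * h⁻¹ := by group
            _ = 1 := by rw [← hj', mul_one, mul_inv_cancel])
        refine ⟨⟨(⟨g0 * h, mul_mem hg0 (hHNQ hh)⟩, ⟨j % s, Nat.mod_lt _ w.s_prime.pos, hj0⟩), ?_⟩, ?_⟩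
        · apply Subtype.ext
          apply Subtype.ext
          show g0 * h * (w.σ : G) ^ (j % s) * (g0 * h)⁻¹ = (k.1 : G)
          rw [hj', hk]
          group
        · exact Subtype.ext (inv_mul_cancel_left g0 h)
    haveI : Finite {i : ℕ // i < s ∧ i ≠ 0} :=
      Finite.of_injective (fun i => (⟨i.1, i.2.1⟩ : Fin s))
        fun a b e => Subtype.ext (congrArg Fin.val e)
    have hi : Nat.card {i : ℕ // i < s ∧ i ≠ 0} = s - 1 := by
      rw [Nat.card_congr (Equiv.subtypeEquivRight (q := fun i => i ∈ Finset.Ico 1 s) fun i => by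
        rw [Finset.mem_Ico]; omega), Nat.card_eq_fintype_card, Fintype.card_coe, Nat.card_Ico]
    cases nonempty_fintype K
    rw [← hi, ← Nat.card_prod NQ {i : ℕ // i < s ∧ i ≠ 0}, ← Nat.card_congr (Equiv.sigmaFiberEquiv F), Nat.card_sigma,
      Finset.sum_congr rfl fun k _ => hfib k, Finset.sum_const, Finset.card_univ, smul_eq_mul,
      ← Nat.card_eq_fintype_card]
  obtain ⟨L, hL⟩ := card_dvd_of_le hHNQ
  have hKL : Nat.card K = L * (s - 1) := by
    rw [hL] at hKH
    refine Nat.eq_of_mul_eq_mul_right (Nat.card_pos (α := H)) ?_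
    rw [hKH]; ring
  have hKle : Nat.card K ≤ s ^ 2 - 1 := by
    rw [← hc]
    cases nonempty_fintype Q
    refine (Nat.card_le_card_of_injective (fun x : K => (⟨x.1, fun e => x.2.1 (congrArg Subtype.val e)⟩ :
      {x : Q // x ≠ 1})) (fun a b e => Subtype.ext (congrArg (fun z : {x : Q // x ≠ 1} => z.1) e))).trans ?_
    rw [Nat.card_eq_fintype_card, Fintype.card_subtype_compl, Fintype.card_subtype_eq,
      ← Nat.card_eq_fintype_card]
  have h2L : (s + 1) = 2 * L := by
    have h3 : 2 ≤ s := w.s_prime.two_le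
    have hL' : L ≤ s + 1 := by
      by_contra hlt
      have h4 : (s + 2) * (s - 1) ≤ L * (s - 1) := Nat.mul_le_mul_right _ (by omega)
      obtain ⟨q, hq⟩ := Nat.exists_eq_add_of_le h3
      rw [← hKL] at h4
      rw [hq] at h4 hKle
      have e1 : (2 + q) ^ 2 = q * q + 4 * q + 4 := by ring
      have e2 : (2 + q + 2) * (2 + q - 1) = q * q + 5 * q + 4 := by
        rw [show 2 + q - 1 = 1 + q by omega]; ring
      rw [e1] at hKle
      rw [e2] at h4
      omega
    have hz : ((1 : ℕ) : ZMod s) = ((2 * L : ℕ) : ZMod s) := by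
      have h5 : s * s ∣ s * (2 * s + 1 + 2 * (L * (s - 1))) := by
        rw [hN2, hKL, pow_two] at hburn
        rwa [show s * (2 * s + 1 + 2 * (L * (s - 1))) = 2 * s * s + s + L * (s - 1) * (2 * s) by ring]
      have h6 := Nat.dvd_of_mul_dvd_mul_left w.s_prime.pos h5
      rw [← ZMod.natCast_eq_zero_iff] at h6
      push_cast [Nat.cast_sub (show 1 ≤ s by omega)] at h6
      push_cast
      have hs0 : (s : ZMod s) = 0 := ZMod.natCast_self s
      rw [hs0] at h6
      linear_combination h6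
    rw [ZMod.natCast_eq_natCast_iff', Nat.mod_eq_of_lt w.s_prime.one_lt] at hz
    have hd := Nat.div_add_mod (2 * L) s
    rw [← hz] at hd
    have hodd := E.s_odd w
    obtain ⟨k, hk⟩ := hodd
    have hr3 := E.hyp.three_le
    have hrs := w.r_lt
    rcases Nat.lt_or_ge ((2 * L) / s) 3 with h7 | h7
    · interval_cases h8 : (2 * L) / s <;> omega
    · have := Nat.mul_le_mul_left s h7
      omega
  have hNQcard : Nat.card NQ = (s + 1) * (r * s ^ 2) := by
    rw [hL, hH, h2L]; ring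
  obtain ⟨n, hn⟩ := IsPGroup.iff_card.mp (isPGroup_of_sq E.sys.sqT)
  rw [w.card_T, ← hs] at hn
  haveI := Fact.mk Nat.prime_two
  obtain ⟨P, hP⟩ := Sylow.exists_subgroup_card_pow_prime (G := NQ) 2 (n := n)
    (by rw [← hn, hNQcard]; exact Dvd.intro _ rfl)
  have h4 : 4 ≤ s + 1 := by have := w.r_lt; have := E.hyp.three_le; omega
  refine E.four_false w (P := P.map NQ.subtype) (Q := Q) ((IsPGroup.of_card hP).map _) ?_
    (map_subtype_le _) hQc (fun x hx hx1 => hQs x hx hx1) hσQ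
  rw [card_map_of_injective NQ.subtype_injective, hP, ← hn]
  exact h4

set_option maxHeartbeats 800000 in
theorem final [IsSimpleGroup G] : False := by
  classical
  haveI := Fact.mk w.s_prime
  haveI := Fact.mk E.hyp.prime
  haveI : NeZero w.s := ⟨w.s_prime.ne_zero⟩
  obtain ⟨hidx, hfix2⟩ := E.index_eq w
  set M := normalizer (T : Set G) with hM
  cases nonempty_fintype (G ⧸ M)
  set b : G ⧸ M := QuotientGroup.mk 1 with hb
  have hσb : (w.σ : G) • b = b := TwoFusionB.smul_one_eq_iff.mpr w.σ.2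
  -- the second fixed point
  obtain ⟨z0, hz0, hz0b⟩ : ∃ z : G ⧸ M, (w.σ : G) • z = z ∧ z ≠ b := by
    by_contra hcon
    push Not at hcon
    have : Nat.card {z : G ⧸ M // (w.σ : G) • z = z} = 1 :=
      Nat.card_eq_one_iff_exists.mpr ⟨⟨b, hσb⟩, fun z => Subtype.ext (hcon z.1 z.2)⟩
    exact absurd (this.symm.trans hfix2) (by norm_num)
  obtain ⟨u, hu2, hu, hzu⟩ := E.exists_rep hz0b
  subst hzu
  have hσu : u * (w.σ : G) * u ∈ M := by
    have := TwoFusionB.smul_mk_eq_iff.mp hz0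
    rwa [inv_two hu2] at this
  have hinv : u * (w.σ : G) * u = (w.σ : G)⁻¹ := E.inverts w hu hu2 w.σ hσu w.φ_σ
  have hpowinv : ∀ i : ℕ, u * (w.σ : G) ^ i * u = ((w.σ : G) ^ i)⁻¹ := fun i => by
    rw [show u * (w.σ : G) ^ i * u = u * (w.σ : G) ^ i * u⁻¹ by rw [inv_two hu2], ← conj_pow,
      inv_two hu2, hinv, inv_pow]
  -- the translates of the second fixed point
  have hreg : ∀ z : G ⧸ M, z ≠ b → ∃ t : T, z = (t : G) • (QuotientGroup.mk u : G ⧸ M) := by
    let F : T → {z : G ⧸ M // z ≠ b} := fun t => ⟨(t : G) • QuotientGroup.mk u, fun e => hz0b (by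
      rw [← eq_inv_smul_iff] at e
      rw [e]
      exact TwoFusionB.smul_one_eq_iff.mpr (inv_mem (le_normalizer t.2)))⟩
    have hinj : Function.Injective F := by
      intro t t' he
      have he' : (t : G) • (QuotientGroup.mk u : G ⧸ M) = (t' : G) • QuotientGroup.mk u :=
        congrArg Subtype.val he
      rw [← inv_smul_eq_iff, ← mul_smul, TwoFusionB.smul_mk_eq_iff, inv_two hu2] at he'
      have h1 : (t' : G)⁻¹ * t ∈ T := mul_mem (inv_mem t'.2) t.2
      have h2 := E.odd_of_swap hu hu2 (le_normalizer h1) he'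
      exact Subtype.ext (inv_mul_eq_one.mp (eq_one_of_odd_of_sq h2 (E.sys.sq h1))).symm
    have hbij := hinj.bijective_of_nat_card_le (by
      rw [w.card_T, Nat.card_eq_fintype_card, Fintype.card_subtype_compl, Fintype.card_subtype_eq,
        ← Nat.card_eq_fintype_card, ← Subgroup.index_eq_card, hidx]
      omega)
    intro z hz
    obtain ⟨t, ht⟩ := hbij.2 ⟨z, hz⟩
    exact ⟨t, (congrArg Subtype.val ht).symm⟩
  have hdec : ∀ g : G, g ∉ M → ∃ t ∈ T, ∃ m : M, g = t * u * m := by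
    intro g hg
    obtain ⟨t, ht⟩ := hreg (QuotientGroup.mk g) (fun e => hg (by
      have := QuotientGroup.eq.mp e
      rwa [mul_one, inv_mem_iff] at this))
    rw [MulAction.Quotient.smul_mk, smul_eq_mul, eq_comm, QuotientGroup.eq] at ht
    exact ⟨t, t.2, ⟨_, ht⟩, by group⟩
  have huniq : ∀ t ∈ T, ∀ t' ∈ T, ∀ m m' : M, t * u * m = t' * u * m' → t = t' ∧ m = m' := by
    intro t ht t' ht' m m' he
    have h1 : (t'⁻¹ * t) ∈ T := mul_mem (inv_mem ht') ht
    have h2 : u * (t'⁻¹ * t) * u = (m' : G) * (m : G)⁻¹ := by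
      calc u * (t'⁻¹ * t) * u = u * t'⁻¹ * (t * u * m) * (m : G)⁻¹ := by group
        _ = u * t'⁻¹ * (t' * u * m') * (m : G)⁻¹ := by rw [he]
        _ = (u * u) * (m' : G) * (m : G)⁻¹ := by group
        _ = _ := by rw [hu2, one_mul]
    have h3 := eq_one_of_odd_of_sq
      (E.odd_of_swap hu hu2 (le_normalizer h1) (h2 ▸ mul_mem m'.2 (inv_mem m.2))) (E.sys.sq h1)
    have h4 : t = t' := (inv_mul_eq_one.mp h3).symm
    subst h4
    exact ⟨rfl, Subtype.ext (mul_left_cancel he)⟩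
  -- the twist
  have htw : ∀ t ∈ T, t ≠ 1 → ∃ t' ∈ T, t' ≠ 1 ∧ ∃ m : M, u * t * u = t' * u * m := by
    intro t ht ht1
    have hnm : u * t * u ∉ M := fun h => hu (E.mem_of_conj ht ht1 (by rwa [inv_two hu2]))
    obtain ⟨t', ht', m, hm⟩ := hdec _ hnm
    refine ⟨t', ht', fun e => hu ?_, m, hm⟩
    rw [e, one_mul, mul_assoc] at hm
    have : t * u = m := mul_left_cancel hm
    rw [show u = t⁻¹ * (t * u) by group, this]
    exact mul_mem (inv_mem (le_normalizer ht)) m.2
  obtain ⟨t1, ht1, ht11⟩ := E.T_ne_bot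
  obtain ⟨t1', ht1', ht1'1, m1, hm1⟩ := htw t1 ht1 ht11
  have hconst : ∀ t ∈ T, t ≠ 1 → ∀ t' ∈ T, ∀ m : M, u * t * u = t' * u * m → w.φ m = w.φ m1 := by
    intro t ht htne t' ht' m hm
    obtain ⟨i, hi⟩ := w.trans t1 ht1 ht11 t ht htne
    set d := (w.σ : G) ^ i with hd
    have hdinv : u * d * u = d⁻¹ := hpowinv i
    have hdinv' : u * d⁻¹ * u = d := by
      calc u * d⁻¹ * u = u * (u * d * u) * u := by rw [hdinv]
        _ = (u * u) * d * (u * u) := by group
        _ = d := by rw [hu2, one_mul, mul_one]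
    have hdM : d ∈ M := pow_mem w.σ.2 i
    have hud : u * d = d⁻¹ * u := by
      rw [← hdinv, show u * d * u * u = u * d * (u * u) by group, hu2, mul_one]
    have h1 : u * t * u = (d⁻¹ * t1' * d) * u * (d * m1 * d) := by
      calc u * t * u = u * (d * t1 * d⁻¹) * u := by rw [hi]
        _ = u * d * ((u * u) * t1 * (u * u)) * d⁻¹ * u := by rw [hu2, one_mul, mul_one]; group
        _ = (u * d * u) * (u * t1 * u) * (u * d⁻¹ * u) := by group
        _ = d⁻¹ * (t1' * u * m1) * d := by rw [hdinv, hdinv', hm1]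
        _ = d⁻¹ * t1' * d * (d⁻¹ * u) * m1 * d := by group
        _ = _ := by rw [← hud]; group
    have hT' : d⁻¹ * t1' * d ∈ T := by
      have := (mem_normalizer_iff.mp (inv_mem hdM) t1').mp ht1'
      rwa [inv_inv] at this
    obtain ⟨-, rfl⟩ := huniq t' ht' _ hT' m ⟨d * m1 * d, mul_mem (mul_mem hdM m1.2) hdM⟩
      (hm.symm.trans h1)
    rw [show (⟨d * m1 * d, mul_mem (mul_mem hdM m1.2) hdM⟩ : M) = w.σ ^ i * m1 * w.σ ^ i from
      Subtype.ext (by simp [hd]), map_mul, map_mul, map_pow, w.φ_σ, one_pow, one_mul, mul_one]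
  have hω : w.φ m1 = 1 := by
    have h1 : u * t1' * u = t1 * u * ((m1⁻¹ : M) : G) := by
      have e : t1' = (u * t1 * u) * (m1 : G)⁻¹ * u := by
        rw [hm1]
        rw [show t1' * u * (m1 : G) * (m1 : G)⁻¹ * u = t1' * (u * u) by group, hu2, mul_one]
      rw [e]
      rw [show u * (u * t1 * u * (m1 : G)⁻¹ * u) * u = (u * u) * t1 * u * (m1 : G)⁻¹ * (u * u) by group,
        hu2, one_mul, mul_one]
      rfl
    have h2 := hconst t1' ht1' ht1'1 t1 ht1 _ h1
    rw [map_inv] at h2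
    have h3 : w.φ m1 ^ 2 = 1 := by
      rw [pow_two]; nth_rewrite 1 [← h2]; exact inv_mul_cancel _
    rw [← orderOf_eq_one_iff]
    exact Nat.eq_one_of_dvd_coprimes
      ((Nat.coprime_primes Nat.prime_two E.hyp.prime).mpr E.hyp.ne_two.symm)
      (orderOf_dvd_of_pow_eq_one h3) (orderOf_dvd_of_pow_eq_one (w.φ_pow m1))
  -- the subgroup
  let G0 : Set G := {g | (∃ m : M, w.φ m = 1 ∧ g = m) ∨
    ∃ t ∈ T, ∃ m : M, w.φ m = 1 ∧ g = t * u * m}
  have hleftM : ∀ x : M, w.φ x = 1 → ∀ g ∈ G0, (x : G) * g ∈ G0 := by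
    intro x hx g hg
    rcases hg with ⟨m, hm, rfl⟩ | ⟨t, ht, m, hm, rfl⟩
    · exact Or.inl ⟨x * m, by rw [map_mul, hx, hm, one_mul], rfl⟩
    obtain ⟨i, hi⟩ := w.ker x hx
    set d := (w.σ : G) ^ i with hd
    set t2 := d⁻¹ * (x : G) with ht2
    have ht2T : t2 ∈ T := E.centT hi
    have hdM : d ∈ M := pow_mem w.σ.2 i
    refine Or.inr ⟨d * (t2 * t) * d⁻¹, (mem_normalizer_iff.mp hdM _).mp (mul_mem ht2T ht),
      (w.σ ^ i)⁻¹ * m, by rw [map_mul, map_inv, map_pow, w.φ_σ, one_pow, inv_one, one_mul, hm], ?_⟩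
    have hud : d * u = u * d⁻¹ := by
      rw [← hpowinv i, show u * (u * (w.σ : G) ^ i * u) = (u * u) * (w.σ : G) ^ i * u by group, hu2,
        one_mul]
    calc (x : G) * (t * u * m) = d * t2 * t * u * m := by rw [ht2]; group
      _ = d * (t2 * t) * d⁻¹ * (d * u) * m := by group
      _ = _ := by rw [hud]; simp [hd]; group
  have hleftu : ∀ g ∈ G0, u * g ∈ G0 := by
    intro g hg
    rcases hg with ⟨m, hm, rfl⟩ | ⟨t, ht, m, hm, rfl⟩
    · exact Or.inr ⟨1, one_mem _, m, hm, by rw [one_mul]⟩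
    by_cases ht1' : t = 1
    · refine Or.inl ⟨m, hm, ?_⟩
      rw [ht1', one_mul, ← mul_assoc, hu2, one_mul]
    obtain ⟨t', ht', -, m', hm'⟩ := htw t ht ht1'
    refine Or.inr ⟨t', ht', m' * m, ?_, ?_⟩
    · rw [map_mul, hconst t ht ht1' t' ht' m' hm', hω, hm, one_mul]
    · rw [show u * (t * u * (m : G)) = u * t * u * m by group, hm']
      simp [mul_assoc]
  let Gens : Set G := {u} ∪ {g | ∃ m : M, w.φ m = 1 ∧ g = m}
  set H0 := Subgroup.closure Gens with hH0
  have hstab : ∀ h ∈ H0, ∀ g ∈ G0, h * g ∈ G0 := by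
    intro h hh
    induction hh using Subgroup.closure_induction with
    | mem x hx =>
      rcases hx with rfl | ⟨m, hm, rfl⟩
      · exact hleftu
      · exact hleftM m hm
    | one => intro g hg; rwa [one_mul]
    | mul x y _ _ hx hy => intro g hg; rw [mul_assoc]; exact hx _ (hy g hg)
    | inv x _ hx =>
      intro g hg
      have heq : (fun g => x * g) '' G0 = G0 := Set.eq_of_subset_of_ncard_le
        (by rintro _ ⟨g, hg, rfl⟩; exact hx g hg)
        (by rw [Set.ncard_image_of_injective _ (mul_right_injective x)]) (Set.toFinite _)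
      rw [← heq] at hg
      obtain ⟨g', hg', rfl⟩ := hg
      rwa [inv_mul_cancel_left]
  -- normality
  obtain ⟨x, hxH, hx⟩ := E.exists_mem_H_of_ne w
  have hxu : u * (x : G) * u ∈ M := by
    have hd : (w.σ : G) • ((x : G) • (QuotientGroup.mk u : G ⧸ M)) = (x : G) • QuotientGroup.mk u := by
      have h1 : (x : G)⁻¹ * w.σ * x ∈ zpowers (w.σ : G) := by
        have := (mem_normalizer_iff.mp (inv_mem hxH) _).mp (mem_zpowers (w.σ : G))
        rwa [inv_inv] at this
      obtain ⟨i, hi⟩ := mem_powers_iff_mem_zpowers.mpr h1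
      rw [← mul_smul, show (w.σ : G) * x = x * ((x : G)⁻¹ * w.σ * x) by group, mul_smul, ← hi]
      congr 1
      show ((w.σ : G) ^ i) • _ = _
      refine TwoFusionB.smul_mk_eq_iff.mpr ?_
      rw [inv_two hu2, hpowinv]
      exact inv_mem (pow_mem w.σ.2 _)
    have hxz : (x : G) • (QuotientGroup.mk u : G ⧸ M) = QuotientGroup.mk u := by
      by_contra hne
      have hxb : (x : G) • (QuotientGroup.mk u : G ⧸ M) ≠ b := fun e => hz0b (by
        rw [← eq_inv_smul_iff] at e
        rw [e]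
        exact TwoFusionB.smul_one_eq_iff.mpr (inv_mem x.2))
      obtain ⟨p, q, -, huniv⟩ := Nat.card_eq_two_iff.mp hfix2
      have hall : ∀ z, z = p ∨ z = q := fun z => by
        have hz : z ∈ ({p, q} : Set _) := huniv ▸ Set.mem_univ z
        simpa using hz
      rcases hall ⟨b, hσb⟩ with a1 | a1 <;> rcases hall ⟨_, hz0⟩ with a2 | a2 <;>
        rcases hall ⟨_, hd⟩ with a3 | a3 <;>
        first
          | exact hz0b (congrArg Subtype.val (a2.trans a1.symm))
          | exact hxb (congrArg Subtype.val (a3.trans a1.symm))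
          | exact hne (congrArg Subtype.val (a3.trans a2.symm))
    have := TwoFusionB.smul_mk_eq_iff.mp hxz
    rwa [inv_two hu2] at this
  have hφxu : w.φ ⟨_, hxu⟩ = w.φ x := by
    refine w.φ_eq _ _ ?_
    have h1 : (x : G) * w.σ * (x : G)⁻¹ ∈ zpowers (w.σ : G) :=
      (mem_normalizer_iff.mp hxH _).mp (mem_zpowers _)
    obtain ⟨j, hj⟩ := mem_powers_iff_mem_zpowers.mpr h1
    replace hj : (w.σ : G) ^ j = (x : G) * w.σ * (x : G)⁻¹ := hj
    have h2 : u * (x : G) * u * w.σ * (u * (x : G) * u)⁻¹ = (x : G) * w.σ * (x : G)⁻¹ := by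
      rw [mul_inv_rev, mul_inv_rev, inv_two hu2]
      calc u * (x : G) * u * w.σ * (u * ((x : G)⁻¹ * u)) = u * x * (u * w.σ * u) * (x : G)⁻¹ * u := by
            group
        _ = u * ((x : G) * w.σ * (x : G)⁻¹)⁻¹ * u := by rw [hinv]; group
        _ = _ := by
          rw [← hj, ← hpowinv j, show u * (u * (w.σ : G) ^ j * u) * u =
            (u * u) * (w.σ : G) ^ j * (u * u) by group, hu2, one_mul, mul_one]
    show ((u * (x : G) * u) * (w.σ : G) * (u * (x : G) * u)⁻¹)⁻¹ * ((x : G) * w.σ * (x : G)⁻¹) ∈ _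
    rw [h2, inv_mul_cancel]
    exact one_mem _
  have hM1H : ∀ m : M, w.φ m = 1 → (m : G) ∈ H0 := fun m hm =>
    Subgroup.subset_closure (Or.inr ⟨m, hm, rfl⟩)
  have huH : u ∈ H0 := Subgroup.subset_closure (Or.inl rfl)
  have hnorm : M ≤ normalizer (H0 : Set G) := by
    have hM1 : ∀ m : M, ∀ n : M, w.φ n = 1 → (m : G) * n * (m : G)⁻¹ ∈ H0 := fun m n hn =>
      hM1H (m * n * m⁻¹) (by rw [map_mul, map_mul, hn, mul_one, ← map_mul, mul_inv_cancel, map_one])
    have hx' : (x : G) ∈ normalizer (H0 : Set G) := by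
      have hmap : H0.map (MulAut.conj (x : G)).toMonoidHom ≤ H0 := by
        rw [hH0, MonoidHom.map_closure, Subgroup.closure_le]
        rintro _ ⟨g, hg, rfl⟩
        rcases hg with rfl | ⟨n, hn, rfl⟩
        · have e : (x : G) * g * (x : G)⁻¹ = ((x * (⟨_, hxu⟩ : M)⁻¹ : M) : G) * g := by
            simp only [Subgroup.coe_mul, Subgroup.coe_inv, mul_inv_rev, inv_two hu2]
            simp only [mul_assoc, hu2, mul_one]
          show (x : G) * g * (x : G)⁻¹ ∈ H0
          rw [e]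
          exact mul_mem (hM1H _ (by rw [map_mul, map_inv, hφxu, mul_inv_cancel])) huH
        · exact hM1 x n hn
      have heq := eq_of_le_of_card_ge hmap (by rw [card_map_of_injective (MulAut.conj _).injective])
      rw [mem_normalizer_iff]
      intro y
      refine ⟨fun hy => heq ▸ ⟨y, hy, rfl⟩, fun hy => ?_⟩
      rw [← heq] at hy
      obtain ⟨y', hy', he⟩ := hy
      have : y' = y := (MulAut.conj (x : G)).injective he
      rwa [← this]
    intro m hm
    obtain ⟨k, hk⟩ : ∃ k : ℕ, w.φ ⟨m, hm⟩ = w.φ x ^ k := by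
      have h1 : orderOf (w.φ x) = r := orderOf_eq_prime (w.φ_pow x) hx
      have h2 : w.φ ⟨m, hm⟩ ∈ zpowers (w.φ x) := by
        have hle : Nat.card {z : (ZMod w.s)ˣ // z ^ r = 1} ≤ r := by
          rw [Nat.card_eq_fintype_card, Fintype.card_subtype]
          exact IsCyclic.card_pow_eq_one_le E.hyp.prime.pos
        let f : zpowers (w.φ x) → {z : (ZMod w.s)ˣ // z ^ r = 1} := fun z => ⟨z, by
          obtain ⟨i, hi⟩ := mem_zpowers_iff.mp z.2
          rw [← hi, ← zpow_natCast, ← zpow_mul, mul_comm, zpow_mul, zpow_natCast, w.φ_pow, one_zpow]⟩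
        have hf : Function.Bijective f := Function.Injective.bijective_of_nat_card_le
          (fun a b e => Subtype.ext (congrArg (fun z : {z : (ZMod w.s)ˣ // z ^ r = 1} => z.1) e))
          (by rw [Nat.card_zpowers, h1]; exact hle)
        obtain ⟨z, hz⟩ := hf.2 ⟨_, w.φ_pow ⟨m, hm⟩⟩
        have : (z : (ZMod w.s)ˣ) = w.φ ⟨m, hm⟩ :=
          congrArg (fun z : {z : (ZMod w.s)ˣ // z ^ r = 1} => z.1) hz
        exact this ▸ z.2
      obtain ⟨k, hk⟩ := mem_powers_iff_mem_zpowers.mpr h2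
      exact ⟨k, hk.symm⟩
    have hn : w.φ (⟨m, hm⟩ * (x ^ k)⁻¹) = 1 := by
      rw [map_mul, map_inv, map_pow, hk, mul_inv_cancel]
    rw [show m = ((⟨m, hm⟩ * (x ^ k)⁻¹ : M) : G) * (x : G) ^ k by simp [mul_assoc]]
    exact mul_mem (le_normalizer (hM1H _ hn)) (pow_mem hx' k)
  have htop : normalizer (H0 : Set G) = ⊤ := by
    rw [eq_top_iff]
    intro g _
    by_cases hg : g ∈ M
    · exact hnorm hg
    obtain ⟨t, ht, m, rfl⟩ := hdec g hg
    exact mul_mem (mul_mem (hnorm (le_normalizer ht)) (le_normalizer huH)) (hnorm m.2)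
  rw [normalizer_eq_top_iff] at htop
  rcases htop.eq_bot_or_eq_top with h | h
  · rw [h, mem_bot] at huH
    exact hu (huH ▸ one_mem _)
  · have h1 : (x : G) * 1 ∈ G0 := hstab _ (h ▸ mem_top _) 1 (Or.inl ⟨1, map_one _, rfl⟩)
    rw [mul_one] at h1
    rcases h1 with ⟨m, hm, he⟩ | ⟨t, ht, m, hm, he⟩
    · exact hx (by rw [show x = m from Subtype.ext he]; exact hm)
    · refine hu ?_
      rw [show u = t⁻¹ * (x : G) * (m : G)⁻¹ by rw [he]; group]
      exact mul_mem (mul_mem (inv_mem (le_normalizer ht)) x.2) (inv_mem m.2)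

end Cfsg.Agent.TwoR73.SE
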