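import Cfsg.Agent.TwoR73.FourGroup
import Cfsg.Agent.TwoR73.Semireg
import Cfsg.Agent.TwoR73.TwistedEnd
import Cfsg.Agent.SL2Tor.PSLOrders
import Cfsg.Agent.EPPO42.Simple

/-!
# Simple groups whose element orders are primes or `2r`
-/

set_option autoImplicit false
set_option linter.style.haveILetI false
set_option linter.unusedSectionVars false

open Subgroup

namespace Cfsg.Agent.TwoR73

universe u

theorem three_dvd_half {q : ℕ} (h3 : ¬ 3 ∣ q) (hodd : q % 2 = 1) :
    3 ∣ (q - 1) / 2 ∨ 3 ∣ (q + 1) / 2 := by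
  rcases (by omega : q % 3 = 1 ∨ q % 3 = 2) with h | h
  · exact Or.inl (by omega)
  · exact Or.inr (by omega)

/-- The arithmetic of the torus orders. -/
theorem torus_arith {q r : ℕ} (hq5 : 5 ≤ q) (hodd : q % 2 = 1) (hr : r.Prime) (hr2 : r ≠ 2)
    (hq : ¬ 3 ∣ q ∨ ∃ f, q = 3 ^ f)
    (hdiv : ∀ m, (m = (q - 1) / 2 ∨ m = (q + 1) / 2) → m.Prime ∨ m = 2 * r)
    (hocc : 2 * r ∣ (q - 1) / 2 ∨ 2 * r ∣ (q + 1) / 2) :
    (q = 11 ∧ r = 3) ∨ (q = 13 ∧ r = 3) ∨
      ∃ n s : ℕ, s.Prime ∧ 3 ^ n - 1 = 2 * s ∧ 3 ^ n + 1 = 4 * r ∧ q = 3 ^ n := by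
  have hr3 : 3 ≤ r := Nat.lt_of_le_of_ne hr.two_le (Ne.symm hr2)
  have hnp : ∀ m, 2 * r ∣ m → ¬ m.Prime := fun m hm hp => by
    rcases hp.eq_one_or_self_of_dvd _ hm with h | h
    · omega
    · exact Nat.not_prime_mul (by norm_num) hr.ne_one (h ▸ hp)
  have three : ∀ m, m.Prime → 3 ∣ m → m = 3 := fun m hm h =>
    ((Nat.prime_dvd_prime_iff_eq Nat.prime_three hm).mp h).symm
  have h32 : ∀ x, 3 ∣ 2 * x → 3 ∣ x := fun x h =>
    ((by norm_num : Nat.Coprime 3 2)).dvd_of_dvd_mul_left h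
  rcases hocc with h | h
  · -- `q - 1 = 4r`
    have hA : (q - 1) / 2 = 2 * r := (hdiv _ (Or.inl rfl)).resolve_left (hnp _ h)
    have hB : ((q + 1) / 2).Prime := (hdiv _ (Or.inr rfl)).resolve_right (by omega)
    rcases hq.symm with ⟨f, hf⟩ | h3
    · exfalso
      obtain ⟨k, rfl | rfl⟩ := Nat.even_or_odd' f
      · obtain ⟨a, ha⟩ : ∃ a, 3 ^ k = 2 * a + 1 :=
          ⟨3 ^ k / 2, by have := Nat.odd_iff.1 ((by decide : Odd 3).pow (n := k)); omega⟩
        have he : q = (2 * a + 1) * (2 * a + 1) := by rw [hf, two_mul, pow_add, ha]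
        have h4 : q - 1 = 4 * (a * (a + 1)) := by
          have : (2 * a + 1) * (2 * a + 1) = 4 * (a * (a + 1)) + 1 := by ring
          omega
        have hra : r = a * (a + 1) := by omega
        rcases Nat.lt_or_ge a 2 with ha2 | ha2
        · interval_cases a <;> omega
        · exact Nat.not_prime_mul (by omega) (by omega) (hra ▸ hr)
      · have : q = 3 * 9 ^ k := by
          rw [hf, pow_succ, pow_mul]; norm_num [mul_comm]
        have h9 : 9 ^ k % 4 = 1 := by rw [Nat.pow_mod]; norm_num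
        omega
    · rcases three_dvd_half h3 hodd with h3A | h3B
      · exact Or.inr (Or.inl (by
          have := three r hr (h32 r (hA ▸ h3A))
          omega))
      · exfalso
        have := three _ hB h3B
        omega
  · -- `q + 1 = 4r`
    have hB : (q + 1) / 2 = 2 * r := (hdiv _ (Or.inr rfl)).resolve_left (hnp _ h)
    have hA : ((q - 1) / 2).Prime := (hdiv _ (Or.inl rfl)).resolve_right (by omega)
    rcases hq.symm with ⟨f, hf⟩ | h3
    · exact Or.inr (Or.inr ⟨f, _, hA, by omega, by omega, hf⟩)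
    · rcases three_dvd_half h3 hodd with h3A | h3B
      · exfalso
        have := three _ hA h3A
        omega
      · have := three r hr (h32 r (hB ▸ h3B))
        exact Or.inl (by omega)

/-- **Simple groups whose element orders are primes or `2r`.** -/
theorem t2r {G : Type u} [Group G] [Finite G] [IsSimpleGroup G] {r : ℕ}
    (hna : ¬ IsMulCommutative G) (h : Hyp G r) (hex : ∃ g : G, orderOf g = 2 * r) :
    ∃ (F : Type) (_ : Field F) (_ : Fintype F),
      ((Fintype.card F = 11 ∧ r = 3) ∨ (Fintype.card F = 13 ∧ r = 3) ∨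
        ∃ n s : ℕ, s.Prime ∧ 3 ^ n - 1 = 2 * s ∧ 3 ^ n + 1 = 4 * r ∧ Fintype.card F = 3 ^ n) ∧
      Nonempty (G ≃* Matrix.ProjectiveSpecialLinearGroup (Fin 2) F) := by
  classical
  obtain ⟨T, K⟩ := h.exists_sys hna hex
  have hfalse : K.Contained → False := by
    intro hC
    obtain ⟨W, E⟩ := K.exists_se hna hC
    by_cases hs : ∀ a ∈ T, a ≠ 1 → centralizer ({a} : Set G) ≤ centralizer (T : Set G)
    · exact E.false_semireg hex hs
    · push Not at hs
      obtain ⟨w⟩ := E.exists_tw hs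
      have hW := E.W_eq_bot hna w
      subst hW
      exact SE.final E w
  have hcases : Nat.card T = 4 ∨ 8 ≤ Nat.card T := by
    haveI := Fact.mk Nat.prime_two
    obtain ⟨k, hk⟩ := IsPGroup.iff_card.mp (isPGroup_of_sq K.sqT)
    have := K.four
    rcases Nat.lt_or_ge k 3 with hk3 | hk3
    · interval_cases k <;> simp_all
    · exact Or.inr (hk ▸ Nat.pow_le_pow_right (by norm_num : 0 < 2) hk3)
  rcases hcases with h4 | h8
  swap
  · exact (hfalse (K.contained_of_eight h8)).elim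
  rcases K.contained_or_self h4 with hC | hself
  · exact (hfalse hC).elim
  obtain ⟨F, iF, iFF, hodd, ⟨e⟩⟩ := K.exists_psl h4 hself hna
  have hnc : ∃ a b : G, a * b ≠ b * a := by
    by_contra hcon
    push Not at hcon
    exact hna ⟨⟨hcon⟩⟩
  have hq4 := EPPO42.four_le_card hnc e
  obtain ⟨p, hcp⟩ := CharP.exists F
  haveI := Fact.mk (CharP.char_is_prime F p)
  obtain ⟨f, hp, hpf⟩ := FiniteField.card F p
  have hqodd : Fintype.card F % 2 = 1 := Nat.odd_iff.mp hodd
  have hgcd : Nat.gcd 2 (Fintype.card F - 1) = 2 := Nat.gcd_eq_left (by omega)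
  have hrange := SL2Tor.range_orderOf_psl (F := F) p
  rw [hgcd] at hrange
  have hord : ∀ m, m ∈ Set.range (orderOf : Matrix.ProjectiveSpecialLinearGroup (Fin 2) F → ℕ) →
      1 < m → m.Prime ∨ m = 2 * r := by
    rintro m ⟨x, rfl⟩ h1
    rw [← MulEquiv.orderOf_eq e.symm]
    refine h.spec _ fun he => ?_
    rw [← MulEquiv.orderOf_eq e.symm, he, orderOf_one] at h1
    omega
  refine ⟨F, iF, iFF, torus_arith (by omega) hqodd h.prime h.ne_two ?_ ?_ ?_, ⟨e⟩⟩
  · by_cases h3 : 3 ∣ Fintype.card F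
    swap
    · exact Or.inl h3
    right
    rw [hpf] at h3 ⊢
    refine ⟨f, ?_⟩
    rw [(Nat.prime_dvd_prime_iff_eq Nat.prime_three hp).mp (Nat.prime_three.dvd_of_dvd_pow h3)]
  · intro m hm
    refine hord m ?_ ?_
    · rw [hrange]
      rcases hm with rfl | rfl
      · exact Or.inr (Or.inl dvd_rfl)
      · exact Or.inr (Or.inr dvd_rfl)
    · rcases hm with rfl | rfl <;> omega
  · obtain ⟨g, hg⟩ := hex
    have hmem : 2 * r ∈ Set.range (orderOf : Matrix.ProjectiveSpecialLinearGroup (Fin 2) F → ℕ) :=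
      ⟨e g, (MulEquiv.orderOf_eq e g).trans hg⟩
    rw [hrange] at hmem
    rcases hmem with hd | hd
    · exfalso
      rcases hp.eq_one_or_self_of_dvd _ hd with h' | h'
      · omega
      · exact Nat.not_prime_mul (by norm_num) h.prime.ne_one (h' ▸ hp)
    · exact hd

end Cfsg.Agent.TwoR73
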