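import Cfsg.Agent.TwoR73.Count
import Cfsg.Agent.CN7.CNTheorem
import Cfsg.Agent.S1526

/-!
# The automiser of `T` when it is not semiregular
-/

set_option autoImplicit false
set_option linter.style.haveILetI false
set_option linter.unusedSectionVars false

open Subgroup

namespace Cfsg.Agent.TwoR73

universe u

/-- No Frobenius action with fixed point free complement elements on a two-group. -/
theorem false_frob {T : Type*} [Group T] [Finite T] (hT : ∀ t : T, t * t = 1)
    (A : Subgroup (MulAut T)) (hAc : ∀ α ∈ A, ∀ β ∈ A, Commute α β) (hA : Odd (Nat.card A))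
    (f : MulAut T) {l : ℕ} (hl : l.Prime) (hfA : ∀ α ∈ A, f * α * f⁻¹ ∈ A)
    (hfl : ∀ α ∈ A, (α * f) ^ l = 1) (hfix : ∀ α ∈ A, ∀ t, (α * f) t = t → t = 1)
    (hCA : ∀ t, (∀ α ∈ A, α t = t) → t = 1) (t : T) : t = 1 := by
  classical
  cases nonempty_fintype A
  letI : CommGroup T :=
    { ‹Group T› with
      mul_comm := fun a b => by
        have hi : ∀ c : T, c⁻¹ = c := fun c => inv_eq_of_mul_eq_one_right (hT c)
        rw [← hi (a * b), mul_inv_rev, hi, hi] }
  have hP : ∀ α ∈ A, ∏ i ∈ Finset.range l, ((α * f) ^ i) t = 1 := by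
    intro α hα
    refine hfix α hα _ ?_
    have h1 : ∀ n, (α * f) (∏ i ∈ Finset.range n, ((α * f) ^ i) t) * t =
        ∏ i ∈ Finset.range (n + 1), ((α * f) ^ i) t := by
      intro n
      rw [map_prod, Finset.prod_range_succ', pow_zero, MulAut.one_apply]
      congr 1
      exact Finset.prod_congr rfl fun i _ => by simp only [pow_succ', MulAut.mul_apply]
    have h2 := h1 l
    rw [Finset.prod_range_succ, hfl α hα, MulAut.one_apply] at h2
    exact mul_right_cancel h2
  have hw : ∀ i : ℕ, ∀ α ∈ A, (α * f) ^ i * (f ^ i)⁻¹ ∈ A := by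
    intro i
    induction i with
    | zero => intro α _; simp
    | succ i ih =>
      intro α hα
      rw [show (α * f) ^ (i + 1) * (f ^ (i + 1))⁻¹ = α * (f * ((α * f) ^ i * (f ^ i)⁻¹) * f⁻¹) by
        rw [pow_succ', pow_succ']; group]
      exact mul_mem hα (hfA _ (ih α hα))
  have hsum : ∀ i, i ≠ 0 → i < l → ∏ α : A, (((α : MulAut T) * f) ^ i) t = 1 := by
    intro i hi0 hil
    let β : A → A := fun α => ⟨_, hw i α α.2⟩
    have hβ : Function.Injective β := by
      intro α α' he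
      have h1 : ((α : MulAut T) * f) ^ i = ((α' : MulAut T) * f) ^ i :=
        mul_right_cancel (congrArg (fun z : A => (z : MulAut T)) he)
      obtain ⟨m, -, hm⟩ := Nat.exists_mul_mod_eq_one_of_coprime (n := i) (k := l)
        ((hl.coprime_iff_not_dvd.mpr (fun hd => by
          have := Nat.le_of_dvd (Nat.pos_of_ne_zero hi0) hd; omega)).symm) hl.one_lt
      have hpow : ∀ α ∈ A, ((α * f) ^ i) ^ m = α * f := fun α hα => by
        rw [← pow_mul, ← Nat.div_add_mod (i * m) l, hm, pow_add, pow_mul, hfl α hα, one_pow,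
          one_mul, pow_one]
      have h2 := hpow α α.2
      rw [h1, hpow α' α'.2] at h2
      exact Subtype.ext (mul_right_cancel h2).symm
    have hb := Finite.injective_iff_bijective.mp hβ
    have h3 : ∏ α : A, (((α : MulAut T) * f) ^ i) t = ∏ α : A, (α : MulAut T) ((f ^ i) t) :=
      Fintype.prod_bijective β hb _ _ fun α => by
        rw [← MulAut.mul_apply]
        congr 1
        exact (inv_mul_cancel_right _ _).symm
    rw [h3]
    refine hCA _ fun γ hγ => ?_
    rw [map_prod]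
    exact Fintype.prod_equiv (Equiv.mulLeft (⟨γ, hγ⟩ : A)) _ _ fun α => by
      rw [← MulAut.mul_apply]; rfl
  have h0 : ∏ α : A, ∏ i ∈ Finset.range l, (((α : MulAut T) * f) ^ i) t = 1 :=
    Finset.prod_eq_one fun α _ => hP α α.2
  rw [Finset.prod_comm, Finset.prod_eq_single 0 (fun i hi hi0 => hsum i hi0 (Finset.mem_range.mp hi))
    (fun h => absurd (Finset.mem_range.mpr hl.pos) h)] at h0
  simp only [pow_zero, MulAut.one_apply, Finset.prod_const, Finset.card_univ,
    ← Nat.card_eq_fintype_card] at h0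
  obtain ⟨j, hj⟩ := hA
  rwa [hj, pow_succ, pow_mul, pow_two, hT, one_pow, one_mul] at h0

theorem exists_abelian_normal {X : Type*} [Group X] [Group.IsSolvable X] [Nontrivial X] :
    ∃ A : Subgroup X, A.Normal ∧ A ≠ ⊥ ∧ ∀ a ∈ A, ∀ b ∈ A, Commute a b := by
  classical
  have hex := (Group.isSolvable_def X).mp inferInstance
  set n := Nat.find hex with hn
  have hn0 : derivedSeries X n = ⊥ := Nat.find_spec hex
  have hpos : n ≠ 0 := fun e => by
    rw [e, derivedSeries_zero] at hn0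
    exact bot_ne_top hn0.symm
  obtain ⟨k, hk⟩ := Nat.exists_eq_succ_of_ne_zero hpos
  refine ⟨derivedSeries X k, derivedSeries_normal X k, Nat.find_min hex (by omega), ?_⟩
  intro a ha b hb
  rw [hk, derivedSeries_succ] at hn0
  have := Subgroup.commutator_mem_commutator ha hb
  rw [hn0, mem_bot] at this
  exact commutatorElement_eq_one_iff_mul_comm.mp this

variable {G : Type u} [Group G] [Finite G] {r : ℕ} {T W : Subgroup G}

/-- The structure of the automiser in the non semiregular case. -/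
structure Tw (r : ℕ) (T : Subgroup G) where
  s : ℕ
  s_prime : s.Prime
  s_ne : s ≠ r
  r_lt : r < s
  r_dvd : r ∣ s - 1
  card_T : Nat.card T = s + 1
  φ : ↥(normalizer (T : Set G)) →* (ZMod s)ˣ
  φ_pow : ∀ x, φ x ^ r = 1
  φ_cent : ∀ x : ↥(normalizer (T : Set G)), (x : G) ∈ centralizer (T : Set G) → φ x = 1
  σ : ↥(normalizer (T : Set G))
  σ_ord : orderOf (σ : G) = s
  φ_σ : φ σ = 1
  ker : ∀ x : ↥(normalizer (T : Set G)), φ x = 1 →
    ∃ i : ℕ, ((σ : G) ^ i)⁻¹ * x ∈ centralizer (T : Set G)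
  norm : ∀ x : ↥(normalizer (T : Set G)),
    ∃ i : ℕ, ((σ : G) ^ i)⁻¹ * ((x : G) * σ * (x : G)⁻¹) ∈ centralizer (T : Set G)
  φ_eq : ∀ x y : ↥(normalizer (T : Set G)),
    ((x : G) * σ * (x : G)⁻¹)⁻¹ * ((y : G) * σ * (y : G)⁻¹) ∈ centralizer (T : Set G) → φ x = φ y
  trans : ∀ a ∈ T, a ≠ 1 → ∀ b ∈ T, b ≠ 1 → ∃ i : ℕ, (σ : G) ^ i * a * ((σ : G) ^ i)⁻¹ = b
  exists_r : ∃ y : ↥(normalizer (T : Set G)), orderOf (y : G) = r ∧
    (y : G) ∉ centralizer (T : Set G)
  r_elt : ∀ y : ↥(normalizer (T : Set G)), orderOf (y : G) = r →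
    (y : G) ∉ centralizer (T : Set G) →
    φ y ≠ 1 ∧ ∃ a ∈ T, a ≠ 1 ∧ ∀ t ∈ T, (y : G) * t * (y : G)⁻¹ = t ↔ (t = 1 ∨ t = a)

theorem SE.exists_tw (E : SE r T W)
    (hns : ∃ a ∈ T, a ≠ 1 ∧ ¬ centralizer ({a} : Set G) ≤ centralizer (T : Set G)) :
    Nonempty (Tw r T) := by
  classical
  have hG := E.hyp
  haveI := Fact.mk hG.prime
  haveI := isMulCommutative_of_sq E.sys.sqT
  set N := normalizer (T : Set G) with hN
  let ψ : N →* MulAut T := T.normalizerMonoidHom
  have hψ : ∀ (x : N) (t : T), ((ψ x t : T) : G) = x * t * (x : G)⁻¹ := fun x t => rfl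
  have hker : ∀ x : N, ψ x = 1 ↔ (x : G) ∈ centralizer (T : Set G) := by
    intro x
    rw [mem_centralizer_iff]
    refine ⟨fun h t ht => ?_, fun h => MulEquiv.ext fun t => Subtype.ext ?_⟩
    · have := congrArg Subtype.val (DFunLike.congr_fun h (⟨t, ht⟩ : T))
      rw [hψ] at this
      exact (mul_inv_eq_iff_eq_mul.mp this).symm
    · rw [hψ, MulAut.one_apply, ← h t t.2, mul_inv_cancel_right]
  set X := ψ.range with hX
  have hTsq : ∀ t : T, t * t = 1 := fun t => Subtype.ext (E.sys.sq t.2)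
  have lift : ∀ σ ∈ X, σ ≠ 1 → ∃ b : N, ψ b = σ ∧ (orderOf (b : G)).Prime ∧
      Odd (orderOf (b : G)) ∧ orderOf σ = orderOf (b : G) := by
    rintro σ ⟨x, rfl⟩ hne
    obtain ⟨a, b, hab, ha, hb, ham, hbm⟩ := hG.exists_parts (x : G)
    have haN : a ∈ N := zpowers_le.mpr x.2 ham
    have hbN : b ∈ N := zpowers_le.mpr x.2 hbm
    have hxab : x = ⟨a, haN⟩ * ⟨b, hbN⟩ := Subtype.ext hab
    have hψb : ψ ⟨b, hbN⟩ = ψ x := by
      rw [hxab, map_mul, (hker ⟨a, haN⟩).mpr (E.T_cent (E.inv_mem_T haN ha)), one_mul]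
    have hb1 : b ≠ 1 := fun e => hne (by
      rw [← hψb, show (⟨b, hbN⟩ : N) = 1 from Subtype.ext e, map_one])
    refine ⟨⟨b, hbN⟩, hψb, hG.orderOf_prime hb1 hb, hb, ?_⟩
    haveI := Fact.mk (hG.orderOf_prime hb1 hb)
    refine orderOf_eq_prime ?_ hne
    rw [← hψb, ← map_pow]
    rw [show (⟨b, hbN⟩ : N) ^ orderOf b = 1 from Subtype.ext (pow_orderOf_eq_one b), map_one]
  have hXp : ∀ σ ∈ X, σ ≠ 1 → (orderOf σ).Prime ∧ Odd (orderOf σ) := fun σ hσ hne => by
    obtain ⟨b, -, h1, h2, h3⟩ := lift σ hσ hne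
    rw [h3]; exact ⟨h1, h2⟩
  have hfpf : ∀ σ ∈ X, σ ≠ 1 → orderOf σ ≠ r → ∀ t : T, σ t = t → t = 1 := by
    intro σ hσ hne hr t ht
    obtain ⟨b, rfl, h1, h2, h3⟩ := lift σ hσ hne
    by_contra ht1
    refine hr (h3.trans (hG.orderOf_r_of_commute (E.sys.order_two t.2 fun e => ht1 (Subtype.ext e))
      ?_ (fun e => hne (by rw [show b = 1 from Subtype.ext e, map_one])) h2))
    have := congrArg Subtype.val ht
    rw [hψ] at this
    exact (mul_inv_eq_iff_eq_mul.mp this).symm
  have htrans : ∀ a b : T, a ≠ 1 → b ≠ 1 → ∃ σ ∈ X, σ a = b := by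
    intro a b ha hb
    obtain ⟨n, hn, he⟩ := E.trans_T a.2 (fun e => ha (Subtype.ext e)) b.2
      (fun e => hb (Subtype.ext e))
    exact ⟨ψ ⟨n, hn⟩, ⟨_, rfl⟩, Subtype.ext he⟩
  -- an element of order `r` with a fixed point
  obtain ⟨τ, hτX, hτr, a₀, ha₀, hτa⟩ :
      ∃ τ ∈ X, orderOf τ = r ∧ ∃ a : T, a ≠ 1 ∧ τ a = a := by
    obtain ⟨a, ha, ha1, hle⟩ := hns
    obtain ⟨x, hx, hxC⟩ := SetLike.not_le_iff_exists.mp hle
    have hxN := E.cent_le ha ha1 hx
    have hne : ψ ⟨x, hxN⟩ ≠ 1 := fun e => hxC ((hker _).mp e)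
    have hfix : ψ ⟨x, hxN⟩ ⟨a, ha⟩ = ⟨a, ha⟩ := Subtype.ext (by
      rw [hψ]
      exact mul_inv_eq_iff_eq_mul.mpr (mem_centralizer_singleton_iff.mp hx))
    refine ⟨_, ⟨_, rfl⟩, ?_, ⟨a, ha⟩, fun e => ha1 (congrArg Subtype.val e), hfix⟩
    by_contra hr
    exact ha1 (congrArg Subtype.val (hfpf _ ⟨_, rfl⟩ hne hr _ hfix))
  have hτ1 : τ ≠ 1 := fun e => by rw [e, orderOf_one] at hτr; exact hG.prime.one_lt.ne hτr
  have hXodd : Odd (Nat.card X) := by
    rw [← Nat.not_even_iff_odd, even_iff_two_dvd]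
    intro hd
    haveI := Fact.mk Nat.prime_two
    obtain ⟨⟨σ, hσ⟩, ho⟩ := exists_prime_orderOf_dvd_card' 2 hd
    rw [Subgroup.orderOf_mk] at ho
    have := (hXp σ hσ fun e => by rw [e, orderOf_one] at ho; omega).2
    rw [ho] at this
    exact absurd this (by decide)
  -- solvability
  haveI hsol : Group.IsSolvable X := by
    refine CN7.isSolvable_of_odd_CN (fun {G} _ _ hodd {ι} _ => S1526.result hodd (ι := ι))
      hXodd fun g hg => ?_
    obtain ⟨hp, -⟩ := hXp g g.2 fun e => hg (Subtype.ext e)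
    haveI := Fact.mk hp
    refine IsPGroup.isNilpotent (p := orderOf (g : MulAut T)) ?_
    refine IsPGroup.of_card (n := (Nat.card (centralizer ({g} : Set X))).primeFactorsList.length)
      (Nat.eq_prime_pow_of_unique_prime_dvd Nat.card_pos.ne' fun {q} hq hqd => ?_)
    haveI := Fact.mk hq
    obtain ⟨⟨y, hyC⟩, hy⟩ := exists_prime_orderOf_dvd_card' q hqd
    rw [Subgroup.orderOf_mk] at hy
    by_contra hne
    have hc : Commute g y := (mem_centralizer_singleton_iff.mp hyC).symm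
    have hgo : orderOf g = orderOf (g : MulAut T) := (Subgroup.orderOf_coe g).symm
    have hm := hc.orderOf_mul_eq_mul_orderOf_of_coprime (by
      rw [hy, hgo]; exact (Nat.coprime_primes hp hq).mpr (Ne.symm hne))
    rw [hy, hgo, ← Subgroup.orderOf_coe] at hm
    have := (hXp _ (g * y).2 fun e => by
      rw [e, orderOf_one] at hm
      exact hq.ne_one (Nat.eq_one_of_mul_eq_one_left hm.symm)).1
    rw [hm] at this
    exact absurd this (Nat.not_prime_mul hp.ne_one hq.ne_one)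
  haveI : Nontrivial X := ⟨⟨⟨τ, hτX⟩, 1, fun e => hτ1 (congrArg Subtype.val e)⟩⟩
  obtain ⟨A₀, hA₀n, hA₀ne, hA₀c⟩ := exists_abelian_normal (X := X)
  set A := A₀.map X.subtype with hA
  have hAX : A ≤ X := map_subtype_le _
  have hAc : ∀ α ∈ A, ∀ β ∈ A, Commute α β := by
    rintro _ ⟨a, ha, rfl⟩ _ ⟨b, hb, rfl⟩
    exact (hA₀c a ha b hb).map X.subtype
  have hAn : ∀ σ ∈ X, ∀ α ∈ A, σ * α * σ⁻¹ ∈ A := by
    rintro σ hσ _ ⟨a, ha, rfl⟩
    exact ⟨_, hA₀n.conj_mem a ha ⟨σ, hσ⟩, rfl⟩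
  obtain ⟨α₁, hα₁, hα₁1⟩ := A.bot_or_exists_ne_one.resolve_left fun e => hA₀ne
    ((Subgroup.map_eq_bot_iff_of_injective _ X.subtype_injective).mp e)
  have hAodd : Odd (Nat.card A) := hXodd.of_dvd_nat (card_dvd_of_le hAX)
  have hCA : ∀ t : T, (∀ α ∈ A, α t = t) → t = 1 := by
    intro t ht
    by_contra ht1
    refine hα₁1 (MulEquiv.ext fun b => ?_)
    by_cases hb : b = 1
    · simp [hb]
    obtain ⟨σ, hσ, rfl⟩ := htrans t b ht1 hb
    have h1 := ht _ (hAn σ⁻¹ (inv_mem hσ) α₁ hα₁)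
    rw [inv_inv, MulAut.mul_apply, MulAut.mul_apply] at h1
    rw [MulAut.one_apply]
    have h2 := congrArg σ h1
    rwa [MulAut.apply_inv_self] at h2
  obtain ⟨n, hn⟩ := IsPGroup.iff_card.mp (isPGroup_of_sq E.sys.sqT)
  have hn2 : 2 ≤ n := by
    by_contra hlt
    have := E.sys.four
    rw [hn] at this
    interval_cases n <;> norm_num at this
  have hfixmod : ∀ x : N, ∀ q : ℕ, q.Prime → orderOf (x : G) = q →
      2 ^ n ≡ Nat.card (fixT T (x : G)) [MOD q] := fun x q hq hx => by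
    rw [← hn]; exact card_fixT_modEq hq (hx ▸ pow_orderOf_eq_one _) x.2
  -- the prime of `A` is not `r`
  set l := orderOf α₁ with hl
  have hlp : l.Prime := (hXp α₁ (hAX hα₁) hα₁1).1
  haveI := Fact.mk hlp
  have hAl : ∀ α ∈ A, α ≠ 1 → orderOf α = l := by
    intro α hα hα1
    by_contra hne
    have hp := (hXp α (hAX hα) hα1).1
    have hm := (hAc α hα α₁ hα₁).orderOf_mul_eq_mul_orderOf_of_coprime
      ((Nat.coprime_primes hp hlp).mpr hne)
    have := (hXp _ (hAX (mul_mem hα hα₁)) fun e => by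
      rw [e, orderOf_one] at hm
      exact hlp.ne_one (Nat.eq_one_of_mul_eq_one_left hm.symm)).1
    rw [hm] at this
    exact absurd this (Nat.not_prime_mul hp.ne_one hlp.ne_one)
  have hlr : l ≠ r := by
    intro hlr
    by_cases hrgrp : ∀ σ ∈ X, σ ≠ 1 → orderOf σ = r
    · -- `X` is an `r`-group
      have hXr : IsPGroup r X := fun σ => ⟨1, by
        by_cases hσ : (σ : MulAut T) = 1
        · exact Subtype.ext (by simp [hσ])
        · exact Subtype.ext (by simp [← hrgrp σ σ.2 hσ, pow_orderOf_eq_one])⟩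
      letI : MulAction X T :=
        { smul := fun σ t => (σ : MulAut T) t
          one_smul := fun t => rfl
          mul_smul := fun σ σ' t => rfl }
      have horb : MulAction.orbit X a₀ = ({1} : Set T)ᶜ := by
        ext b
        rw [MulAction.mem_orbit_iff, Set.mem_compl_iff, Set.mem_singleton_iff]
        refine ⟨?_, fun hb => ?_⟩
        · rintro ⟨g, rfl⟩ e
          exact ha₀ ((g : MulAut T).injective (e.trans (map_one _).symm))
        · obtain ⟨σ, hσ, he⟩ := htrans a₀ b ha₀ hb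
          exact ⟨⟨σ, hσ⟩, he⟩
      have hidx : (MulAction.stabilizer X a₀).index = 2 ^ n - 1 := by
        rw [MulAction.index_stabilizer, horb, Set.ncard_compl, Set.ncard_singleton, hn]
      obtain ⟨k, hk⟩ := hXr.index (MulAction.stabilizer X a₀)
      have hs := pow_two_sub_one_eq_pow hG.prime hG.ne_two hn2 (hidx.symm.trans hk)
      obtain ⟨b, hb, hbp, -, hbo⟩ := lift τ hτX hτ1
      have h1 := hfixmod b r hG.prime (hbo ▸ hτr)
      have hF : fixT T (b : G) = T := by
        obtain ⟨j, -, hj⟩ := (Nat.dvd_prime_pow Nat.prime_two).mp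
          (hn ▸ card_dvd_of_le (show fixT T (b : G) ≤ T from inf_le_left))
        refine eq_of_le_of_card_ge (show fixT T (b : G) ≤ T from inf_le_left) ?_
        rw [hn]
        have h2 : 2 ^ n ≡ 1 [MOD r] := by
          rw [Nat.ModEq.comm, Nat.modEq_iff_dvd' Nat.one_le_two_pow]
          exact dvd_of_eq hs.symm
        have h3 : r ∣ Nat.card (fixT T (b : G)) - 1 :=
          (Nat.modEq_iff_dvd' Nat.card_pos).mp (h2.symm.trans h1)
        have h4 : 2 ≤ Nat.card (fixT T (b : G)) := by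
          haveI : Nontrivial (fixT T (b : G)) := ⟨⟨⟨a₀, mem_fixT.mpr ⟨a₀.2, by
            have := congrArg Subtype.val hτa
            rwa [← hb, hψ] at this⟩⟩, 1, fun e => ha₀ (Subtype.ext (congrArg Subtype.val e :))⟩⟩
          exact Finite.one_lt_card
        have := Nat.le_of_dvd (by omega) h3
        omega
      refine hτ1 (hb ▸ (hker b).mpr (mem_centralizer_iff.mpr fun t ht => ?_))
      exact (mul_inv_eq_iff_eq_mul.mp (mem_fixT.mp (hF.ge ht)).2).symm
    · push Not at hrgrp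
      obtain ⟨f, hfX, hf1, hfr⟩ := hrgrp
      set q := orderOf f with hq
      have hqp : q.Prime := (hXp f hfX hf1).1
      have hone : ∀ α ∈ A, α * f ≠ 1 ∧ orderOf (α * f) ≠ r ∧ (α * f) ^ q = 1 := by
        intro α hα
        have hmX := mul_mem (hAX hα) hfX
        have hα' : α ^ r = 1 := by
          by_cases h1 : α = 1
          · simp [h1]
          · rw [← hlr, ← hAl α hα h1, pow_orderOf_eq_one]
        have hne : α * f ≠ 1 := fun e => by
          have : f ^ r = 1 := by rw [eq_inv_of_mul_eq_one_right e, inv_pow, hα', inv_one]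
          exact hfr ((Nat.prime_dvd_prime_iff_eq hqp hG.prime).mp (orderOf_dvd_of_pow_eq_one this))
        have hwA : ∀ i : ℕ, (α * f) ^ i * (f ^ i)⁻¹ ∈ A := by
          intro i
          induction i with
          | zero => simp
          | succ i ih =>
            rw [show (α * f) ^ (i + 1) * (f ^ (i + 1))⁻¹ =
              α * (f * ((α * f) ^ i * (f ^ i)⁻¹) * f⁻¹) by rw [pow_succ', pow_succ']; group]
            exact mul_mem hα (hAn f hfX _ ih)
        have hor : orderOf (α * f) ≠ r := fun e => by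
          have h1 := hwA r
          rw [← e, pow_orderOf_eq_one, one_mul, inv_mem_iff, e] at h1
          by_cases h2 : f ^ r = 1
          · exact hfr ((Nat.prime_dvd_prime_iff_eq hqp hG.prime).mp (orderOf_dvd_of_pow_eq_one h2))
          · have h3 := hAl _ h1 h2
            rw [hlr, Nat.Coprime.orderOf_pow ((Nat.coprime_primes hqp hG.prime).mpr hfr)] at h3
            exact hfr h3
        refine ⟨hne, hor, ?_⟩
        have h1 := hwA q
        rw [show f ^ q = 1 from pow_orderOf_eq_one f, inv_one, mul_one] at h1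
        by_contra h2
        have h3 : orderOf ((α * f) ^ q) = r := hlr ▸ hAl _ h1 h2
        have h4 : r ∣ orderOf (α * f) := h3 ▸ orderOf_pow_dvd q
        exact hor ((Nat.prime_dvd_prime_iff_eq hG.prime (hXp _ hmX hne).1).mp h4).symm
      refine ha₀ (false_frob hTsq A hAc hAodd f hqp (fun α hα => hAn f hfX α hα)
        (fun α hα => (hone α hα).2.2) (fun α hα => ?_) hCA a₀)
      exact hfpf _ (mul_mem (hAX hα) hfX) (hone α hα).1 (hone α hα).2.1
  -- `A` is cyclic and self-centralising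
  have hAfpf : ∀ α ∈ A, α ≠ 1 → ∀ t : T, α t = t → t = 1 := fun α hα hα1 =>
    hfpf α (hAX hα) hα1 (hAl α hα hα1 ▸ hlr)
  have hcent : ∀ β ∈ X, Commute β α₁ → β ∈ zpowers α₁ := by
    intro β hβ hc
    by_contra hβA
    have hβ1 : β ≠ 1 := fun e => hβA (e ▸ one_mem _)
    have hop : ∀ γ ∈ X, γ ≠ 1 → Commute γ α₁ → orderOf γ = l := by
      intro γ hγ hγ1 hγc
      by_contra hne
      have hp := (hXp γ hγ hγ1).1
      have hm := hγc.orderOf_mul_eq_mul_orderOf_of_coprime ((Nat.coprime_primes hp hlp).mpr hne)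
      have := (hXp _ (mul_mem hγ (hAX hα₁)) fun e => by
        rw [e, orderOf_one] at hm
        exact hlp.ne_one (Nat.eq_one_of_mul_eq_one_left hm.symm)).1
      rw [hm] at this
      exact absurd this (Nat.not_prime_mul hp.ne_one hlp.ne_one)
    have hzX : zpowers α₁ ≤ X := zpowers_le.mpr (hAX hα₁)
    have hzc : ∀ α ∈ zpowers α₁, Commute β α := fun α hα => by
      obtain ⟨i, rfl⟩ := mem_zpowers_iff.mp hα
      exact hc.zpow_right i
    have hne : ∀ α ∈ zpowers α₁, α * β ≠ 1 ∧ orderOf (α * β) = l := fun α hα => by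
      have h1 : α * β ≠ 1 := fun e => hβA (eq_inv_of_mul_eq_one_right e ▸ inv_mem hα)
      refine ⟨h1, hop _ (mul_mem (hzX hα) hβ) h1 (Commute.mul_left ?_ hc)⟩
      obtain ⟨i, rfl⟩ := mem_zpowers_iff.mp hα
      exact (Commute.refl α₁).zpow_left i
    refine ha₀ (false_frob hTsq (zpowers α₁) (fun α hα γ hγ => ?_)
      (hAodd.of_dvd_nat (card_dvd_of_le (zpowers_le.mpr hα₁))) β hlp (fun α hα => ?_)
      (fun α hα => by rw [← (hne α hα).2]; exact pow_orderOf_eq_one _) (fun α hα => ?_)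
      (fun t ht => hAfpf α₁ hα₁ hα₁1 t (ht _ (mem_zpowers α₁))) a₀)
    · obtain ⟨i, rfl⟩ := mem_zpowers_iff.mp hα
      obtain ⟨j, rfl⟩ := mem_zpowers_iff.mp hγ
      exact Commute.zpow_zpow_self α₁ i j
    · rwa [(hzc α hα).eq, mul_inv_cancel_right]
    · exact hfpf _ (mul_mem (hzX hα) hβ) (hne α hα).1 ((hne α hα).2 ▸ hlr)
  have hAz : A = zpowers α₁ :=
    le_antisymm (fun α hα => hcent α (hAX hα) (hAc α hα α₁ hα₁)) (zpowers_le.mpr hα₁)
  have hAcard : Nat.card A = l := by rw [hAz, Nat.card_zpowers]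
  haveI hcyc : IsCyclic A := hAz ▸ (inferInstance : IsCyclic (zpowers α₁))
  -- the action on `A`
  let c : N →* MulAut A :=
    { toFun := fun x =>
        { toFun := fun α => ⟨ψ x * α * (ψ x)⁻¹, hAn _ ⟨x, rfl⟩ _ α.2⟩
          invFun := fun α => ⟨(ψ x)⁻¹ * α * ψ x, by
            simpa using hAn _ (inv_mem (⟨x, rfl⟩ : ψ x ∈ X)) _ α.2⟩
          left_inv := fun α => Subtype.ext (by simp [mul_assoc])
          right_inv := fun α => Subtype.ext (by simp [mul_assoc])
          map_mul' := fun α β => Subtype.ext (by simp [mul_assoc]) }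
      map_one' := MulEquiv.ext fun α => Subtype.ext (by simp)
      map_mul' := fun x y => MulEquiv.ext fun α => Subtype.ext (by simp [mul_assoc]) }
  have hc : ∀ (x : N) (α : A), ((c x α : A) : MulAut T) = ψ x * α * (ψ x)⁻¹ := fun x α => rfl
  have hc1 : ∀ x : N, c x = 1 ↔ ψ x ∈ A := by
    intro x
    refine ⟨fun h => ?_, fun h => MulEquiv.ext fun α => Subtype.ext ?_⟩
    · have := congrArg Subtype.val (DFunLike.congr_fun h (⟨α₁, hα₁⟩ : A))
      rw [hc] at this
      rw [hAz]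
      exact hcent _ ⟨x, rfl⟩ (mul_inv_eq_iff_eq_mul.mp this)
    · rw [hc, (hAc _ h _ α.2).eq, mul_inv_cancel_right]; rfl
  have hτA : τ ∉ A := fun h => hlr ((hAl τ h hτ1).symm.trans hτr)
  haveI : IsCyclic (MulAut A) := by
    haveI : Fact (Nat.Prime (Nat.card A)) := ⟨hAcard ▸ hlp⟩
    exact isCyclic_of_injective (IsCyclic.mulAutMulEquiv A).toMonoidHom
      (IsCyclic.mulAutMulEquiv A).injective
  obtain ⟨g, hg⟩ := (inferInstance : IsCyclic c.range).exists_generator
  obtain ⟨xg, hxg⟩ := g.2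
  have hcr : ∀ x : N, c x ∈ zpowers (g : MulAut A) := fun x => by
    obtain ⟨i, hi⟩ := mem_zpowers_iff.mp (hg ⟨c x, x, rfl⟩)
    exact ⟨i, congrArg Subtype.val hi⟩
  obtain ⟨xτ, hxτ⟩ := hτX
  have hgord : orderOf (g : MulAut A) = r := by
    have hτc : c xτ ≠ 1 := fun e => hτA (hxτ ▸ (hc1 xτ).mp e)
    have hrd : r ∣ orderOf (g : MulAut A) := by
      have h1 : orderOf (c xτ) = r := by
        refine orderOf_eq_prime ?_ hτc
        rw [← map_pow, hc1, map_pow, hxτ, ← hτr, pow_orderOf_eq_one]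
        exact one_mem _
      rw [← h1]
      exact orderOf_dvd_of_mem_zpowers (hcr xτ)
    have hne : ψ xg ≠ 1 := fun e => by
      have : c xg = 1 := (hc1 xg).mpr (e ▸ one_mem _)
      rw [hxg] at this
      rw [this, orderOf_one, Nat.dvd_one] at hrd
      exact hG.prime.ne_one hrd
    have hd : orderOf (g : MulAut A) ∣ orderOf (ψ xg) := by
      refine orderOf_dvd_of_pow_eq_one ?_
      rw [← hxg, ← map_pow, hc1, map_pow, pow_orderOf_eq_one]
      exact one_mem _
    rcases (hXp _ ⟨xg, rfl⟩ hne).1.eq_one_or_self_of_dvd _ hd with h1 | h1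
    · rw [h1, Nat.dvd_one] at hrd; exact absurd hrd hG.prime.ne_one
    · rw [← h1] at hd
      have := (hXp _ ⟨xg, rfl⟩ hne).1
      rw [← h1] at this
      exact ((Nat.prime_dvd_prime_iff_eq hG.prime this).mp hrd).symm
  have hcpow : ∀ x : N, c x ^ r = 1 := fun x => by
    obtain ⟨i, hi⟩ := mem_zpowers_iff.mp (hcr x)
    rw [← hi, ← zpow_natCast, ← zpow_mul, mul_comm, zpow_mul, zpow_natCast, ← hgord,
      pow_orderOf_eq_one, one_zpow]
  have hrdvd : r ∣ l - 1 := by
    rw [← hgord, ← Nat.totient_prime hlp, ← hAcard, ← IsCyclic.card_mulAut A]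
    exact orderOf_dvd_natCard _
  have hrlt : r < l := by
    have := Nat.le_of_dvd (by have := hlp.two_le; omega) hrdvd
    omega
  -- the number of points
  obtain ⟨σ, hσψ, hσp, -, hσo⟩ := lift α₁ (hAX hα₁) hα₁1
  have hcardT : Nat.card T = l + 1 := by
    have hd1 : l ∣ 2 ^ n - 1 := by
      have h1 := hfixmod σ l hlp hσo.symm
      have h2 : fixT T (σ : G) = ⊥ := by
        rw [eq_bot_iff]
        intro t ht
        obtain ⟨htT, he⟩ := mem_fixT.mp ht
        have := hAfpf α₁ hα₁ hα₁1 ⟨t, htT⟩ (Subtype.ext (by rw [← hσψ, hψ]; exact he))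
        rw [mem_bot]
        exact congrArg Subtype.val this
      rw [h2, Subgroup.card_bot] at h1
      exact (Nat.modEq_iff_dvd' Nat.one_le_two_pow).mp h1.symm
    letI : MulAction X T :=
      { smul := fun σ t => (σ : MulAut T) t
        one_smul := fun t => rfl
        mul_smul := fun σ σ' t => rfl }
    have horb : MulAction.orbit X a₀ = ({1} : Set T)ᶜ := by
      ext b
      rw [MulAction.mem_orbit_iff, Set.mem_compl_iff, Set.mem_singleton_iff]
      refine ⟨?_, fun hb => ?_⟩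
      · rintro ⟨g, rfl⟩ e
        exact ha₀ ((g : MulAut T).injective (e.trans (map_one _).symm))
      · obtain ⟨σ, hσ, he⟩ := htrans a₀ b ha₀ hb
        exact ⟨⟨σ, hσ⟩, he⟩
    have hidx : (MulAction.stabilizer X a₀).index = 2 ^ n - 1 := by
      rw [MulAction.index_stabilizer, horb, Set.ncard_compl, Set.ncard_singleton, hn]
    -- a bound on `|X|`
    have hXcard : Nat.card X ∣ l * r := by
      let cX : X →* MulAut A :=
        { toFun := fun σ =>
            { toFun := fun α => ⟨(σ : MulAut T) * α * (σ : MulAut T)⁻¹, hAn _ σ.2 _ α.2⟩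
              invFun := fun α => ⟨(σ : MulAut T)⁻¹ * α * (σ : MulAut T), by
                simpa using hAn _ (inv_mem σ.2) _ α.2⟩
              left_inv := fun α => Subtype.ext (by simp [mul_assoc])
              right_inv := fun α => Subtype.ext (by simp [mul_assoc])
              map_mul' := fun α β => Subtype.ext (by simp [mul_assoc]) }
          map_one' := MulEquiv.ext fun α => Subtype.ext (by simp)
          map_mul' := fun x y => MulEquiv.ext fun α => Subtype.ext (by simp [mul_assoc]) }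
      have hrange : cX.range ≤ zpowers (g : MulAut A) := by
        rintro _ ⟨⟨σ, x, rfl⟩, rfl⟩
        exact hcr x
      have hkerle : cX.ker ≤ A.subgroupOf X := by
        intro σ hσ
        obtain ⟨x, hx⟩ := σ.2
        rw [mem_subgroupOf, ← hx]
        refine (hc1 x).mp (MulEquiv.ext fun α => Subtype.ext ?_)
        have := congrArg Subtype.val (DFunLike.congr_fun (MonoidHom.mem_ker.mp hσ) α)
        rw [hc, hx]
        exact this
      rw [← cX.ker.card_mul_index, Subgroup.index_ker]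
      refine Nat.mul_dvd_mul ((card_dvd_of_le hkerle).trans ?_) ((card_dvd_of_le hrange).trans ?_)
      · rw [Nat.card_congr (subgroupOfEquivOfLe hAX).toEquiv, hAcard]
      · rw [Nat.card_zpowers, hgord]
    rw [hn]
    have hd2 : 2 ^ n - 1 ∣ l * r := hidx ▸ (index_dvd_card _).trans hXcard
    obtain ⟨m, hm⟩ := hd1
    have hmr : m ∣ r := Nat.dvd_of_mul_dvd_mul_left hlp.pos (hm ▸ hd2)
    rcases (Nat.dvd_prime hG.prime).mp hmr with rfl | hm'
    · have := Nat.one_le_two_pow (n := n)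
      omega
    exfalso
    subst hm'
    have hst : τ ∈ X := ⟨xτ, hxτ⟩
    have h1 : MulAction.stabilizer X a₀ = ⊥ := by
      refine Subgroup.card_eq_one.mp ?_
      have h2 := (MulAction.stabilizer X a₀).card_mul_index
      rw [hidx, hm] at h2
      have h3 : Nat.card (MulAction.stabilizer X a₀) * (l * m) ∣ 1 * (l * m) := by
        rw [h2, one_mul]; exact hXcard
      exact Nat.dvd_one.mp (Nat.dvd_of_mul_dvd_mul_right (Nat.mul_pos hlp.pos hG.prime.pos) h3)
    have : (⟨τ, hst⟩ : X) ∈ MulAction.stabilizer X a₀ := hτa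
    rw [h1, mem_bot] at this
    exact hτ1 (congrArg Subtype.val this)
  let e : MulAut A ≃* (ZMod l)ˣ := (IsCyclic.mulAutMulEquiv A).trans
    (Units.mapEquiv (ZMod.ringEquivCongr hAcard).toMulEquiv)
  let φ : N →* (ZMod l)ˣ := e.toMonoidHom.comp c
  have hφ : ∀ x y : N, φ x = φ y ↔ c x = c y := fun x y =>
    ⟨fun h => e.injective h, fun h => congrArg e h⟩
  have hφ1 : ∀ x : N, φ x = 1 ↔ ψ x ∈ A := fun x => by
    rw [← map_one φ, hφ, map_one, hc1]
  have hmemA : ∀ β ∈ A, ∃ i : ℕ, β = α₁ ^ i := fun β hβ => by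
    obtain ⟨i, hi⟩ := mem_powers_iff_mem_zpowers.mpr (hAz ▸ hβ)
    exact ⟨i, hi.symm⟩
  refine ⟨{
    s := l
    s_prime := hlp
    s_ne := hlr
    r_lt := hrlt
    r_dvd := hrdvd
    card_T := hcardT
    φ := φ
    φ_pow := fun x => by
      rw [← map_pow, hφ1, ← hc1, map_pow]
      exact hcpow x
    φ_cent := fun x hx => (hφ1 x).mpr ((hker x).mpr hx ▸ one_mem _)
    σ := σ
    σ_ord := hσo.symm
    φ_σ := (hφ1 σ).mpr (hσψ ▸ hα₁)
    ker := fun x hx => by
      obtain ⟨i, hi⟩ := hmemA _ ((hφ1 x).mp hx)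
      refine ⟨i, (hker ((σ ^ i)⁻¹ * x)).mp ?_⟩
      rw [map_mul, map_inv, map_pow, hσψ, hi, inv_mul_cancel]
    norm := fun x => by
      obtain ⟨i, hi⟩ := hmemA _ (hAn _ (⟨x, rfl⟩ : ψ x ∈ X) α₁ hα₁)
      refine ⟨i, (hker ((σ ^ i)⁻¹ * (x * σ * x⁻¹))).mp ?_⟩
      rw [map_mul, map_mul, map_mul, map_inv, map_inv, map_pow, hσψ, hi, inv_mul_cancel]
    φ_eq := fun x y hxy => by
      have h1 : ψ ((x * σ * x⁻¹)⁻¹ * (y * σ * y⁻¹)) = 1 := (hker _).mpr hxy
      rw [map_mul, map_inv, inv_mul_eq_one, map_mul, map_mul, map_mul, map_mul, map_inv,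
        map_inv, hσψ] at h1
      rw [hφ]
      refine MulEquiv.ext fun β => Subtype.ext ?_
      obtain ⟨i, hi⟩ := hmemA _ β.2
      rw [hc, hc, hi, ← conj_pow, ← conj_pow, h1]
    trans := fun a ha ha1 b hb hb1 => by
      have hne : ∀ i : ℕ, i < l → (α₁ ^ i) ⟨a, ha⟩ ≠ 1 := fun i _ e => ha1 (congrArg Subtype.val
        ((α₁ ^ i).injective (e.trans (map_one _).symm) : (⟨a, ha⟩ : T) = 1))
      let F : Fin l → {t : T // t ≠ 1} := fun i => ⟨(α₁ ^ (i : ℕ)) ⟨a, ha⟩, hne i i.2⟩
      have hinj : Function.Injective F := by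
        intro i j he
        have he' : (α₁ ^ (i : ℕ)) ⟨a, ha⟩ = (α₁ ^ (j : ℕ)) ⟨a, ha⟩ := congrArg Subtype.val he
        have h1 : ((α₁ ^ (j : ℕ))⁻¹ * α₁ ^ (i : ℕ)) (⟨a, ha⟩ : T) = ⟨a, ha⟩ := by
          rw [MulAut.mul_apply, he', MulAut.inv_apply_self]
        by_contra hij
        refine ha1 (congrArg Subtype.val (hAfpf _ (mul_mem (inv_mem (pow_mem hα₁ _))
          (pow_mem hα₁ _)) (fun e' => hij (Fin.ext ?_)) _ h1))
        exact pow_injOn_Iio_orderOf i.2 j.2 (inv_mul_eq_one.mp e').symm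
      have hbij := hinj.bijective_of_nat_card_le (by
        cases nonempty_fintype T
        rw [Nat.card_eq_fintype_card, Fintype.card_subtype_compl, Fintype.card_subtype_eq,
          ← Nat.card_eq_fintype_card, hcardT, Nat.card_eq_fintype_card, Fintype.card_fin]
        omega)
      obtain ⟨i, hi⟩ := hbij.2 ⟨⟨b, hb⟩, fun e => hb1 (congrArg Subtype.val e)⟩
      refine ⟨i, ?_⟩
      have h2 : (α₁ ^ (i : ℕ)) (⟨a, ha⟩ : T) = ⟨b, hb⟩ := congrArg Subtype.val hi
      rw [← hσψ, ← map_pow] at h2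
      have h3 := congrArg Subtype.val h2
      rwa [hψ] at h3
    exists_r := by
      obtain ⟨b, hb, -, -, hbo⟩ := lift τ ⟨xτ, hxτ⟩ hτ1
      exact ⟨b, hbo ▸ hτr, fun h => hτ1 (hb ▸ (hker b).mpr h)⟩
    r_elt := fun y hy hyC => by
      have hη1 : ψ y ≠ 1 := fun e => hyC ((hker y).mp e)
      have hηr : orderOf (ψ y) = r := by
        refine orderOf_eq_prime ?_ hη1
        rw [← map_pow, show y ^ r = 1 from Subtype.ext (by
          rw [SubmonoidClass.coe_pow, ← hy, pow_orderOf_eq_one]; rfl), map_one]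
      have hηA : ψ y ∉ A := fun h => hlr ((hAl _ h hη1).symm.trans hηr)
      refine ⟨fun e => hηA ((hφ1 y).mp e), ?_⟩
      have hF : 2 ≤ Nat.card (fixT T (y : G)) := by
        by_contra hlt
        have h1 := hfixmod y r hG.prime hy
        have h0 : 0 < Nat.card (fixT T (y : G)) := Nat.card_pos
        rw [show Nat.card (fixT T (y : G)) = 1 by omega] at h1
        have h2 : r ∣ l := by
          have := (Nat.modEq_iff_dvd' Nat.one_le_two_pow).mp h1.symm
          rwa [← hn, hcardT, Nat.add_sub_cancel] at this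
        exact hlr ((Nat.prime_dvd_prime_iff_eq hG.prime hlp).mp h2).symm
      haveI : Nontrivial (fixT T (y : G)) := (Finite.one_lt_card_iff_nontrivial).mp hF
      obtain ⟨⟨a, haF⟩, ha1⟩ := exists_ne (1 : fixT T (y : G))
      obtain ⟨haT, hya⟩ := mem_fixT.mp haF
      have ha1' : a ≠ 1 := fun e => ha1 (Subtype.ext e)
      refine ⟨a, haT, ha1', fun t ht => ⟨fun he => ?_, ?_⟩⟩
      · by_contra hcon
        push Not at hcon
        obtain ⟨β, hβX, hβ⟩ := htrans ⟨a, haT⟩ ⟨t, ht⟩ (fun e => ha1' (congrArg Subtype.val e))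
          (fun e => hcon.1 (congrArg Subtype.val e))
        have hreg : ∃ γ ∈ A, γ ⟨a, haT⟩ = (⟨t, ht⟩ : T) := by
          have hne : ∀ i : ℕ, (α₁ ^ i) ⟨a, haT⟩ ≠ 1 := fun i e => ha1' (congrArg Subtype.val
            ((α₁ ^ i).injective (e.trans (map_one _).symm) : (⟨a, haT⟩ : T) = 1))
          let F : Fin l → {t : T // t ≠ 1} := fun i => ⟨(α₁ ^ (i : ℕ)) ⟨a, haT⟩, hne i⟩
          have hinj : Function.Injective F := by
            intro i j he
            have he' : (α₁ ^ (i : ℕ)) ⟨a, haT⟩ = (α₁ ^ (j : ℕ)) ⟨a, haT⟩ := congrArg Subtype.val he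
            have h1 : ((α₁ ^ (j : ℕ))⁻¹ * α₁ ^ (i : ℕ)) (⟨a, haT⟩ : T) = ⟨a, haT⟩ := by
              rw [MulAut.mul_apply, he', MulAut.inv_apply_self]
            by_contra hij
            refine ha1' (congrArg Subtype.val (hAfpf _ (mul_mem (inv_mem (pow_mem hα₁ _))
              (pow_mem hα₁ _)) (fun e' => hij (Fin.ext ?_)) _ h1))
            exact pow_injOn_Iio_orderOf i.2 j.2 (inv_mul_eq_one.mp e').symm
          have hbij := hinj.bijective_of_nat_card_le (by
            cases nonempty_fintype T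
            rw [Nat.card_eq_fintype_card, Fintype.card_subtype_compl, Fintype.card_subtype_eq,
              ← Nat.card_eq_fintype_card, hcardT, Nat.card_eq_fintype_card, Fintype.card_fin]
            omega)
          obtain ⟨i, hi⟩ := hbij.2 ⟨⟨t, ht⟩, fun e => hcon.1 (congrArg Subtype.val e)⟩
          exact ⟨_, pow_mem hα₁ _, congrArg Subtype.val hi⟩
        obtain ⟨γ, hγ, hγa⟩ := hreg
        have hfa : ψ y ⟨a, haT⟩ = ⟨a, haT⟩ := Subtype.ext (by rw [hψ]; exact hya)
        have hft : ψ y ⟨t, ht⟩ = ⟨t, ht⟩ := Subtype.ext (by rw [hψ]; exact he)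
        have h1 : (γ⁻¹ * (ψ y * γ * (ψ y)⁻¹)) (⟨a, haT⟩ : T) = ⟨a, haT⟩ := by
          have h2 : (ψ y)⁻¹ (⟨a, haT⟩ : T) = ⟨a, haT⟩ := by
            nth_rewrite 1 [← hfa]
            rw [MulAut.inv_apply_self]
          rw [MulAut.mul_apply, MulAut.mul_apply, MulAut.mul_apply, h2, hγa, hft, ← hγa,
            MulAut.inv_apply_self]
        by_cases h0 : γ⁻¹ * (ψ y * γ * (ψ y)⁻¹) = 1
        · have hγ1 : γ ≠ 1 := fun e => hcon.2 (by
            rw [e, MulAut.one_apply] at hγa
            exact (congrArg Subtype.val hγa).symm)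
          have hcomm : Commute (ψ y) γ := mul_inv_eq_iff_eq_mul.mp (inv_mul_eq_one.mp h0).symm
          obtain ⟨i, hi⟩ := hmemA γ hγ
          have : orderOf γ = l := hAl γ hγ hγ1
          have hmem : α₁ ∈ zpowers γ := by
            have hle : zpowers γ = A := eq_of_le_of_card_ge (zpowers_le.mpr hγ)
              (by rw [Nat.card_zpowers, this, hAcard])
            rw [hle]; exact hα₁
          obtain ⟨j, hj⟩ := mem_zpowers_iff.mp hmem
          exact hηA (hAz ▸ hcent _ ⟨y, rfl⟩ (hj ▸ hcomm.zpow_right j))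
        · exact ha1' (congrArg Subtype.val (hAfpf _ (mul_mem (inv_mem hγ)
            (hAn _ ⟨y, rfl⟩ γ hγ)) h0 _ h1))
      · rintro (rfl | rfl)
        · simp
        · exact hya }⟩

end Cfsg.Agent.TwoR73
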