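import Mathlib
import Cfsg.Agent.S3996
import Cfsg.Agent.Lib.Fitting.Minimal
import Cfsg.Agent.Lib.Components.GenFitting
import Cfsg.Agent.Lib.Thompson.Cores
import Cfsg.Agent.Lib.Coprime.Generation

/-!
# Groups whose element orders are primes or `2r`: basic facts
-/

set_option autoImplicit false
set_option linter.style.haveILetI false
set_option linter.unusedSectionVars false

open Subgroup

namespace Cfsg.Agent.TwoR73

universe u

/-- Every nontrivial element order is a prime or `2r`. -/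
structure Hyp (G : Type u) [Group G] (r : ℕ) : Prop where
  prime : r.Prime
  ne_two : r ≠ 2
  spec : ∀ g : G, g ≠ 1 → (orderOf g).Prime ∨ orderOf g = 2 * r

variable {G : Type u} [Group G] [Finite G] {r : ℕ}

theorem odd_of_isPGroup {p : ℕ} (hp : p.Prime) (hp2 : p ≠ 2) {W : Subgroup G}
    (hW : IsPGroup p W) : Odd (Nat.card W) := by
  haveI := Fact.mk hp
  obtain ⟨k, hk⟩ := IsPGroup.iff_card.mp hW
  rw [hk]
  exact (hp.odd_of_ne_two hp2).pow

theorem odd_orderOf {U : Subgroup G} (hU : Odd (Nat.card U)) {x : G} (hx : x ∈ U) :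
    Odd (orderOf x) :=
  hU.of_dvd_nat (Subgroup.orderOf_dvd_natCard U hx)

theorem eq_one_of_odd_of_sq {x : G} (ho : Odd (orderOf x)) (hx : x * x = 1) : x = 1 := by
  rw [← orderOf_eq_one_iff]
  exact Nat.eq_one_of_dvd_coprimes ho.coprime_two_right (dvd_refl _)
    (orderOf_dvd_of_pow_eq_one (by rw [pow_two, hx]))

theorem orderOf_two {x : G} (hx : x * x = 1) (h1 : x ≠ 1) : orderOf x = 2 :=
  orderOf_eq_prime (by rw [pow_two, hx]) h1

theorem mul_self_two {x : G} (hx : orderOf x = 2) : x * x = 1 := by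
  rw [← pow_two, ← hx, pow_orderOf_eq_one]

theorem ne_one_two {x : G} (hx : orderOf x = 2) : x ≠ 1 := fun e => by simp [e] at hx

theorem inv_two {x : G} (hx : x * x = 1) : x⁻¹ = x := inv_eq_of_mul_eq_one_right hx

/-- A group of exponent two is commutative. -/
theorem comm_of_sq {T : Subgroup G} (hT : ∀ x ∈ T, x * x = 1) {x y : G} (hx : x ∈ T)
    (hy : y ∈ T) : Commute x y := by
  have h := inv_two (hT _ (mul_mem hx hy))
  rwa [mul_inv_rev, inv_two (hT x hx), inv_two (hT y hy), eq_comm] at h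

theorem isMulCommutative_of_sq {T : Subgroup G} (hT : ∀ x ∈ T, x * x = 1) :
    IsMulCommutative T :=
  ⟨⟨fun a b => Subtype.ext (comm_of_sq hT a.2 b.2)⟩⟩

theorem isPGroup_of_sq {T : Subgroup G} (hT : ∀ x ∈ T, x * x = 1) : IsPGroup 2 T := fun x =>
  ⟨1, Subtype.ext (by simp [pow_two, hT x x.2])⟩

theorem not_isCyclic_of_sq {T : Subgroup G} (hT : ∀ x ∈ T, x * x = 1) (h4 : 4 ≤ Nat.card T) :
    ¬ IsCyclic T := by
  intro hc
  obtain ⟨g, hg⟩ := IsCyclic.exists_ofOrder_eq_natCard (α := T)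
  have h2 : orderOf g ∣ 2 := orderOf_dvd_of_pow_eq_one (Subtype.ext (by simp [pow_two, hT g g.2]))
  have := Nat.le_of_dvd (by norm_num) h2
  omega

theorem coprime_of_sq {T U : Subgroup G} (hT : ∀ x ∈ T, x * x = 1) (hU : Odd (Nat.card U)) :
    (Nat.card T).Coprime (Nat.card U) := by
  haveI := Fact.mk Nat.prime_two
  obtain ⟨k, hk⟩ := IsPGroup.iff_card.mp (isPGroup_of_sq hT)
  rw [hk]
  exact hU.coprime_two_left.pow_left k

namespace Hyp

variable (h : Hyp G r)
include h

theorem r_odd : Odd r := h.prime.odd_of_ne_two h.ne_two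

theorem three_le : 3 ≤ r := by
  have := h.prime.two_le
  have := h.ne_two
  omega

theorem orderOf_prime {g : G} (hg : g ≠ 1) (ho : Odd (orderOf g)) : (orderOf g).Prime :=
  (h.spec g hg).resolve_right fun h2 => by
    rw [h2] at ho
    exact Nat.not_even_iff_odd.mpr ho (even_two_mul r)

theorem two_group_sq {P : Subgroup G} (hP : IsPGroup 2 P) {x : G} (hx : x ∈ P) : x * x = 1 := by
  by_cases h1 : x = 1
  · simp [h1]
  obtain ⟨k, hk⟩ := hP ⟨x, hx⟩
  have hd : orderOf x ∣ 2 ^ k := orderOf_dvd_of_pow_eq_one (by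
    simpa using congrArg Subtype.val hk)
  rcases h.spec x h1 with hp | hp
  · exact mul_self_two ((Nat.prime_dvd_prime_iff_eq hp Nat.prime_two).mp (hp.dvd_of_dvd_pow hd))
  · rw [hp] at hd
    have : r ∣ 2 ^ k := (dvd_mul_left r 2).trans hd
    exact absurd ((Nat.prime_dvd_prime_iff_eq h.prime Nat.prime_two).mp
      (h.prime.dvd_of_dvd_pow this)) h.ne_two

theorem pow_r {W : Subgroup G} (hW : IsPGroup r W) {x : G} (hx : x ∈ W) : x ^ r = 1 := by
  by_cases h1 : x = 1
  · simp [h1]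
  obtain ⟨k, hk⟩ := hW ⟨x, hx⟩
  have hd : orderOf x ∣ r ^ k := orderOf_dvd_of_pow_eq_one (by
    simpa using congrArg Subtype.val hk)
  have hp := h.orderOf_prime h1 ((h.r_odd.pow).of_dvd_nat hd)
  rw [← (Nat.prime_dvd_prime_iff_eq hp h.prime).mp (hp.dvd_of_dvd_pow hd)]
  exact pow_orderOf_eq_one x

theorem orderOf_r {W : Subgroup G} (hW : IsPGroup r W) {x : G} (hx : x ∈ W) (h1 : x ≠ 1) :
    orderOf x = r := by
  haveI := Fact.mk h.prime
  exact orderOf_eq_prime (h.pow_r hW hx) h1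

/-- The odd order elements commuting with an involution are `r`-elements. -/
theorem orderOf_r_of_commute {a x : G} (ha : orderOf a = 2) (hc : Commute a x) (h1 : x ≠ 1)
    (ho : Odd (orderOf x)) : orderOf x = r := by
  have hp := h.orderOf_prime h1 ho
  have hm := hc.orderOf_mul_eq_mul_orderOf_of_coprime (by rw [ha]; exact ho.coprime_two_left)
  rw [ha] at hm
  have hne : a * x ≠ 1 := fun e => by
    rw [orderOf_eq_one_iff.mpr e] at hm
    omega
  rcases h.spec _ hne with hq | hq <;> rw [hm] at hq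
  · exact absurd hq (Nat.not_prime_mul (by norm_num) hp.ne_one)
  · omega

theorem orderOf_cases_of_commute_r {y x : G} (hy : orderOf y = r) (hc : Commute y x) {q : ℕ}
    (hq : q.Prime) (hx : orderOf x = q) : q = 2 ∨ q = r := by
  by_contra hne
  push Not at hne
  have hm := hc.orderOf_mul_eq_mul_orderOf_of_coprime
    (by rw [hy, hx]; exact (Nat.coprime_primes h.prime hq).mpr hne.2.symm)
  rw [hy, hx] at hm
  have hne1 : y * x ≠ 1 := fun e => by
    rw [orderOf_eq_one_iff.mpr e] at hm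
    exact h.prime.ne_one (Nat.eq_one_of_mul_eq_one_right hm.symm)
  rcases h.spec _ hne1 with h2 | h2 <;> rw [hm] at h2
  · exact absurd h2 (Nat.not_prime_mul h.prime.ne_one hq.ne_one)
  · exact hne.1 (Nat.eq_of_mul_eq_mul_left h.prime.pos (h2.trans (mul_comm 2 r)))

theorem solvable_of_primes {X : Subgroup G}
    (hX : ∀ x ∈ X, ∀ q : ℕ, q.Prime → orderOf x = q → q = 2 ∨ q = r) : Group.IsSolvable X := by
  refine S3996.isSolvable_two X ((Finset.card_le_card (t := {2, r}) fun q hq => ?_).trans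
    Finset.card_le_two)
  obtain ⟨hq, hd, -⟩ := Nat.mem_primeFactors.mp hq
  haveI := Fact.mk hq
  obtain ⟨x, hx⟩ := exists_prime_orderOf_dvd_card' q hd
  simpa using hX x x.2 q hq (by rw [← hx, Subgroup.orderOf_coe])

theorem solvable_centralizer_inv {a : G} (ha : orderOf a = 2) :
    Group.IsSolvable (centralizer ({a} : Set G)) :=
  h.solvable_of_primes fun x hx q hq hxq => by
    rcases hq.eq_two_or_odd' with h2 | ho
    · exact Or.inl h2
    · refine Or.inr (hxq ▸ h.orderOf_r_of_commute ha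
        (mem_centralizer_singleton_iff.mp hx).symm (fun e => ?_) (hxq ▸ ho))
      rw [e, orderOf_one] at hxq
      exact hq.ne_one hxq.symm

theorem solvable_centralizer_r {y : G} (hy : orderOf y = r) :
    Group.IsSolvable (centralizer ({y} : Set G)) :=
  h.solvable_of_primes fun x hx q hq hxq =>
    h.orderOf_cases_of_commute_r hy (mem_centralizer_singleton_iff.mp hx).symm hq hxq

/-- An odd order subgroup normalised by a noncyclic elementary two-group is an `r`-group. -/
theorem isPGroup_of_invariant {T U : Subgroup G} (hT : ∀ x ∈ T, x * x = 1) (h4 : 4 ≤ Nat.card T)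
    (hTU : T ≤ normalizer (U : Set G)) (hU : Odd (Nat.card U)) : IsPGroup r U := by
  haveI := isMulCommutative_of_sq hT
  have hcop := coprime_of_sq hT hU
  refine IsPGroup.of_card (n := (Nat.card U).primeFactorsList.length)
    (Nat.eq_prime_pow_of_unique_prime_dvd Nat.card_pos.ne' fun {q} hq hd => ?_)
  by_contra hqr
  haveI := Fact.mk hq
  obtain ⟨R, hR⟩ := Coprime.exists_invariant_sylow T U hTU hcop
    (Or.inl (Group.isSolvable_of_comm fun a b => mul_comm' a b)) q
  set R' := (R : Subgroup U).map U.subtype with hR'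
  have hRq : IsPGroup q R' := R.2.map _
  have hRo : Odd (Nat.card R') := hU.of_dvd_nat (card_dvd_of_le (map_subtype_le _))
  have hbot : R' ≤ ⊥ := Coprime.le_of_centralizer_le T R' ⊥ (not_isCyclic_of_sq hT h4) hR
    (coprime_of_sq hT hRo)
    fun e he he1 y hy => by
      by_contra hy1
      rw [mem_bot] at hy1
      have hor := h.orderOf_r_of_commute (orderOf_two (hT e he) he1)
        (mem_centralizer_singleton_iff.mp hy.2).symm hy1 (odd_orderOf hRo hy.1)
      obtain ⟨k, hk⟩ := hRq ⟨y, hy.1⟩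
      have hd' : orderOf y ∣ q ^ k := orderOf_dvd_of_pow_eq_one (by
        simpa using congrArg Subtype.val hk)
      rw [hor] at hd'
      exact hqr ((Nat.prime_dvd_prime_iff_eq h.prime hq).mp (h.prime.dvd_of_dvd_pow hd')).symm
  exact R.ne_bot_of_dvd_card hd
    ((Subgroup.map_eq_bot_iff_of_injective _ U.subtype_injective).mp (le_bot_iff.mp hbot))

end Hyp

/-- The odd core of a solvable subgroup with an elementary abelian Sylow two-subgroup. -/
theorem exists_core {X T : Subgroup G} (hX : Group.IsSolvable X) (hTX : T ≤ X)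
    (hT : ∀ x ∈ T, x * x = 1)
    (hmax : ∀ P : Subgroup G, IsPGroup 2 P → T ≤ P → P ≤ X → P = T) :
    ∃ O : Subgroup G, O ≤ X ∧ Odd (Nat.card O) ∧ X ≤ normalizer (O : Set G) ∧
      (∀ x ∈ X, ∀ t ∈ T, x * t * x⁻¹ ∈ T ⊔ O) ∧
      ∀ U : Subgroup G, U ≤ X → Odd (Nat.card U) → T ≤ normalizer (U : Set G) → U ≤ O := by
  haveI := hX
  haveI : Fact (Nat.Prime 2) := ⟨Nat.prime_two⟩
  let N : Subgroup X := Cfsg.pPrimeCore 2 X
  haveI hN : N.Normal := Thompson.sSup_normal fun M hM => hM.1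
  have hNodd : Odd (Nat.card N) := Nat.coprime_two_right.mp Thompson.card_pPrimeCore_coprime
  let S : Sylow 2 X :=
    { toSubgroup := T.subgroupOf X
      isPGroup' := (isPGroup_of_sq hT).comap_of_injective X.subtype X.subtype_injective
      is_maximal' := by
        intro Q hQ hle
        have hTQ : T ≤ Q.map X.subtype := fun t ht => ⟨⟨t, hTX ht⟩, hle ht, rfl⟩
        have := hmax _ (hQ.map _) hTQ (map_subtype_le _)
        rw [← this]
        simp [Subgroup.subgroupOf, Subgroup.comap_map_eq_self_of_injective X.subtype_injective] }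
  let π := QuotientGroup.mk' N
  let Sb := S.mapSurjective (QuotientGroup.mk'_surjective N)
  have hSb : (Sb : Subgroup (X ⧸ N)) = (T.subgroupOf X).map π := rfl
  have hO : Cfsg.pPrimeCore 2 (X ⧸ N) = ⊥ := Thompson.pPrimeCore_quotient_pPrimeCore
  have hself : centralizer (Cfsg.pCore 2 (X ⧸ N) : Set (X ⧸ N)) ≤ Cfsg.pCore 2 (X ⧸ N) := by
    have h := Fitting.centralizer_fitting_le (G := X ⧸ N)
    rwa [Components.fitting_eq_pCore_of_pPrimeCore_eq_bot (p := 2) hO] at h
  have hle : Cfsg.pCore 2 (X ⧸ N) ≤ Sb := Thompson.pCore_le_sylow Sb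
  have hSsq : ∀ y ∈ (Sb : Subgroup (X ⧸ N)), y * y = 1 := by
    rw [hSb]
    rintro _ ⟨t, ht, rfl⟩
    rw [← map_mul, show t * t = 1 from Subtype.ext (hT t ht), map_one]
  have hge : (Sb : Subgroup (X ⧸ N)) ≤ Cfsg.pCore 2 (X ⧸ N) := fun y hy =>
    hself (mem_centralizer_iff.mpr fun z hz => (comm_of_sq hSsq (hle hz) hy).eq)
  have heq : (Sb : Subgroup (X ⧸ N)) = Cfsg.pCore 2 (X ⧸ N) := le_antisymm hge hle
  have hSn : (Sb : Subgroup (X ⧸ N)).Normal := by
    rw [heq]; exact Thompson.sSup_normal fun M hM => hM.1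
  refine ⟨N.map X.subtype, map_subtype_le _,
    by rwa [card_map_of_injective X.subtype_injective], ?_, ?_, ?_⟩
  · refine Coprime.le_normalizer_of_conj_mem ?_
    rintro x hx _ ⟨n, hn, rfl⟩
    exact ⟨_, hN.conj_mem n hn ⟨x, hx⟩, rfl⟩
  · intro x hx t ht
    let x' : X := ⟨x, hx⟩
    let t' : X := ⟨t, hTX ht⟩
    have h1 : π (x' * t' * x'⁻¹) ∈ (T.subgroupOf X).map π := by
      rw [map_mul, map_mul, map_inv, ← hSb]
      exact hSn.conj_mem _ (hSb ▸ mem_map_of_mem π ht) _
    obtain ⟨s, hs, hs'⟩ := h1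
    have h2 : s⁻¹ * (x' * t' * x'⁻¹) ∈ N := QuotientGroup.eq.mp hs'
    have h3 : (s : G)⁻¹ * (x * t * x⁻¹) ∈ N.map X.subtype := ⟨_, h2, rfl⟩
    simpa using mul_mem (mem_sup_left (T := N.map X.subtype) (mem_subgroupOf.mp hs))
      (mem_sup_right (S := T) h3)
  · intro U hUX hUo hTU u hu
    let u' : X := ⟨u, hUX hu⟩
    have hodd : ∀ v : X, (v : G) ∈ U → π v ∈ (Sb : Subgroup (X ⧸ N)) → π v = 1 := fun v hv hvS =>
      eq_one_of_odd_of_sq ((odd_orderOf hUo hv).of_dvd_nat
        ((orderOf_map_dvd π v).trans (Subgroup.orderOf_coe v).symm.dvd)) (hSsq _ hvS)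
    have hc : π u' ∈ centralizer (Cfsg.pCore 2 (X ⧸ N) : Set (X ⧸ N)) := by
      rw [← heq, mem_centralizer_iff]
      intro y hy
      rw [hSb] at hy
      obtain ⟨t, ht, rfl⟩ := hy
      have htm : π t ∈ (Sb : Subgroup (X ⧸ N)) := hSb ▸ mem_map_of_mem π ht
      have h1 : π (t * u' * t⁻¹ * u'⁻¹) = 1 := by
        refine hodd _ ?_ ?_
        · exact mul_mem ((mem_normalizer_iff.mp (hTU ht) u).mp hu) (inv_mem hu)
        · rw [map_mul, map_mul, map_mul, map_inv, map_inv, mul_assoc, mul_assoc]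
          refine mul_mem htm ?_
          rw [← mul_assoc]
          exact hSn.conj_mem _ (inv_mem htm) _
      rw [map_mul, map_mul, map_mul, map_inv, map_inv, mul_inv_eq_one, mul_inv_eq_iff_eq_mul] at h1
      exact h1
    have h2 := hodd u' hu (hle (hself hc))
    exact ⟨u', (QuotientGroup.eq_one_iff u').mp h2, rfl⟩

end Cfsg.Agent.TwoR73
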