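import Cfsg.Agent.TwoR73.Embedded

/-!
# The strongly embedded configuration: counting
-/

set_option autoImplicit false
set_option linter.style.haveILetI false
set_option linter.unusedSectionVars false

open Subgroup

namespace Cfsg.Agent.TwoR73

universe u

variable {G : Type u} [Group G] [Finite G] {r : ℕ}

/-- The elements of `T` fixed by conjugation. -/
def fixT (T : Subgroup G) (g : G) : Subgroup G := T ⊓ centralizer ({g} : Set G)

theorem mem_fixT {T : Subgroup G} {g t : G} : t ∈ fixT T g ↔ t ∈ T ∧ g * t * g⁻¹ = t := by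
  rw [fixT, mem_inf, mem_centralizer_singleton_iff, mul_inv_eq_iff_eq_mul, eq_comm (a := t * g)]

theorem card_fixT_modEq {T : Subgroup G} {g : G} {q : ℕ} (hq : q.Prime) (hg : g ^ q = 1)
    (hgT : g ∈ normalizer (T : Set G)) : Nat.card T ≡ Nat.card (fixT T g) [MOD q] := by
  haveI := Fact.mk hq
  let P := zpowers (⟨g, hgT⟩ : normalizer (T : Set G))
  letI : MulAction P T :=
    { smul := fun p t => T.normalizerMonoidHom p.1 t
      one_smul := fun t => by
        show T.normalizerMonoidHom ((1 : P) : normalizer (T : Set G)) t = t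
        rw [OneMemClass.coe_one, map_one]; rfl
      mul_smul := fun p p' t => by
        show T.normalizerMonoidHom ((p * p' : P) : normalizer (T : Set G)) t = _
        rw [Subgroup.coe_mul, map_mul]; rfl }
  have hsmul : ∀ (p : P) (t : T),
      ((p • t : T) : G) = ((p : normalizer (T : Set G)) : G) * t *
        (((p : normalizer (T : Set G)) : G))⁻¹ := fun p t => rfl
  have hP : IsPGroup q P := fun z => ⟨1, by
    obtain ⟨i, hi⟩ := mem_zpowers_iff.mp z.2
    apply Subtype.ext
    rw [pow_one, SubmonoidClass.coe_pow, OneMemClass.coe_one, ← hi, ← zpow_natCast, ← zpow_mul,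
      mul_comm, zpow_mul, zpow_natCast, show (⟨g, hgT⟩ : normalizer (T : Set G)) ^ q = 1 from
        Subtype.ext hg, one_zpow]⟩
  refine (hP.card_modEq_card_fixedPoints (α := T)).trans ?_
  refine congrArg (· % q) (Nat.card_congr ?_)
  exact
    { toFun := fun t => ⟨t.1, mem_fixT.mpr ⟨t.1.2, by
        have := congrArg (fun z : T => (z : G)) (t.2 ⟨_, mem_zpowers _⟩)
        simpa only [hsmul] using this⟩⟩
      invFun := fun t => ⟨⟨t.1, (mem_fixT.mp t.2).1⟩, fun p => by
        exact Subtype.ext (by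
          rw [hsmul]
          obtain ⟨i, hi⟩ := mem_zpowers_iff.mp p.2
          rw [← hi]
          have hc : Commute g (t : G) := mul_inv_eq_iff_eq_mul.mp (mem_fixT.mp t.2).2
          simp [(hc.zpow_left i).eq])⟩
      left_inv := fun t => rfl
      right_inv := fun t => rfl }

namespace SE

variable {T W : Subgroup G} (E : SE r T W)
include E

theorem T_ne_bot : ∃ t ∈ T, t ≠ 1 := by
  haveI : Nontrivial T := (Finite.one_lt_card_iff_nontrivial).mp (by linarith [E.sys.four])
  obtain ⟨a, ha1⟩ := exists_ne (1 : T)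
  exact ⟨a, a.2, fun e => ha1 (Subtype.ext e)⟩

theorem mem_of_conj {g t : G} (ht : t ∈ T) (ht1 : t ≠ 1)
    (hg : g * t * g⁻¹ ∈ normalizer (T : Set G)) : g ∈ normalizer (T : Set G) :=
  (Involution.stronglyEmbedded_iff.mp E.emb).2.2 g t (le_normalizer ht) (E.sys.order_two ht ht1) hg

/-- The conjugates of `W` meet trivially. -/
theorem W_conj {g z : G} (hz : z ∈ W) (hz1 : z ≠ 1) (hgz : g * z * g⁻¹ ∈ W) :
    g ∈ normalizer (T : Set G) := by
  obtain ⟨t, ht, ht1⟩ := E.T_ne_bot
  refine E.mem_of_conj ht ht1 (E.cent_W hgz (fun e => hz1 (conj_eq_one_iff.mp e)) ?_)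
  exact mem_centralizer_singleton_iff.mpr
    ((Commute.conj_iff g).mpr (mem_centralizer_iff.mp (E.W_cent hz) t ht)).eq

theorem odd_of_swap {u d : G} (hu : u ∉ normalizer (T : Set G)) (hu2 : u * u = 1)
    (hd : d ∈ normalizer (T : Set G)) (hd' : u * d * u ∈ normalizer (T : Set G)) :
    Odd (orderOf d) := by
  obtain ⟨a, b, rfl, ha, hb, hamem, hbmem⟩ := E.hyp.exists_parts d
  by_cases ha1 : a = 1
  · rw [ha1, one_mul]; exact hb
  exfalso
  have haM := zpowers_le.mpr hd hamem
  obtain ⟨i, hi⟩ := mem_zpowers_iff.mp hamem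
  refine hu (E.mem_of_conj (E.inv_mem_T haM ha) ha1 ?_)
  rw [inv_two hu2, ← hi]
  have : u * (a * b) ^ i * u = (u * (a * b) * u) ^ i := by
    rw [show u * (a * b) * u = u * (a * b) * u⁻¹ by rw [inv_two hu2], conj_zpow, inv_two hu2]
  rw [this]
  exact zpow_mem hd' i

theorem exists_rep {y : G ⧸ normalizer (T : Set G)}
    (hy : y ≠ QuotientGroup.mk 1) :
    ∃ u : G, u * u = 1 ∧ u ∉ normalizer (T : Set G) ∧ y = QuotientGroup.mk u := by
  obtain ⟨w, hw, hwy⟩ := TwoFusionB.exists_moveInv E.emb hy.symm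
  refine ⟨w, mul_self_two hw, fun h => hy ?_, ?_⟩
  · rw [← hwy]; exact TwoFusionB.smul_one_eq_iff.mpr h
  · rw [← hwy, MulAction.Quotient.smul_mk, smul_eq_mul, mul_one]

theorem smul_mk_one (x : G) :
    x • (QuotientGroup.mk 1 : G ⧸ normalizer (T : Set G)) = QuotientGroup.mk x := by
  rw [MulAction.Quotient.smul_mk, smul_eq_mul, mul_one]

theorem card_fixInv : Nat.card (TwoFusionB.FixInv (normalizer (T : Set G))
    (QuotientGroup.mk 1 : G ⧸ normalizer (T : Set G))) = Nat.card T - 1 := by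
  classical
  rw [TwoFusionB.card_fixInv_one]
  cases nonempty_fintype T
  have e : {t : G // orderOf t = 2 ∧ t ∈ normalizer (T : Set G)} ≃ {t : T // t ≠ 1} :=
    { toFun := fun t => ⟨⟨t.1, E.inv_mem_T t.2.2 (mul_self_two t.2.1)⟩,
        fun e => ne_one_two t.2.1 (congrArg Subtype.val e)⟩
      invFun := fun t => ⟨t.1.1, E.sys.order_two t.1.2 (fun e => t.2 (Subtype.ext e)),
        le_normalizer t.1.2⟩
      left_inv := fun t => rfl
      right_inv := fun t => rfl }
  rw [Nat.card_congr e, Nat.card_eq_fintype_card, Nat.card_eq_fintype_card,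
    Fintype.card_subtype_compl, Fintype.card_subtype_eq]

/-- Many elements of the two point stabiliser are inverted. -/
theorem card_inverted {u : G} (hu : u ∉ normalizer (T : Set G)) (hu2 : u * u = 1) :
    Nat.card T - 1 ≤
      Nat.card {d : G // d ∈ normalizer (T : Set G) ∧ u * d * u = d⁻¹} := by
  have hne : (QuotientGroup.mk 1 : G ⧸ normalizer (T : Set G)) ≠ QuotientGroup.mk u := by
    rw [Ne, QuotientGroup.eq, inv_one, one_mul]; exact hu
  rw [← E.card_fixInv, ← TwoFusionB.card_moveInv E.emb hne]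
  refine Nat.card_le_card_of_injective (fun w => ⟨u * w.1, ?_, ?_⟩) fun w w' he => ?_
  · have h := QuotientGroup.eq.mp (E.smul_mk_one w.1 ▸ w.2.2 : (QuotientGroup.mk w.1 : G ⧸ _) = _)
    rw [inv_two (mul_self_two w.2.1)] at h
    have := inv_mem h
    rwa [mul_inv_rev, inv_two hu2, inv_two (mul_self_two w.2.1)] at this
  · rw [mul_inv_rev, inv_two hu2, inv_two (mul_self_two w.2.1), ← mul_assoc, hu2, one_mul]
  · exact Subtype.ext (mul_left_cancel (congrArg Subtype.val he))

/-- The two point stabiliser. -/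
def stab2 (_E : SE r T W) (u : G) : Subgroup G :=
  normalizer (T : Set G) ⊓ (normalizer (T : Set G)).map (MulAut.conj u).toMonoidHom

theorem mem_stab2 {u d : G} (hu2 : u * u = 1) :
    d ∈ E.stab2 u ↔ d ∈ normalizer (T : Set G) ∧ u * d * u ∈ normalizer (T : Set G) := by
  rw [stab2, mem_inf, Subgroup.mem_map_equiv, MulAut.conj_symm_apply, inv_two hu2]

/-- An `r`-subgroup fixes a coset when the index is prime to `r`. -/
theorem exists_fix_of_pgroup (hr : ¬ r ∣ (normalizer (T : Set G)).index) {R : Subgroup G}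
    (hR : IsPGroup r R) : ∃ g : G, ∀ x ∈ R, g⁻¹ * x * g ∈ normalizer (T : Set G) := by
  haveI := Fact.mk E.hyp.prime
  obtain ⟨c, hc⟩ := hR.nonempty_fixed_point_of_prime_not_dvd_card
    (G ⧸ normalizer (T : Set G)) (by rwa [← Subgroup.index_eq_card])
  obtain ⟨g, rfl⟩ := QuotientGroup.mk_surjective c
  exact ⟨g, fun x hx => TwoFusionB.smul_mk_eq_iff.mp (hc ⟨x, hx⟩)⟩

/-- If `W ≠ 1` fixes only the base coset, the index is prime to `r`. -/
theorem index_not_dvd (hW : W ≠ ⊥)
    (hfix : ∀ g x : G, x ∈ W → x ≠ 1 → g⁻¹ * x * g ∈ normalizer (T : Set G) →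
      g ∈ normalizer (T : Set G)) : ¬ r ∣ (normalizer (T : Set G)).index := by
  haveI := Fact.mk E.hyp.prime
  intro hd
  rw [Subgroup.index_eq_card] at hd
  have hbase : (QuotientGroup.mk 1 : G ⧸ normalizer (T : Set G)) ∈
      MulAction.fixedPoints W (G ⧸ normalizer (T : Set G)) := fun x => by
    show (x : G) • (QuotientGroup.mk 1 : G ⧸ normalizer (T : Set G)) = _
    rw [TwoFusionB.smul_one_eq_iff]
    exact E.W_cent.trans (centralizer_le_normalizer _) x.2
  obtain ⟨c, hc, hne⟩ := E.W_r.exists_fixed_point_of_prime_dvd_card_of_fixed_point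
    (G ⧸ normalizer (T : Set G)) hd hbase
  obtain ⟨g, rfl⟩ := QuotientGroup.mk_surjective c
  obtain ⟨x, hx, hx1⟩ := W.bot_or_exists_ne_one.resolve_left hW
  refine hne (QuotientGroup.eq.mpr ?_)
  rw [inv_one, one_mul]
  exact hfix g x hx hx1 (TwoFusionB.smul_mk_eq_iff.mp (hc ⟨x, hx⟩))

end SE

end Cfsg.Agent.TwoR73
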