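import Cfsg.Agent.TwoR73.Signal
import Cfsg.Agent.TwoFusionB.StronglyEmbedded
import Cfsg.Agent.Lib.Involution.StronglyEmbedded

/-!
# The strongly embedded configuration
-/

set_option autoImplicit false
set_option linter.style.haveILetI false
set_option linter.unusedSectionVars false

open Subgroup

namespace Cfsg.Agent.TwoR73

universe u

variable {G : Type u} [Group G] [Finite G] {r : ℕ}

theorem pow_two_sub_one_eq_pow {n r k : ℕ} (hr : r.Prime) (hr2 : r ≠ 2) (hn : 2 ≤ n)
    (h : 2 ^ n - 1 = r ^ k) : 2 ^ n - 1 = r := by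
  have hn4 : 4 ≤ 2 ^ n := le_trans (by norm_num) (Nat.pow_le_pow_right (by norm_num) hn)
  have hk0 : k ≠ 0 := fun e => by rw [e, pow_zero] at h; omega
  have h4 : (2 ^ n) % 4 = 0 := by
    obtain ⟨c, rfl⟩ := Nat.exists_eq_add_of_le hn
    rw [pow_add]; simp
  rcases Nat.even_or_odd k with ⟨j, rfl⟩ | ⟨j, rfl⟩
  · exfalso
    obtain ⟨i, hi⟩ := (hr.odd_of_ne_two hr2).pow (n := j)
    rw [← two_mul, mul_comm, pow_mul, hi] at h
    have : (2 * i + 1) ^ 2 % 4 = 1 := by
      rw [show (2 * i + 1) ^ 2 = 4 * (i * i + i) + 1 by ring]; omega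
    omega
  · have h1 : r + 1 ∣ 2 ^ n := by
      have := (odd_two_mul_add_one j).nat_add_dvd_pow_add_pow r 1
      rwa [one_pow, ← h, Nat.sub_add_cancel (by omega)] at this
    obtain ⟨m, hm, hrm⟩ := (Nat.dvd_prime_pow Nat.prime_two).mp h1
    rcases hm.eq_or_lt with rfl | hlt
    · omega
    exfalso
    have hm1 : 2 ∣ 2 ^ m := by
      rcases m with _ | m
      · simp at hrm; exact absurd hrm hr.ne_zero
      · exact dvd_pow_self 2 (Nat.succ_ne_zero m)
    have hr2' : (r : ℤ) ^ 2 ≡ 1 [ZMOD 2 ^ (m + 1)] := by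
      have e : (r : ℤ) = 2 ^ m - 1 := by
        have : ((r + 1 : ℕ) : ℤ) = ((2 ^ m : ℕ) : ℤ) := congrArg _ hrm
        push_cast at this
        linarith
      rw [Int.modEq_iff_dvd, e]
      obtain ⟨c, hc⟩ : (2 : ℤ) ∣ 2 ^ m := by exact_mod_cast hm1
      refine ⟨1 - c, ?_⟩
      rw [pow_succ]
      linear_combination (-(2 : ℤ) ^ m) * hc
    have hrk : (r : ℤ) ^ (2 * j + 1) ≡ r [ZMOD 2 ^ (m + 1)] := by
      rw [show (r : ℤ) ^ (2 * j + 1) = ((r : ℤ) ^ 2) ^ j * r by ring]
      simpa using (hr2'.pow j).mul_right (r : ℤ)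
    have e1 : (r : ℤ) ^ (2 * j + 1) = 2 ^ n - 1 := by
      have : ((2 ^ n - 1 : ℕ) : ℤ) = ((r ^ (2 * j + 1) : ℕ) : ℤ) := congrArg _ h
      rw [Nat.cast_sub (by omega)] at this
      push_cast at this
      exact this.symm
    have e2 : (r : ℤ) = 2 ^ m - 1 := by
      have : ((r + 1 : ℕ) : ℤ) = ((2 ^ m : ℕ) : ℤ) := congrArg _ hrm
      push_cast at this
      linarith
    rw [e1, e2, Int.modEq_iff_dvd] at hrk
    have hdn : (2 : ℤ) ^ (m + 1) ∣ 2 ^ n := pow_dvd_pow _ hlt
    have hdm : (2 : ℤ) ^ (m + 1) ∣ 2 ^ m := by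
      have := dvd_add hrk hdn
      rwa [show ((2 : ℤ) ^ m - 1 - (2 ^ n - 1)) + 2 ^ n = 2 ^ m by ring] at this
    have hd' : 2 ^ (m + 1) ∣ 2 ^ m := by exact_mod_cast hdm
    have := (Nat.pow_dvd_pow_iff_le_right (by norm_num : 1 < 2)).mp hd'
    omega

/-- The involution and odd parts of an element. -/
theorem Hyp.exists_parts (h : Hyp G r) (x : G) :
    ∃ a b : G, x = a * b ∧ a * a = 1 ∧ Odd (orderOf b) ∧ a ∈ zpowers x ∧ b ∈ zpowers x := by
  by_cases hx : x = 1
  · exact ⟨1, 1, by simp [hx], by simp, by simp, one_mem _, one_mem _⟩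
  rcases h.spec x hx with hp | h2
  · rcases hp.eq_two_or_odd' with h2 | ho
    · exact ⟨x, 1, by simp, mul_self_two h2, by simp, mem_zpowers x, one_mem _⟩
    · exact ⟨1, x, by simp, by simp, ho, one_mem _, mem_zpowers x⟩
  · obtain ⟨j, hj⟩ := h.r_odd
    refine ⟨x ^ r, x ^ (r + 1), ?_, ?_, ?_, pow_mem (mem_zpowers x) _, pow_mem (mem_zpowers x) _⟩
    · rw [← pow_add, show r + (r + 1) = 2 * r + 1 by ring, pow_succ, ← h2, pow_orderOf_eq_one,
        one_mul]
    · rw [← pow_add, ← two_mul, ← h2, pow_orderOf_eq_one]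
    · refine h.r_odd.of_dvd_nat (orderOf_dvd_of_pow_eq_one ?_)
      rw [← pow_mul, show (r + 1) * r = (2 * r) * (j + 1) by rw [hj]; ring, pow_mul, ← h2,
        pow_orderOf_eq_one, one_pow]

/-- The strongly embedded configuration. -/
structure SE (r : ℕ) (T W : Subgroup G) : Prop where
  sys : Hyp.Sys (r := r) T
  W_r : IsPGroup r W
  W_cent : W ≤ centralizer (T : Set G)
  W_max : ∀ x ∈ centralizer (T : Set G), Odd (orderOf x) → x ∈ W
  W_core : ∀ a ∈ T, a ≠ 1 → ∀ U : Subgroup G, U ≤ centralizer ({a} : Set G) →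
    Odd (Nat.card U) → T ≤ normalizer (U : Set G) → U ≤ W
  emb : Cfsg.IsStronglyEmbedded (normalizer (T : Set G))

namespace Hyp.Sys

variable {T : Subgroup G} (K : Hyp.Sys (r := r) T)
include K

theorem mem_of_normalizer {y : G} (hy : y ∈ normalizer (T : Set G)) (hy2 : y * y = 1) : y ∈ T := by
  haveI := Fact.mk Nat.prime_two
  have hp : IsPGroup 2 (zpowers y) := fun z => ⟨1, Subtype.ext (by
    obtain ⟨i, hi⟩ := mem_zpowers_iff.mp z.2
    rw [SubmonoidClass.coe_pow, OneMemClass.coe_one, ← hi, pow_one, pow_two,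
      ← (Commute.refl y).mul_zpow, hy2, one_zpow])⟩
  have := K.maximal (hp.to_sup_of_normal_right' (isPGroup_of_sq K.sqT) (zpowers_le.mpr hy))
    le_sup_right
  exact this ▸ mem_sup_left (mem_zpowers y)

/-- Fusion in the abelian Sylow subgroup. -/
theorem fusion {g a : G} (ha : a ∈ T) (hga : g * a * g⁻¹ ∈ T) :
    ∃ n ∈ normalizer (T : Set G), n * a * n⁻¹ = g * a * g⁻¹ := by
  haveI := Fact.mk Nat.prime_two
  haveI hc := isMulCommutative_of_sq K.sqT
  obtain ⟨S, rfl⟩ := K.sylow
  have hC : ∀ x ∈ (S : Subgroup G), x ∈ centralizer ((S : Subgroup G) : Set G) := fun x hx =>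
    mem_centralizer_iff.mpr fun t ht => (K.comm ht hx).eq
  obtain ⟨n, hn, he⟩ := Sylow.conj_eq_normalizer_conj_of_mem_centralizer S a g⁻¹ (hC a ha)
    (by rw [inv_inv]; exact hC _ hga)
  exact ⟨n⁻¹, inv_mem hn, by rw [inv_inv] at he ⊢; exact he.symm⟩

theorem exists_se [IsSimpleGroup G] (hna : ¬ IsMulCommutative G) (hC : K.Contained) :
    ∃ W : Subgroup G, SE r T W := by
  classical
  haveI := Fact.mk K.hyp.prime
  haveI := Fact.mk Nat.prime_two
  obtain ⟨X, hX, hXle⟩ := hC
  set W := ⨆ a : {a : G // a ∈ T ∧ a ≠ 1}, theta T (a : G) with hWdef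
  have hθW : ∀ a ∈ T, a ≠ 1 → theta T a ≤ W := fun a ha ha1 =>
    le_iSup (fun a : {a : G // a ∈ T ∧ a ≠ 1} => theta T (a : G)) ⟨a, ha, ha1⟩
  have hWr : IsPGroup r W := hX.to_le (iSup_le fun a => hXle a a.2.1 a.2.2)
  have hNW : normalizer (T : Set G) ≤ normalizer (W : Set G) := by
    refine Coprime.le_normalizer_of_conj_mem fun n hn x hx => ?_
    have hle : W.map (MulAut.conj n).toMonoidHom ≤ W := by
      rw [Subgroup.map_le_iff_le_comap]
      refine iSup_le fun a => ?_
      rw [← Subgroup.map_le_iff_le_comap]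
      refine (K.conj_theta_le hn a.2.1 a.2.2).trans (hθW _ ((mem_normalizer_iff.mp hn _).mp a.2.1) ?_)
      exact fun e => a.2.2 (conj_eq_one_iff.mp e)
    exact hle ⟨x, hx, rfl⟩
  set M := normalizer (T : Set G) ⊔ W with hM
  have hCM : ∀ a ∈ T, a ≠ 1 → centralizer ({a} : Set G) ≤ M := by
    intro a ha ha1 x hx
    obtain ⟨k, hk, hkx⟩ := K.exists_mul_normalizer ha ha1 hx
    rw [show x = k⁻¹ * (k * x) by group]
    exact mul_mem (mem_sup_right (hθW a ha ha1 (inv_mem hk))) (mem_sup_left hkx)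
  have hTne : T ≠ ⊥ := fun e => by
    have := K.four
    rw [e, Subgroup.card_bot] at this
    omega
  have hTtop : T ≠ ⊤ := fun e =>
    hna ⟨⟨fun x y => (K.comm (e ▸ mem_top x) (e ▸ mem_top y)).eq⟩⟩
  have hWodd := odd_of_isPGroup K.hyp.prime K.hyp.ne_two hWr
  have hMtop : M ≠ ⊤ := by
    intro e
    have hsub : M ≤ normalizer (W : Set G) := sup_le hNW le_normalizer
    rw [e, top_le_iff, normalizer_eq_top_iff] at hsub
    rcases hsub.eq_bot_or_eq_top with hW | hW
    · rw [hM, hW, sup_bot_eq, normalizer_eq_top_iff] at e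
      rcases e.eq_bot_or_eq_top with hT | hT
      · exact hTne hT
      · exact hTtop hT
    · obtain ⟨a, ha1⟩ : ∃ a : T, a ≠ 1 := by
        haveI : Nontrivial T := (Finite.one_lt_card_iff_nontrivial).mp (by linarith [K.four])
        exact exists_ne 1
      have : (a : G) ∈ W := hW ▸ mem_top _
      exact ha1 (Subtype.ext (eq_one_of_odd_of_sq (odd_orderOf hWodd this) (K.sq a.2)))
  have hTM : T ≤ M := le_normalizer.trans le_sup_left
  have hSE : Cfsg.IsStronglyEmbedded M := by
    rw [Involution.stronglyEmbedded_iff]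
    refine ⟨hMtop, ?_, fun g t ht ho htg => ?_⟩
    · obtain ⟨a, ha1⟩ : ∃ a : T, a ≠ 1 := by
        haveI : Nontrivial T := (Finite.one_lt_card_iff_nontrivial).mp (by linarith [K.four])
        exact exists_ne 1
      exact Involution.even_card_of_involution (hTM a.2)
        (K.order_two a.2 fun e => ha1 (Subtype.ext e))
    · let P : Sylow 2 M :=
        { toSubgroup := T.subgroupOf M
          isPGroup' := (isPGroup_of_sq K.sqT).comap_of_injective M.subtype M.subtype_injective
          is_maximal' := by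
            intro Q hQ hle
            have he := K.maximal (hQ.map M.subtype) fun x hx => ⟨⟨x, hTM hx⟩, hle hx, rfl⟩
            refine le_antisymm (fun q hq => ?_) hle
            show (q : G) ∈ T
            rw [← he]
            exact ⟨q, hq, rfl⟩ }
      have hin : ∀ x ∈ M, x * x = 1 → ∃ m ∈ M, m * x * m⁻¹ ∈ T := by
        intro x hx hx2
        have hp : IsPGroup 2 (zpowers (⟨x, hx⟩ : M)) := fun z => ⟨1, by
          obtain ⟨i, hi⟩ := mem_zpowers_iff.mp z.2
          apply Subtype.ext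
          rw [SubmonoidClass.coe_pow, OneMemClass.coe_one, ← hi, pow_one, pow_two,
            ← (Commute.refl _).mul_zpow, show (⟨x, hx⟩ : M) * ⟨x, hx⟩ = 1 from Subtype.ext hx2,
            one_zpow]⟩
        obtain ⟨Q, hQ⟩ := hp.exists_le_sylow
        obtain ⟨c, hc⟩ := MulAction.exists_smul_eq M Q P
        refine ⟨c, c.2, ?_⟩
        have : c * ⟨x, hx⟩ * c⁻¹ ∈ (P : Subgroup M) := by
          rw [← hc, Sylow.coe_subgroup_smul]
          exact ⟨_, hQ (mem_zpowers _), rfl⟩
        exact this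
      obtain ⟨m1, hm1, hm1'⟩ := hin t ht (mul_self_two ho)
      obtain ⟨m2, hm2, hm2'⟩ := hin _ htg
        (mul_self_two ((Involution.orderOf_conj g t).trans ho))
      set g' := m2 * g * m1⁻¹ with hg'
      have hg't : g' * (m1 * t * m1⁻¹) * g'⁻¹ = m2 * (g * t * g⁻¹) * m2⁻¹ := by rw [hg']; group
      obtain ⟨n, hn, hne⟩ := K.fusion hm1' (g := g') (hg't ▸ hm2')
      have hc : n⁻¹ * g' ∈ centralizer ({m1 * t * m1⁻¹} : Set G) := by
        rw [mem_centralizer_singleton_iff]
        calc n⁻¹ * g' * (m1 * t * m1⁻¹) = n⁻¹ * (g' * (m1 * t * m1⁻¹) * g'⁻¹) * g' := by group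
          _ = n⁻¹ * (n * (m1 * t * m1⁻¹) * n⁻¹) * g' := by rw [hne]
          _ = _ := by group
      have hcM := hCM _ hm1' (fun e => ne_one_two ho (conj_eq_one_iff.mp e)) hc
      have : g = m2⁻¹ * (n * (n⁻¹ * g')) * m1 := by rw [hg']; group
      rw [this]
      exact mul_mem (mul_mem (inv_mem hm2) (mul_mem (mem_sup_left hn) hcM)) hm1
  have htrans : ∀ a ∈ T, a ≠ 1 → ∀ b ∈ T, b ≠ 1 →
      ∃ n ∈ normalizer (T : Set G), n * a * n⁻¹ = b := by
    intro a ha ha1 b hb hb1
    obtain ⟨g, rfl⟩ := isConj_iff.mp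
      (TwoFusionB.isConj_involutions hSE (K.order_two ha ha1) (K.order_two hb hb1))
    exact K.fusion ha hb
  obtain ⟨f, l, hl, hl2, hfl, hfN, hfix⟩ : ∃ (f : G) (l : ℕ), l.Prime ∧ l ≠ 2 ∧ orderOf f = l ∧
      f ∈ normalizer (T : Set G) ∧ ∀ b ∈ T, f * b * f⁻¹ = b → b = 1 := by
    obtain ⟨n, hn⟩ := IsPGroup.iff_card.mp (isPGroup_of_sq K.sqT)
    have hn2 : 2 ≤ n := by
      by_contra hlt
      have := K.four
      rw [hn] at this
      interval_cases n <;> norm_num at this
    obtain ⟨a, ha1⟩ : ∃ a : T, a ≠ 1 := by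
      haveI : Nontrivial T := (Finite.one_lt_card_iff_nontrivial).mp (by linarith [K.four])
      exact exists_ne 1
    let N := normalizer (T : Set G)
    letI : MulAction N T :=
      { smul := fun g t => T.normalizerMonoidHom g t
        one_smul := fun t => by show T.normalizerMonoidHom 1 t = t; rw [map_one]; rfl
        mul_smul := fun g g' t => by
          show T.normalizerMonoidHom (g * g') t = _; rw [map_mul]; rfl }
    have hsmul : ∀ (g : N) (t : T), ((g • t : T) : G) = g * t * (g : G)⁻¹ := fun g t => rfl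
    have horb : MulAction.orbit N a = ({1} : Set T)ᶜ := by
      ext b
      rw [MulAction.mem_orbit_iff, Set.mem_compl_iff, Set.mem_singleton_iff]
      constructor
      · rintro ⟨g, rfl⟩ e
        have := congrArg (fun z : T => (z : G)) e
        rw [hsmul, OneMemClass.coe_one, conj_eq_one_iff] at this
        exact ha1 (Subtype.ext this)
      · intro hb
        obtain ⟨g, hg, he⟩ := htrans a a.2 (fun e => ha1 (Subtype.ext e)) b b.2
          (fun e => hb (Subtype.ext e))
        exact ⟨⟨g, hg⟩, Subtype.ext he⟩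
    have hidx : (MulAction.stabilizer N a).index = 2 ^ n - 1 := by
      rw [MulAction.index_stabilizer, horb, Set.ncard_compl, Set.ncard_singleton, hn]
    have hnofix : ∀ (g : G) (q : ℕ), q.Prime → q ≠ 2 → q ≠ r → orderOf g = q →
        ∀ b ∈ T, g * b * g⁻¹ = b → b = 1 := by
      intro g q hq hq2 hqr hg b hb he
      by_contra hb1
      exact hqr (hg.symm.trans (K.hyp.orderOf_r_of_commute (K.order_two hb hb1)
        (mul_inv_eq_iff_eq_mul.mp he).symm (fun e => by rw [e, orderOf_one] at hg; exact hq.ne_one hg.symm)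
        (hg ▸ hq.odd_of_ne_two hq2)))
    have hsodd : Odd (2 ^ n - 1) := Nat.Even.sub_odd (Nat.one_le_two_pow) ((even_two).pow_of_ne_zero
      (by omega)) odd_one
    by_cases hall : ∀ q : ℕ, q.Prime → q ∣ 2 ^ n - 1 → q = r
    · have hs := Nat.eq_prime_pow_of_unique_prime_dvd
        (show 2 ^ n - 1 ≠ 0 from fun e => by rw [e] at hsodd; exact absurd hsodd (by decide)) (p := r) (fun {d} hd hdd => hall d hd hdd)
      have hsr := pow_two_sub_one_eq_pow K.hyp.prime K.hyp.ne_two hn2 hs
      obtain ⟨R⟩ := (inferInstance : Nonempty (Sylow r N))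
      obtain ⟨g, hgR, hgC⟩ : ∃ g ∈ (R : Subgroup N), (g : G) ∉ centralizer (T : Set G) := by
        by_contra hcon
        push Not at hcon
        have hle : (R : Subgroup N) ≤ MulAction.stabilizer N a := fun g hg =>
          Subtype.ext (by
            show (g : G) * a * (g : G)⁻¹ = a
            exact mul_inv_eq_iff_eq_mul.mpr (mem_centralizer_iff.mp (hcon g hg) a a.2).symm)
        exact R.not_dvd_index (hidx ▸ (hsr.symm.dvd)|>.trans (Subgroup.index_dvd_of_le hle))
      have hgr : (g : G) ^ r = 1 := by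
        have := K.hyp.pow_r (R.2.map N.subtype) (x := (g : G)) ⟨g, hgR, rfl⟩
        exact this
      have hg1 : (g : G) ≠ 1 := fun e => hgC (e ▸ one_mem _)
      refine ⟨g, r, K.hyp.prime, K.hyp.ne_two, orderOf_eq_prime hgr hg1, g.2, ?_⟩
      let F : Subgroup T :=
        { carrier := {t | (g : G) * t * (g : G)⁻¹ = t}
          one_mem' := by simp
          mul_mem' := fun {s t} hs ht => by
            show (g : G) * ((s : G) * t) * (g : G)⁻¹ = (s : G) * t
            calc (g : G) * ((s : G) * t) * (g : G)⁻¹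
                = ((g : G) * s * (g : G)⁻¹) * ((g : G) * t * (g : G)⁻¹) := by group
              _ = _ := by rw [hs, ht]
          inv_mem' := fun {t} ht => by
            show (g : G) * (t : G)⁻¹ * (g : G)⁻¹ = (t : G)⁻¹
            calc (g : G) * (t : G)⁻¹ * (g : G)⁻¹ = ((g : G) * t * (g : G)⁻¹)⁻¹ := by group
              _ = _ := by rw [ht] }
      have hFcard : Nat.card F ≡ Nat.card T [MOD r] := by
        have hP : IsPGroup r (zpowers g) :=
          IsPGroup.of_card (n := 1) (by
            rw [Nat.card_zpowers, ← Subgroup.orderOf_coe, orderOf_eq_prime hgr hg1, pow_one])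
        have h1 := hP.card_modEq_card_fixedPoints (α := T)
        refine (Nat.ModEq.trans ?_ h1.symm)
        refine congrArg (· % r) (Nat.card_congr (Equiv.subtypeEquivRight fun t => ?_))
        constructor
        · intro ht ⟨z, hz⟩
          have : (zpowers g) ≤ MulAction.stabilizer N t := zpowers_le.mpr (Subtype.ext ht)
          exact this hz
        · intro ht
          exact congrArg (fun z : T => (z : G)) (ht ⟨g, mem_zpowers g⟩)
      obtain ⟨j, -, hj⟩ := (Nat.dvd_prime_pow Nat.prime_two).mp (hn ▸ card_subgroup_dvd_card F)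
      have hFlt : Nat.card F < 2 ^ n := by
        rw [← hn]
        refine lt_of_le_of_ne (Nat.le_of_dvd Nat.card_pos (card_subgroup_dvd_card F)) fun e => hgC ?_
        have hF : F = ⊤ := Subgroup.eq_top_of_card_eq F e
        refine mem_centralizer_iff.mpr fun t ht => ?_
        have : (⟨t, ht⟩ : T) ∈ F := hF ▸ mem_top _
        exact (mul_inv_eq_iff_eq_mul.mp this).symm
      have hF1 : Nat.card F = 1 := by
        have h2 : 2 ^ n ≡ 1 [MOD r] := by
          rw [Nat.ModEq.comm, Nat.modEq_iff_dvd' Nat.one_le_two_pow]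
          exact dvd_of_eq hsr.symm
        have h3 : Nat.card F ≡ 1 [MOD r] := (hn ▸ hFcard).trans h2
        rw [Nat.ModEq.comm, Nat.modEq_iff_dvd' Nat.card_pos] at h3
        by_contra hne
        have hpos : 0 < Nat.card F := Nat.card_pos
        have := Nat.le_of_dvd (by omega) h3
        omega
      intro b hb he
      have : (⟨b, hb⟩ : T) ∈ F := he
      rw [Subgroup.card_eq_one.mp hF1, mem_bot] at this
      exact congrArg Subtype.val this
    · push Not at hall
      obtain ⟨q, hq, hqd, hqr⟩ := hall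
      haveI := Fact.mk hq
      have hqN : q ∣ Nat.card N := (hidx ▸ hqd).trans (index_dvd_card _)
      obtain ⟨g, hg⟩ := exists_prime_orderOf_dvd_card' q hqN
      have hq2 : q ≠ 2 := fun e => by
        subst e
        exact Nat.not_even_iff_odd.mpr hsodd (even_iff_two_dvd.mpr hqd)
      exact ⟨g, q, hq, hq2, (Subgroup.orderOf_coe g).trans hg, g.2,
        hnofix g q hq hq2 hqr ((Subgroup.orderOf_coe g).trans hg)⟩
  have hTW : T ≤ centralizer (W : Set G) :=
    K.hyp.centralize hWr K.sqT (le_normalizer.trans hNW) hl hl2 hfl (hNW hfN)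
      (fun b hb => (mem_normalizer_iff.mp hfN b).mp hb) hfix
  have hWT : W ≤ centralizer (T : Set G) := le_centralizer_iff.mp hTW
  have hWN : W ≤ normalizer (T : Set G) := hWT.trans (centralizer_le_normalizer _)
  refine ⟨W, K, hWr, hWT, fun x hx ho => ?_, fun a ha ha1 U h1 h2 h3 =>
    (le_theta h1 h2 h3).trans (hθW a ha ha1), ?_⟩
  · obtain ⟨a, ha1⟩ : ∃ a : T, a ≠ 1 := by
      haveI : Nontrivial T := (Finite.one_lt_card_iff_nontrivial).mp (by linarith [K.four])
      exact exists_ne 1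
    exact hθW a a.2 (fun e => ha1 (Subtype.ext e)) (K.mem_theta_of_centralizing a.2 hx ho)
  · rwa [hM, sup_of_le_left hWN] at hSE

end Hyp.Sys

namespace SE

variable {T W : Subgroup G} (E : SE r T W)
include E

theorem hyp : Hyp G r := E.sys.hyp

theorem W_odd : Odd (Nat.card W) := odd_of_isPGroup E.hyp.prime E.hyp.ne_two E.W_r

theorem T_cent : T ≤ centralizer (T : Set G) := fun _ ht =>
  mem_centralizer_iff.mpr fun _ ht' => (E.sys.comm ht' ht).eq

theorem inv_mem_T {y : G} (hy : y ∈ normalizer (T : Set G)) (hy2 : y * y = 1) : y ∈ T :=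
  E.sys.mem_of_normalizer hy hy2

theorem cent_T {x : G} (hx : x ∈ centralizer (T : Set G)) : ∃ t ∈ T, ∃ w ∈ W, x = t * w := by
  obtain ⟨a, b, rfl, ha, hb, ha', hb'⟩ := E.hyp.exists_parts x
  have hle := zpowers_le.mpr hx
  exact ⟨a, E.sys.mem_of_commute ha fun t ht => (mem_centralizer_iff.mp (hle ha') t ht).symm,
    b, E.W_max b (hle hb') hb, rfl⟩

theorem cent_le {a : G} (ha : a ∈ T) (ha1 : a ≠ 1) :
    centralizer ({a} : Set G) ≤ normalizer (T : Set G) := fun g hg =>
  (Involution.stronglyEmbedded_iff.mp E.emb).2.2 g a (le_normalizer ha) (E.sys.order_two ha ha1)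
    (by rw [mem_centralizer_singleton_iff.mp hg, mul_inv_cancel_right]; exact le_normalizer ha)

theorem trans_T {a b : G} (ha : a ∈ T) (ha1 : a ≠ 1) (hb : b ∈ T) (hb1 : b ≠ 1) :
    ∃ n ∈ normalizer (T : Set G), n * a * n⁻¹ = b := by
  obtain ⟨g, rfl⟩ := isConj_iff.mp
    (TwoFusionB.isConj_involutions E.emb (E.sys.order_two ha ha1) (E.sys.order_two hb hb1))
  exact E.sys.fusion ha hb

theorem W_norm : normalizer (T : Set G) ≤ normalizer (W : Set G) := by
  refine Coprime.le_normalizer_of_conj_mem fun n hn x hx => E.W_max _ ?_ ?_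
  · refine mem_centralizer_iff.mpr fun t ht => ?_
    have ht' : n⁻¹ * t * n ∈ T := by
      have := (mem_normalizer_iff.mp (inv_mem hn) t).mp ht
      rwa [inv_inv] at this
    have hc := mem_centralizer_iff.mp (E.W_cent hx) _ ht'
    calc t * (n * x * n⁻¹) = n * ((n⁻¹ * t * n) * x) * n⁻¹ := by group
      _ = n * (x * (n⁻¹ * t * n)) * n⁻¹ := by rw [hc]
      _ = _ := by group
  · show Odd (orderOf (MulAut.conj n x))
    rw [MulEquiv.orderOf_eq]
    exact odd_orderOf E.W_odd hx

/-- The centralisers of the nontrivial elements of `W` lie in `N(T)`. -/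
theorem cent_W {x : G} (hx : x ∈ W) (hx1 : x ≠ 1) :
    centralizer ({x} : Set G) ≤ normalizer (T : Set G) := by
  have hTX : T ≤ centralizer ({x} : Set G) := fun t ht =>
    mem_centralizer_singleton_iff.mpr (mem_centralizer_iff.mp (E.W_cent hx) t ht)
  obtain ⟨O, hOX, hOo, hOn, hconj, -⟩ := exists_core
    (E.hyp.solvable_centralizer_r (E.hyp.orderOf_r E.W_r hx hx1)) hTX E.sys.sqT
    fun P hP hTP _ => E.sys.maximal hP hTP
  haveI := isMulCommutative_of_sq E.sys.sqT
  have hOW : O ≤ W := Coprime.le_of_centralizer_le T O W (not_isCyclic_of_sq E.sys.sqT E.sys.four)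
    (hTX.trans hOn) (coprime_of_sq E.sys.sqT hOo) fun a ha ha1 =>
      E.W_core a ha ha1 _ inf_le_right (hOo.of_dvd_nat (card_dvd_of_le inf_le_left))
        (Coprime.le_normalizer_inf (hTX.trans hOn)
          ((E.sys.le_centralizer ha).trans le_normalizer))
  refine Coprime.le_normalizer_of_conj_mem fun y hy t ht => ?_
  have hm := hconj y hy t ht
  rw [← SetLike.mem_coe, Subgroup.coe_mul_of_left_le_normalizer_right T O (hTX.trans hOn)] at hm
  obtain ⟨s, hs, o, ho, he⟩ := hm
  replace he : s * o = y * t * y⁻¹ := he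
  have hso : Commute s o := mem_centralizer_iff.mp (E.W_cent (hOW ho)) s hs
  have h1 : o * o = 1 := by
    have h2 : (s * o) * (s * o) = 1 := by
      rw [he, show y * t * y⁻¹ * (y * t * y⁻¹) = y * (t * t) * y⁻¹ by group, E.sys.sq ht, mul_one,
        mul_inv_cancel]
    rwa [show s * o * (s * o) = s * (o * s) * o by group, ← hso.eq,
      show s * (s * o) * o = (s * s) * (o * o) by group, E.sys.sq hs, one_mul] at h2
  rw [← he, eq_one_of_odd_of_sq (odd_orderOf hOo ho) h1, mul_one]
  exact hs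

end SE

end Cfsg.Agent.TwoR73
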