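import Cfsg.Agent.TwoR73.Signal
import Cfsg.Agent.TwoR73.Embedded
import Cfsg.Agent.BSW7.PSL

/-!
# A self-centralising four group: Brauer–Suzuki–Wall
-/

set_option autoImplicit false
set_option linter.style.haveILetI false
set_option linter.unusedSectionVars false

open Subgroup

namespace Cfsg.Agent.TwoR73.Hyp.Sys

universe u

theorem mem_normalizer_of_map_le {G : Type*} [Group G] [Finite G] {Q : Subgroup G} {g : G}
    (h : Q.map (MulAut.conj g).toMonoidHom ≤ Q) : g ∈ normalizer (Q : Set G) := by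
  have heq := Subgroup.eq_of_le_of_card_ge h
    (by rw [card_map_of_injective (MulAut.conj g).injective])
  rw [mem_normalizer_iff]
  intro y
  refine ⟨fun hy => heq ▸ ⟨y, hy, rfl⟩, fun hy => ?_⟩
  rw [← heq] at hy
  obtain ⟨y', hy', he⟩ := hy
  have : y' = y := (MulAut.conj g).injective he
  rwa [← this]

variable {G : Type u} [Group G] [Finite G] {r : ℕ} {T : Subgroup G}
variable (K : Sys (r := r) T) (h4 : Nat.card T = 4)
  (hself : ∀ x ∈ centralizer (T : Set G), Odd (orderOf x) → x = 1)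
include K h4

theorem mem_cases {a b t : G} (ha : a ∈ T) (ha1 : a ≠ 1) (hb : b ∈ T) (hb1 : b ≠ 1) (hab : a ≠ b)
    (ht : t ∈ T) : t = 1 ∨ t = a ∨ t = b ∨ t = a * b := by
  classical
  cases nonempty_fintype T
  have hprod1 : a * b ≠ 1 := fun e => hab (by rw [eq_inv_of_mul_eq_one_left e, inv_two (K.sq hb)])
  let s : Finset T := {1, ⟨a, ha⟩, ⟨b, hb⟩, ⟨a * b, mul_mem ha hb⟩}
  have hs : s.card = 4 := by
    have e1 : (⟨b, hb⟩ : T) ≠ ⟨a * b, mul_mem ha hb⟩ := fun e => ha1 (by
      have := congrArg Subtype.val e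
      exact (mul_eq_right.mp this.symm))
    have e2 : (⟨a, ha⟩ : T) ∉ ({⟨b, hb⟩, ⟨a * b, mul_mem ha hb⟩} : Finset T) := by
      simp only [Finset.mem_insert, Finset.mem_singleton, Subtype.mk.injEq, not_or]
      exact ⟨hab, fun e => hb1 (mul_eq_left.mp e.symm)⟩
    have e3 : (1 : T) ∉ ({⟨a, ha⟩, ⟨b, hb⟩, ⟨a * b, mul_mem ha hb⟩} : Finset T) := by
      simp only [Finset.mem_insert, Finset.mem_singleton, not_or]
      exact ⟨fun e => ha1 (congrArg Subtype.val e).symm, fun e => hb1 (congrArg Subtype.val e).symm,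
        fun e => hprod1 (congrArg Subtype.val e).symm⟩
    simp only [s]
    rw [Finset.card_insert_of_notMem e3, Finset.card_insert_of_notMem e2, Finset.card_pair e1]
  have huniv : s = Finset.univ := Finset.eq_univ_of_card s (by
    rw [hs, ← h4, Nat.card_eq_fintype_card])
  have hm : (⟨t, ht⟩ : T) ∈ s := huniv ▸ Finset.mem_univ _
  simp only [s, Finset.mem_insert, Finset.mem_singleton, Subtype.ext_iff, OneMemClass.coe_one] at hm
  exact hm

/-- An odd order element of `N(T)` with a nontrivial fixed point centralises `T`. -/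
theorem fpf_of_odd {n a : G} (hn : n ∈ normalizer (T : Set G)) (ho : Odd (orderOf n)) (ha : a ∈ T)
    (ha1 : a ≠ 1) (hfix : n * a * n⁻¹ = a) : n ∈ centralizer (T : Set G) := by
  obtain ⟨j, hj⟩ := ho
  refine mem_centralizer_iff.mpr fun t ht => ?_
  by_cases ht1 : t = 1
  · simp [ht1]
  by_cases hta : t = a
  · subst hta
    exact (mul_inv_eq_iff_eq_mul.mp hfix).symm
  have hnt := (mem_normalizer_iff.mp hn t).mp ht
  have hnt1 : n * t * n⁻¹ ≠ 1 := fun e => ht1 (conj_eq_one_iff.mp e)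
  have hnta : n * t * n⁻¹ ≠ a := fun e => hta (by
    have := hfix.trans e.symm
    exact (mul_left_cancel (mul_right_cancel this)).symm)
  rcases K.mem_cases h4 ha ha1 ht ht1 (Ne.symm hta) hnt with e | e | e | e
  · exact absurd e hnt1
  · exact absurd e hnta
  · exact (mul_inv_eq_iff_eq_mul.mp e).symm
  exfalso
  -- `n` would have even order
  have h2 : n ^ 2 * t * (n ^ 2)⁻¹ = t := by
    calc n ^ 2 * t * (n ^ 2)⁻¹ = n * (n * t * n⁻¹) * n⁻¹ := by rw [pow_two]; group
      _ = n * (a * t) * n⁻¹ := by rw [e]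
      _ = (n * a * n⁻¹) * (n * t * n⁻¹) := by group
      _ = (a * a) * t := by rw [hfix, e]; group
      _ = t := by rw [K.sq ha, one_mul]
  have hc : Commute (n ^ 2) t := mul_inv_eq_iff_eq_mul.mp h2
  have hne : n = (n ^ 2) ^ (j + 1) := by
    rw [← pow_mul, show 2 * (j + 1) = 2 * j + 1 + 1 by ring, pow_succ, ← hj, pow_orderOf_eq_one,
      one_mul]
  have hc' : Commute n t := hne ▸ hc.pow_left (j + 1)
  rw [hc'.eq, mul_inv_cancel_right] at e
  exact ha1 (mul_eq_right.mp e.symm)

theorem exists_conj_of_mem {a b : G} (ha : a ∈ T) (ha1 : a ≠ 1) (hb : b ∈ T) (hb1 : b ≠ 1) :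
    a = b ∨ ∃ D ∈ normalizer (T : Set G), orderOf D = 3 ∧
      (∀ t ∈ T, D * t * D⁻¹ = t → t = 1) ∧ D * a * D⁻¹ = b := by
  obtain ⟨d, hd, hd3, hfix⟩ := K.exists_three h4
  by_cases hab : a = b
  · exact Or.inl hab
  right
  have h1 : d * a * d⁻¹ ∈ T := (mem_normalizer_iff.mp hd a).mp ha
  rcases K.mem_cases h4 ha ha1 hb hb1 hab h1 with e | e | e | e
  · exact absurd (conj_eq_one_iff.mp e) ha1
  · exact absurd (hfix a ha e) ha1
  · exact ⟨d, hd, hd3, hfix, e⟩
  refine ⟨d ^ 2, pow_mem hd 2, ?_, fun t ht h2 => ?_, ?_⟩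
  · rw [Nat.Coprime.orderOf_pow (by rw [hd3]; norm_num), hd3]
  · refine hfix t ht ?_
    have h3 : d ^ 3 = 1 := hd3 ▸ pow_orderOf_eq_one d
    have hc : Commute (d ^ 2) t := mul_inv_eq_iff_eq_mul.mp h2
    have hd4 : d = (d ^ 2) ^ 2 := by
      rw [← pow_mul, show 2 * 2 = 3 + 1 by norm_num, pow_succ, h3, one_mul]
    have : Commute d t := hd4 ▸ hc.pow_left 2
    rw [this.eq, mul_inv_cancel_right]
  · have h2 : d ^ 2 * a * (d ^ 2)⁻¹ ∈ T := (mem_normalizer_iff.mp (pow_mem hd 2) a).mp ha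
    have hd2 : d ^ 2 * a * (d ^ 2)⁻¹ = d * (d * a * d⁻¹) * d⁻¹ := by rw [pow_two]; group
    rcases K.mem_cases h4 ha ha1 hb hb1 hab h2 with e2 | e2 | e2 | e2
    · exact absurd (conj_eq_one_iff.mp e2) ha1
    · exfalso
      have h3 : d ^ 3 = 1 := hd3 ▸ pow_orderOf_eq_one d
      refine ha1 (hfix a ha ?_)
      calc d * a * d⁻¹ = d * (d ^ 2 * a * (d ^ 2)⁻¹) * d⁻¹ := by rw [e2]
        _ = d ^ 3 * a * (d ^ 3)⁻¹ := by group
        _ = a := by rw [h3, one_mul, inv_one, mul_one]
    · exact e2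
    · exfalso
      refine ha1 (hfix a ha ?_)
      have h5 : d * (d * a * d⁻¹) * d⁻¹ = d * a * d⁻¹ := by rw [← hd2, e2, e]
      exact mul_left_cancel (mul_right_cancel h5)

include hself

theorem cent_self {x : G} (hx : x ∈ centralizer (T : Set G)) : x ∈ T := by
  obtain ⟨a, b, rfl, ha, hb, ham, hbm⟩ := K.hyp.exists_parts x
  have hle := zpowers_le.mpr hx
  rw [hself b (hle hbm) hb, mul_one]
  exact K.mem_of_commute ha fun t ht => (mem_centralizer_iff.mp (hle ham) t ht).symm

theorem theta_fixed {a b x : G} (ha : a ∈ T) (ha1 : a ≠ 1) (hb : b ∈ T) (hb1 : b ≠ 1) (hab : a ≠ b)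
    (hx : x ∈ theta T a) (hc : Commute b x) : x = 1 := by
  refine hself x (mem_centralizer_iff.mpr fun t ht => ?_) (odd_orderOf (K.theta_odd ha ha1) hx)
  have hca : Commute a x := (mem_centralizer_singleton_iff.mp (K.theta_le ha ha1 hx)).symm
  rcases K.mem_cases h4 ha ha1 hb hb1 hab ht with rfl | rfl | rfl | rfl
  · simp
  · exact hca.eq
  · exact hc.eq
  · exact (hca.mul_left hc).eq

theorem theta_inv {a b : G} (ha : a ∈ T) (ha1 : a ≠ 1) (hb : b ∈ T) (hb1 : b ≠ 1) (hab : a ≠ b)
    {x : G} (hx : x ∈ theta T a) : b * x * b⁻¹ = x⁻¹ := by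
  have hn := K.le_normalizer_theta ha ha1 hb
  let F : theta T a → theta T a := fun y => ⟨(y : G)⁻¹ * (b * y * b⁻¹),
    mul_mem (inv_mem y.2) ((mem_normalizer_iff.mp hn _).mp y.2)⟩
  have hF : Function.Injective F := by
    intro y y' he
    have he' : (y : G)⁻¹ * (b * y * b⁻¹) = (y' : G)⁻¹ * (b * y' * b⁻¹) := congrArg Subtype.val he
    have h1 : b * ((y' : G) * (y : G)⁻¹) * b⁻¹ = (y' : G) * (y : G)⁻¹ := by
      have h2 : b * (y' : G) * b⁻¹ = (y' : G) * ((y : G)⁻¹ * (b * y * b⁻¹)) := by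
        rw [he', mul_inv_cancel_left]
      calc b * ((y' : G) * (y : G)⁻¹) * b⁻¹ = (b * y' * b⁻¹) * (b * y * b⁻¹)⁻¹ := by group
        _ = _ := by rw [h2]; group
    have := K.theta_fixed h4 hself ha ha1 hb hb1 hab (mul_mem y'.2 (inv_mem y.2))
      (mul_inv_eq_iff_eq_mul.mp h1)
    exact Subtype.ext (mul_inv_eq_one.mp this).symm
  obtain ⟨y, hy⟩ := (Finite.injective_iff_surjective.mp hF) ⟨x, hx⟩
  have hy' : (y : G)⁻¹ * (b * y * b⁻¹) = x := congrArg Subtype.val hy
  have hbb := K.sq hb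
  rw [← hy', inv_two hbb]
  calc b * ((y : G)⁻¹ * (b * y * b)) * b = b * (y : G)⁻¹ * b * y * (b * b) := by group
    _ = b * (y : G)⁻¹ * b * y := by rw [hbb, mul_one]
    _ = b⁻¹ * (y : G)⁻¹ * b⁻¹ * y := by rw [inv_two hbb]
    _ = _ := by group

theorem cent_inv {a x : G} (ha : a ∈ T) (ha1 : a ≠ 1) (hx : x ∈ centralizer ({a} : Set G)) :
    ∃ o ∈ theta T a, ∃ t ∈ T, x = o * t := by
  obtain ⟨k, hk, hkx⟩ := K.exists_mul_normalizer ha ha1 hx
  have hkxC : k * x ∈ centralizer ({a} : Set G) := mul_mem (K.theta_le ha ha1 hk) hx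
  suffices hT : k * x ∈ T from ⟨k⁻¹, inv_mem hk, k * x, hT, by group⟩
  obtain ⟨i, b, hib, hi, hb, hi', hb'⟩ := K.hyp.exists_parts (k * x)
  have hbN := zpowers_le.mpr hkx hb'
  have hbC := zpowers_le.mpr hkxC hb'
  have hb1 := hself b (K.fpf_of_odd h4 hbN hb ha ha1
    (mul_inv_eq_iff_eq_mul.mpr (mem_centralizer_singleton_iff.mp hbC))) hb
  rw [hib, hb1, mul_one]
  exact K.mem_of_normalizer (zpowers_le.mpr hkx hi') hi

theorem theta_ne_bot (hex : ∃ g : G, orderOf g = 2 * r) {a : G} (ha : a ∈ T) (ha1 : a ≠ 1) :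
    theta T a ≠ ⊥ := by
  obtain ⟨g, hg⟩ := hex
  have h2 : orderOf (g ^ r) = 2 := by
    rw [orderOf_pow' g K.hyp.prime.ne_zero, hg, Nat.gcd_eq_right (dvd_mul_left r 2),
      Nat.mul_div_cancel _ K.hyp.prime.pos]
  have hr' : orderOf (g ^ 2) = r := by
    rw [orderOf_pow' g two_ne_zero, hg, Nat.gcd_eq_right (dvd_mul_right 2 r),
      Nat.mul_div_cancel_left _ two_pos]
  obtain ⟨c, hc⟩ := K.exists_conj_mem h2
  have hc1 : c * g ^ r * c⁻¹ ≠ 1 := fun e => ne_one_two h2 (conj_eq_one_iff.mp e)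
  intro hbot
  -- move the involution to `a`
  obtain ⟨D, hD, hDa⟩ : ∃ D : G, D ∈ normalizer (T : Set G) ∧ D * (c * g ^ r * c⁻¹) * D⁻¹ = a := by
    rcases K.exists_conj_of_mem h4 hc hc1 ha ha1 with e | ⟨D, hD, -, -, he⟩
    · exact ⟨1, one_mem _, by rw [one_mul, inv_one, mul_one, e]⟩
    · exact ⟨D, hD, he⟩
  have hx : (D * c) * g ^ 2 * (D * c)⁻¹ ∈ centralizer ({a} : Set G) := by
    rw [← hDa, show D * (c * g ^ r * c⁻¹) * D⁻¹ = (D * c) * g ^ r * (D * c)⁻¹ by group]
    exact mem_centralizer_singleton_iff.mpr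
      ((Commute.conj_iff (D * c)).mpr ((Commute.refl g).pow_pow 2 r)).eq
  have hord : orderOf ((D * c) * g ^ 2 * (D * c)⁻¹) = r := (Involution.orderOf_conj _ _).trans hr'
  obtain ⟨o, ho, t, ht, he⟩ := K.cent_inv h4 hself ha ha1 hx
  rw [hbot, mem_bot] at ho
  rw [ho, one_mul] at he
  have := eq_one_of_odd_of_sq (hord ▸ K.hyp.r_odd) (he ▸ K.sq ht)
  rw [this, orderOf_one] at hord
  exact K.hyp.prime.one_lt.ne hord

/-- An odd subgroup normalised by `T`. -/
def InvOdd (T Q : Subgroup G) : Prop := Odd (Nat.card Q) ∧ T ≤ normalizer (Q : Set G)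

/-- Maximal invariant odd subgroups with nontrivial intersection coincide. -/
theorem max_unique : ∀ Q Q' : Subgroup G, Maximal (InvOdd T) Q → Maximal (InvOdd T) Q' →
    Q ⊓ Q' ≠ ⊥ → Q = Q' := by
  suffices key : ∀ n : ℕ, ∀ Q Q' : Subgroup G, Nat.card G - Nat.card ↥(Q ⊓ Q') = n →
      Maximal (InvOdd T) Q → Maximal (InvOdd T) Q' → Q ⊓ Q' ≠ ⊥ → Q = Q' from
    fun Q Q' => key _ Q Q' rfl
  intro n
  induction n using Nat.strong_induction_on with
  | _ n IH =>
  intro Q Q' hn hQ hQ' hne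
  haveI := Fact.mk K.hyp.prime
  haveI := Fact.mk Nat.prime_two
  set I := Q ⊓ Q' with hI
  by_cases hIQ : I = Q
  · exact hQ.eq_of_le hQ'.prop (hIQ ▸ inf_le_right)
  by_cases hIQ' : I = Q'
  · exact (hQ'.eq_of_le hQ.prop (hIQ' ▸ inf_le_left)).symm
  have hIo : Odd (Nat.card I) := hQ.prop.1.of_dvd_nat (card_dvd_of_le inf_le_left)
  have hTI : T ≤ normalizer (I : Set G) := Coprime.le_normalizer_inf hQ.prop.2 hQ'.prop.2
  set H := normalizer (I : Set G) with hH
  obtain ⟨S, hS⟩ := K.sylow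
  have hSH : (S : Subgroup G) ≤ H := hS ▸ hTI
  let P : Sylow 2 H := S.subtype hSH
  have hPT : (P : Subgroup H) = T.subgroupOf H := by rw [← hS]; rfl
  have hNC : normalizer ((P : Subgroup H) : Set H) ≤ centralizer ((P : Subgroup H) : Set H) := by
    intro m hm
    have hmT : (m : G) ∈ normalizer (T : Set G) := by
      refine Coprime.le_normalizer_of_conj_mem (A := zpowers (m : G)) ?_ (mem_zpowers _)
      intro g hg t ht
      obtain ⟨i, rfl⟩ := mem_zpowers_iff.mp hg
      have h1 := (mem_normalizer_iff.mp (zpow_mem hm i) ⟨t, hTI ht⟩).mp (hPT ▸ ht)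
      rw [hPT, mem_subgroupOf] at h1
      simpa using h1
    suffices hc : (m : G) ∈ centralizer (T : Set G) by
      refine mem_centralizer_iff.mpr fun t ht => Subtype.ext ?_
      rw [SetLike.mem_coe, hPT, mem_subgroupOf] at ht
      exact mem_centralizer_iff.mp hc t ht
    obtain ⟨i, b, hib, hi, hb, hi', hb'⟩ := K.hyp.exists_parts (m : G)
    have hiN := zpowers_le.mpr hmT hi'
    have hbN := zpowers_le.mpr hmT hb'
    have hbH := zpowers_le.mpr m.2 hb'
    rw [hib]
    refine mul_mem ?_ ?_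
    · exact mem_centralizer_iff.mpr fun t ht => (K.comm ht (K.mem_of_normalizer hiN hi)).eq
    by_contra hbC
    have hb1 : b ≠ 1 := fun e => hbC (e ▸ one_mem _)
    have hp := K.hyp.orderOf_prime hb1 hb
    have hTC : T ≤ centralizer (I : Set G) := by
      refine K.hyp.centralize (K.hyp.isPGroup_of_invariant K.sqT K.four hTI hIo) K.sqT hTI hp
        (fun e => Nat.not_even_iff_odd.mpr hb (e ▸ even_two)) rfl hbH
        (fun t ht => (mem_normalizer_iff.mp hbN t).mp ht) (fun t ht he => ?_)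
      by_contra ht1
      exact hbC (K.fpf_of_odd h4 hbN hb ht ht1 he)
    refine hne (eq_bot_iff.mpr fun y hy => ?_)
    rw [mem_bot]
    exact hself y (mem_centralizer_iff.mpr fun t ht => (mem_centralizer_iff.mp (hTC ht) y hy).symm)
      (odd_orderOf hIo hy)
  have hc := MonoidHom.ker_transferSylow_isComplement' P hNC
  set N := (MonoidHom.transferSylow P hNC).ker with hN
  have hNodd : Odd (Nat.card N) := by
    rw [← Nat.not_even_iff_odd, even_iff_two_dvd]
    exact MonoidHom.not_dvd_card_ker_transferSylow P hNC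
  set R := N.map H.subtype with hR
  have hRodd : Odd (Nat.card R) := by rwa [hR, card_map_of_injective H.subtype_injective]
  have hRn : H ≤ normalizer (R : Set G) := Coprime.le_normalizer_of_conj_mem fun h hh => by
    rintro _ ⟨y, hy, rfl⟩
    exact ⟨_, (inferInstance : N.Normal).conj_mem y hy ⟨h, hh⟩, rfl⟩
  have hsq : ∀ z : (P : Subgroup H), z ^ 2 = 1 := fun z => Subtype.ext (Subtype.ext (by
    have hz := z.2
    have hz' : (z : H) ∈ T.subgroupOf H := hPT ▸ hz
    simp [pow_two, K.sq (mem_subgroupOf.mp hz')]))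
  have hodd_mem : ∀ y ∈ H, Odd (orderOf y) → y ∈ R := by
    intro y hy ho
    refine ⟨⟨y, hy⟩, MonoidHom.mem_ker.mpr ?_, rfl⟩
    rw [← orderOf_eq_one_iff]
    exact Nat.eq_one_of_dvd_coprimes ho.coprime_two_right
      ((orderOf_map_dvd _ _).trans (Subgroup.orderOf_mk y hy).dvd)
      (orderOf_dvd_of_pow_eq_one (hsq _))
  obtain ⟨Q'', hRQ'', hQ''⟩ := Finite.exists_le_maximal (p := InvOdd T) (a := R) ⟨hRodd, hTI.trans hRn⟩
  have hgrow : ∀ X : Subgroup G, Maximal (InvOdd T) X → I ≤ X → I ≠ X → X = Q'' := by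
    intro X hX hIX hIXne
    haveI : Group.IsNilpotent X :=
      (K.hyp.isPGroup_of_invariant K.sqT K.four hX.prop.2 hX.prop.1).isNilpotent
    have hlt : I.subgroupOf X < ⊤ := by
      rw [lt_top_iff_ne_top, Ne, subgroupOf_eq_top]
      exact fun h => hIXne (le_antisymm hIX h)
    obtain ⟨y, hy, hyn⟩ := SetLike.exists_of_lt (Group.normalizerCondition_of_isNilpotent _ hlt)
    have hyH : (y : G) ∈ H := by
      rw [hH, mem_normalizer_iff]
      intro z
      refine ⟨fun hz => (mem_normalizer_iff.mp hy ⟨z, hIX hz⟩).mp hz, fun hz => ?_⟩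
      have hz' : z ∈ X := by
        have := mul_mem (mul_mem (inv_mem y.2) (hIX hz)) y.2
        simpa [mul_assoc] using this
      exact (mem_normalizer_iff.mp hy ⟨z, hz'⟩).mpr hz
    have hyQ : (y : G) ∈ Q'' := hRQ'' (hodd_mem _ hyH (odd_orderOf hX.prop.1 y.2))
    have hIQ'' : I ≤ Q'' := fun z hz => hRQ'' (hodd_mem z (le_normalizer hz) (odd_orderOf hIo hz))
    have hlt2 : Nat.card I < Nat.card ↥(X ⊓ Q'') := by
      by_contra hle
      have := eq_of_le_of_card_ge (le_inf hIX hIQ'') (not_lt.mp hle)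
      exact hyn (mem_subgroupOf.mpr (this ▸ ⟨y.2, hyQ⟩))
    refine IH _ ?_ X Q'' rfl hX hQ'' (fun hbot => ?_)
    · rw [← hn]
      have := Nat.le_of_dvd Nat.card_pos (card_subgroup_dvd_card (X ⊓ Q''))
      omega
    · rw [hbot, Subgroup.card_bot] at hlt2
      have : 0 < Nat.card I := Nat.card_pos
      omega
  rw [hgrow Q hQ inf_le_left hIQ, hgrow Q' hQ' inf_le_right hIQ']

/-- The tori are TI-subgroups. -/
theorem mem_cent_of_meet {a g x : G} (ha : a ∈ T) (ha1 : a ≠ 1)
    (hx : x ∈ theta T a) (hx1 : x ≠ 1) (hgx : g⁻¹ * x * g ∈ theta T a) :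
    g ∈ centralizer ({a} : Set G) := by
  haveI := Fact.mk K.hyp.prime
  haveI := Fact.mk Nat.prime_two
  have hxr := K.hyp.orderOf_r (K.theta_isPGroup ha ha1) hx hx1
  obtain ⟨b, hb, hb1, hab⟩ : ∃ b ∈ T, b ≠ 1 ∧ a ≠ b := by
    obtain ⟨d, hd, -, hfix⟩ := K.exists_three h4
    exact ⟨d * a * d⁻¹, (mem_normalizer_iff.mp hd a).mp ha, fun e => ha1 (conj_eq_one_iff.mp e),
      fun e => ha1 (hfix a ha e.symm)⟩
  have hinvb := fun {y : G} (hy : y ∈ theta T a) => K.theta_inv h4 hself ha ha1 hb hb1 hab hy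
  have hcomm : ∀ y ∈ theta T a, ∀ z ∈ theta T a, Commute y z := by
    intro y hy z hz
    have h1 := hinvb (mul_mem hy hz)
    rw [show b * (y * z) * b⁻¹ = (b * y * b⁻¹) * (b * z * b⁻¹) by group, hinvb hy, hinvb hz,
      ← mul_inv_rev, inv_inj] at h1
    exact h1.symm
  set C := centralizer ({x} : Set G) with hC
  have haC : a ∈ C := mem_centralizer_singleton_iff.mpr
    (mem_centralizer_singleton_iff.mp (K.theta_le ha ha1 hx)).symm
  set a' := g * a * g⁻¹ with ha'
  have ha'C : a' ∈ C := by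
    have h1 := mem_centralizer_singleton_iff.mp (K.theta_le ha ha1 hgx)
    refine mem_centralizer_singleton_iff.mpr ?_
    have h2 := (Commute.conj_iff g).mpr h1
    rw [show g * (g⁻¹ * x * g) * g⁻¹ = x by group] at h2
    exact h2.symm.eq
  have haa := K.sq ha
  -- a two-subgroup of `C(x)` containing `a` is generated by `a`
  have hsyl : ∀ P : Subgroup G, IsPGroup 2 P → zpowers a ≤ P → P ≤ C → P = zpowers a := by
    intro P hP haP hPC
    refine le_antisymm (fun y hy => ?_) haP
    have hPsq : ∀ z ∈ P, z * z = 1 := fun z hz => K.hyp.two_group_sq hP hz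
    have hya : Commute y a := comm_of_sq hPsq hy (haP (mem_zpowers a))
    obtain ⟨o, ho, t, ht, rfl⟩ := K.cent_inv h4 hself ha ha1 (mem_centralizer_singleton_iff.mpr hya.eq)
    have hox : Commute o x := hcomm o ho x hx
    have htx : Commute t x := by
      have h1 : Commute (o * t) x := mem_centralizer_singleton_iff.mp (hPC hy)
      have := hox.inv_left.mul_left h1
      rwa [inv_mul_cancel_left] at this
    have htz : t ∈ zpowers a := by
      rcases K.mem_cases h4 ha ha1 hb hb1 hab ht with rfl | rfl | rfl | rfl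
      · exact one_mem _
      · exact mem_zpowers _
      · exfalso
        have h1 := hinvb hx
        rw [htx.eq, mul_inv_cancel_right] at h1
        exact hx1 (eq_one_of_odd_of_sq (hxr ▸ K.hyp.r_odd) (by nth_rewrite 2 [h1]; exact mul_inv_cancel _))
      · exfalso
        have hca : Commute a x := (mem_centralizer_singleton_iff.mp (K.theta_le ha ha1 hx)).symm
        have hbx : Commute b x := by
          have := hca.inv_left.mul_left htx
          rwa [inv_mul_cancel_left] at this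
        exact hx1 (K.theta_fixed h4 hself ha ha1 hb hb1 hab hx hbx)
    have hot : Commute o t := by
      obtain ⟨i, rfl⟩ := mem_zpowers_iff.mp htz
      exact (Commute.zpow_right (mem_centralizer_singleton_iff.mp (K.theta_le ha ha1 ho)) i)
    have h2 := hPsq _ hy
    rw [show o * t * (o * t) = o * (t * o) * t by group, ← hot.eq,
      show o * (o * t) * t = (o * o) * (t * t) by group, K.sq ht, mul_one] at h2
    rw [eq_one_of_odd_of_sq (odd_orderOf (K.theta_odd ha ha1) ho) h2, one_mul]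
    exact htz
  have hzsq : ∀ z ∈ zpowers a, z * z = 1 := fun z hz => by
    obtain ⟨i, rfl⟩ := mem_zpowers_iff.mp hz
    rw [← (Commute.refl a).mul_zpow, haa, one_zpow]
  obtain ⟨O, hOC, hOo, hOn, hconj, hOmax⟩ :=
    exists_core (K.hyp.solvable_centralizer_r hxr) (zpowers_le.mpr haC) hzsq hsyl
  have hbC : ∀ y ∈ C, b * y * b⁻¹ ∈ C := fun y hy => by
    have h1 : Commute (b * y * b⁻¹) (b * x * b⁻¹) :=
      (Commute.conj_iff b).mpr (mem_centralizer_singleton_iff.mp hy)
    rw [hinvb hx] at h1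
    exact mem_centralizer_singleton_iff.mpr (by simpa using h1.inv_right.eq)
  have hbO : b ∈ normalizer (O : Set G) := by
    refine mem_normalizer_of_map_le (hOmax _ ?_ ?_ ?_)
    · rintro _ ⟨y, hy, rfl⟩
      exact hbC y (hOC hy)
    · rwa [card_map_of_injective (MulAut.conj b).injective]
    · rw [zpowers_le]
      refine mem_normalizer_of_map_le ?_
      rintro _ ⟨_, ⟨y, hy, rfl⟩, rfl⟩
      refine ⟨a * y * a⁻¹, (mem_normalizer_iff.mp (hOn haC) y).mp hy, ?_⟩
      show b * (a * y * a⁻¹) * b⁻¹ = a * (b * y * b⁻¹) * a⁻¹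
      rw [show b * (a * y * a⁻¹) * b⁻¹ = (b * a) * y * (b * a)⁻¹ by group, (K.comm hb ha).eq]
      group
  have hTO : T ≤ normalizer (O : Set G) := fun t ht => by
    rcases K.mem_cases h4 ha ha1 hb hb1 hab ht with rfl | rfl | rfl | rfl
    exacts [one_mem _, hOn haC, hbO, mul_mem (hOn haC) hbO]
  have hθO : theta T a ≤ O := hOmax _ (fun y hy => mem_centralizer_singleton_iff.mpr (hcomm y hy x hx).eq)
    (K.theta_odd ha ha1) ((zpowers_le.mpr ha).trans (K.le_normalizer_theta ha ha1))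
  by_cases hOa : O ≤ centralizer ({a} : Set G)
  · -- then `a' = a`
    let P : Sylow 2 C :=
      { toSubgroup := (zpowers a).subgroupOf C
        isPGroup' := (isPGroup_of_sq hzsq).comap_of_injective C.subtype C.subtype_injective
        is_maximal' := by
          intro Q hQ hle
          have he := hsyl _ (hQ.map C.subtype)
            (fun z hz => ⟨⟨z, zpowers_le.mpr haC hz⟩, hle hz, rfl⟩) (map_subtype_le _)
          refine le_antisymm (fun q hq => ?_) hle
          show (q : G) ∈ zpowers a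
          rw [← he]
          exact ⟨q, hq, rfl⟩ }
    have ha'2 : a' * a' = 1 := by
      rw [ha', show g * a * g⁻¹ * (g * a * g⁻¹) = g * (a * a) * g⁻¹ by group, haa, mul_one, mul_inv_cancel]
    have ha'1 : a' ≠ 1 := fun e => ha1 (conj_eq_one_iff.mp e)
    have hp : IsPGroup 2 (zpowers (⟨a', ha'C⟩ : C)) :=
      IsPGroup.of_card (n := 1) (by
        rw [Nat.card_zpowers, Subgroup.orderOf_mk, orderOf_two ha'2 ha'1, pow_one])
    obtain ⟨Q, hQ⟩ := hp.exists_le_sylow
    obtain ⟨c, hc⟩ := MulAction.exists_smul_eq C Q P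
    have hm : (c : G) * a' * (c : G)⁻¹ ∈ zpowers a := by
      have : c * ⟨a', ha'C⟩ * c⁻¹ ∈ (P : Subgroup C) := by
        rw [← hc, Sylow.coe_subgroup_smul]
        exact ⟨_, hQ (mem_zpowers _), rfl⟩
      exact this
    obtain ⟨i, hi⟩ := mem_zpowers_iff.mp hm
    have hca : (c : G) * a' * (c : G)⁻¹ = a := by
      rcases Int.even_or_odd i with ⟨j, hj⟩ | ⟨j, hj⟩
      · exfalso
        rw [hj, zpow_add, ← (Commute.refl a).mul_zpow, haa, one_zpow] at hi
        exact ha'1 (conj_eq_one_iff.mp hi.symm)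
      · rw [hj, zpow_add, zpow_mul, zpow_two, haa, one_zpow, one_mul, zpow_one] at hi
        exact hi.symm
    have hmem := hconj _ (inv_mem c.2) a (mem_zpowers a)
    rw [inv_inv] at hmem
    have hle : zpowers a ⊔ O ≤ centralizer ({a} : Set G) :=
      sup_le (zpowers_le.mpr (mem_centralizer_singleton_iff.mpr rfl)) hOa
    have hmem2 := hle hmem
    have ha'a : Commute a' a := by
      have : (c : G)⁻¹ * a * c = a' := by rw [← hca]; group
      rw [this] at hmem2
      exact mem_centralizer_singleton_iff.mp hmem2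
    -- two commuting involutions of `C(x)`
    have hsq2 : ∀ z ∈ zpowers a ⊔ zpowers a', z * z = 1 := by
      intro z hz
      have hn : zpowers a' ≤ normalizer (zpowers a : Set G) := by
        rw [zpowers_le]
        refine mem_normalizer_of_map_le ?_
        rw [MonoidHom.map_zpowers, zpowers_le]
        show a' * a * a'⁻¹ ∈ zpowers a
        rw [ha'a.eq, mul_inv_cancel_right]
        exact mem_zpowers a
      rw [← SetLike.mem_coe, Subgroup.coe_mul_of_right_le_normalizer_left _ _ hn] at hz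
      obtain ⟨p, hp, q, hq, rfl⟩ := hz
      obtain ⟨i, rfl⟩ := mem_zpowers_iff.mp hp
      obtain ⟨j, rfl⟩ := mem_zpowers_iff.mp hq
      have hc' : Commute (a' ^ j) (a ^ i) := (ha'a.zpow_left j).zpow_right i
      calc a ^ i * a' ^ j * (a ^ i * a' ^ j) = a ^ i * (a' ^ j * a ^ i) * a' ^ j := by group
        _ = (a ^ i * a ^ i) * (a' ^ j * a' ^ j) := by rw [hc'.eq]; group
        _ = 1 := by rw [← (Commute.refl a).mul_zpow, haa, one_zpow, one_mul,
            ← (Commute.refl a').mul_zpow, ha'2, one_zpow]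
    have heq := hsyl _ (isPGroup_of_sq hsq2) le_sup_left
      (sup_le (zpowers_le.mpr haC) (zpowers_le.mpr ha'C))
    have ha'z : a' ∈ zpowers a := heq ▸ mem_sup_right (mem_zpowers a')
    obtain ⟨j, hj⟩ := mem_zpowers_iff.mp ha'z
    have haa' : a' = a := by
      rcases Int.even_or_odd j with ⟨k, hk⟩ | ⟨k, hk⟩
      · exfalso
        rw [hk, zpow_add, ← (Commute.refl a).mul_zpow, haa, one_zpow] at hj
        exact ha'1 hj.symm
      · rw [hk, zpow_add, zpow_mul, zpow_two, haa, one_zpow, one_mul, zpow_one] at hj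
        exact hj.symm
    rw [mem_centralizer_singleton_iff]
    exact mul_inv_eq_iff_eq_mul.mp haa'
  · exfalso
    haveI := isMulCommutative_of_sq K.sqT
    obtain ⟨e, he, he1, hea, y, hy, hy1, hye⟩ : ∃ e ∈ T, e ≠ 1 ∧ a ≠ e ∧
        ∃ y ∈ O, y ≠ 1 ∧ y ∈ centralizer ({e} : Set G) := by
      by_contra hcon
      push Not at hcon
      refine hOa (Coprime.le_of_centralizer_le T O _ (not_isCyclic_of_sq K.sqT K.four) hTO
        (coprime_of_sq K.sqT hOo) fun e he he1 y hy => ?_)
      by_cases hea : a = e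
      · rw [hea]; exact hy.2
      · by_contra hyc
        exact hcon e he he1 hea y hy.1 (fun h => hyc (h ▸ one_mem _)) hy.2
    have hyθ : y ∈ theta T e := by
      refine le_theta (U := O ⊓ centralizer ({e} : Set G)) inf_le_right
        (hOo.of_dvd_nat (card_dvd_of_le inf_le_left))
        (Coprime.le_normalizer_inf hTO ((K.le_centralizer he).trans le_normalizer)) ⟨hy, hye⟩
    obtain ⟨Q, hOQ, hQ⟩ := Finite.exists_le_maximal (p := InvOdd T) (a := O) ⟨hOo, hTO⟩
    obtain ⟨Qe, heQe, hQe⟩ := Finite.exists_le_maximal (p := InvOdd T) (a := theta T e)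
      ⟨K.theta_odd he he1, K.le_normalizer_theta he he1⟩
    have hQQe : Q = Qe := K.max_unique h4 hself Q Qe hQ hQe fun h => hy1 (by
      rw [← mem_bot, ← h]; exact ⟨hOQ hy, heQe hyθ⟩)
    obtain ⟨D, hD, hD3, hDfix, hDa⟩ := (K.exists_conj_of_mem h4 ha ha1 he he1).resolve_left hea
    set QD := Q.map (MulAut.conj D).toMonoidHom with hQD
    have hQDinv : InvOdd T QD := by
      refine ⟨by rw [hQD, card_map_of_injective (MulAut.conj D).injective]; exact hQ.prop.1,
        Coprime.le_normalizer_of_conj_mem ?_⟩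
      rintro t ht _ ⟨z, hz, rfl⟩
      have ht' : D⁻¹ * t * D ∈ T := by
        have := (mem_normalizer_iff.mp (inv_mem hD) t).mp ht
        rwa [inv_inv] at this
      exact ⟨(D⁻¹ * t * D) * z * (D⁻¹ * t * D)⁻¹,
        (mem_normalizer_iff.mp (hQ.prop.2 ht') z).mp hz, by simp [mul_assoc]⟩
    obtain ⟨QD', hle', hQD'⟩ := Finite.exists_le_maximal (p := InvOdd T) (a := QD) hQDinv
    have hmem : D * x * D⁻¹ ∈ theta T e :=
      hDa ▸ K.conj_theta_le hD ha ha1 ⟨x, hx, rfl⟩
    have hQD'Qe : QD' = Qe := K.max_unique h4 hself QD' Qe hQD' hQe fun h => hx1 (by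
      have : D * x * D⁻¹ ∈ QD' ⊓ Qe := ⟨hle' ⟨x, hOQ (hθO hx), rfl⟩, heQe hmem⟩
      rw [h, mem_bot, conj_eq_one_iff] at this
      exact this)
    have hDQ : D ∈ normalizer (Q : Set G) :=
      mem_normalizer_of_map_le (hle'.trans (hQD'Qe.trans hQQe.symm).le)
    have hTQ : T ≤ centralizer (Q : Set G) :=
      K.hyp.centralize (K.hyp.isPGroup_of_invariant K.sqT K.four hQ.prop.2 hQ.prop.1) K.sqT
        hQ.prop.2 Nat.prime_three (by norm_num) hD3 hDQ (fun t ht => (mem_normalizer_iff.mp hD t).mp ht)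
        hDfix
    exact hx1 (hself x (mem_centralizer_iff.mpr fun t ht =>
      (mem_centralizer_iff.mp (hTQ ht) x (hOQ (hθO hx))).symm) (hxr ▸ K.hyp.r_odd))

/-- A self-centralising four group gives `PSL(2, q)`. -/
theorem exists_psl [IsSimpleGroup G] (hna : ¬ IsMulCommutative G) :
    ∃ (F : Type) (_ : Field F) (_ : Fintype F), Odd (Fintype.card F) ∧
      Nonempty (G ≃* Matrix.ProjectiveSpecialLinearGroup (Fin 2) F) := by
  classical
  obtain ⟨⟨a, ha⟩, ha1'⟩ : ∃ a : T, a ≠ 1 := by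
    haveI : Nontrivial T := (Finite.one_lt_card_iff_nontrivial).mp (by omega)
    exact exists_ne 1
  have ha1 : a ≠ 1 := fun e => ha1' (Subtype.ext e)
  obtain ⟨d, hd, -, hfix⟩ := K.exists_three h4
  set b := d * a * d⁻¹ with hbdef
  have hb : b ∈ T := (mem_normalizer_iff.mp hd a).mp ha
  have hb1 : b ≠ 1 := fun e => ha1 (conj_eq_one_iff.mp e)
  have hab : a ≠ b := fun e => ha1 (hfix a ha e.symm)
  set θ := theta T a with hθ
  have hinv : ∀ y ∈ θ, b * y * b⁻¹ = y⁻¹ := fun y hy => K.theta_inv h4 hself ha ha1 hb hb1 hab hy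
  have hcomm : ∀ y ∈ θ, ∀ z ∈ θ, Commute y z := by
    intro y hy z hz
    have h1 := hinv _ (mul_mem hy hz)
    rw [show b * (y * z) * b⁻¹ = (b * y * b⁻¹) * (b * z * b⁻¹) by group, hinv y hy, hinv z hz,
      ← mul_inv_rev, inv_inj] at h1
    exact h1.symm
  have haθ : ∀ y ∈ θ, Commute y a := fun y hy => mem_centralizer_singleton_iff.mp (K.theta_le ha ha1 hy)
  have haa := K.sq ha
  have hbb := K.sq hb
  set KK := θ ⊔ zpowers a with hKK
  have hKmem : ∀ x ∈ KK, ∃ o ∈ θ, x = o ∨ x = o * a := by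
    intro x hx
    rw [← SetLike.mem_coe, hKK, Subgroup.coe_mul_of_right_le_normalizer_left θ (zpowers a)
      (zpowers_le.mpr (K.le_normalizer_theta ha ha1 ha))] at hx
    obtain ⟨o, ho, p, hp, rfl⟩ := hx
    obtain ⟨i, rfl⟩ := mem_zpowers_iff.mp hp
    refine ⟨o, ho, ?_⟩
    rcases Int.even_or_odd i with ⟨j, rfl⟩ | ⟨j, rfl⟩
    · left
      show o * a ^ (j + j) = o
      rw [zpow_add, ← (Commute.refl a).mul_zpow, haa, one_zpow, mul_one]
    · right
      show o * a ^ (2 * j + 1) = o * a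
      rw [zpow_add, zpow_mul, zpow_two, haa, one_zpow, one_mul, zpow_one]
  have hKr : ∀ o ∈ θ, (o * a) ^ r = a := fun o ho => by
    rw [(haθ o ho).mul_pow, K.hyp.pow_r (K.theta_isPGroup ha ha1) ho, one_mul]
    obtain ⟨j, hj⟩ := K.hyp.r_odd
    rw [hj, pow_succ, pow_mul, pow_two, haa, one_pow, one_mul]
  have hKle : KK ≤ centralizer ({a} : Set G) :=
    sup_le (K.theta_le ha ha1) (zpowers_le.mpr (mem_centralizer_singleton_iff.mpr rfl))
  have hconj : ∀ x y : G, orderOf x = 2 → orderOf y = 2 → IsConj x y := by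
    suffices h : ∀ x : G, orderOf x = 2 → IsConj x a from fun x y hx hy => (h x hx).trans (h y hy).symm
    intro x hx
    obtain ⟨c, hc⟩ := K.exists_conj_mem hx
    have hc1 : c * x * c⁻¹ ≠ 1 := fun e => ne_one_two hx (conj_eq_one_iff.mp e)
    rcases K.exists_conj_of_mem h4 hc hc1 ha ha1 with e | ⟨D, -, -, -, he⟩
    · exact isConj_iff.mpr ⟨c, e⟩
    · exact isConj_iff.mpr ⟨D * c, by rw [← he]; group⟩
  have hbK : b ∉ KK := by
    intro h
    obtain ⟨o, ho, he | he⟩ := hKmem b h
    · exact hb1 (eq_one_of_odd_of_sq (he ▸ odd_orderOf (K.theta_odd ha ha1) ho) hbb)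
    · have : o = b * a := by rw [he, mul_assoc, haa, mul_one]
      refine hab (?_ : a = b)
      have h1 : o = 1 := eq_one_of_odd_of_sq (odd_orderOf (K.theta_odd ha ha1) ho)
        (this ▸ K.sq (mul_mem hb ha))
      rw [he, h1, one_mul]
  let S : BSW7.Setup G :=
    { t := a
      K := KK
      s := b
      ht := K.order_two ha ha1
      comm := by
        intro x hx y hy
        obtain ⟨o, ho, he⟩ := hKmem x hx
        obtain ⟨o', ho', he'⟩ := hKmem y hy
        have h1 : Commute o o' := hcomm o ho o' ho'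
        have h2 := haθ o ho
        have h3 := haθ o' ho'
        rcases he with rfl | rfl <;> rcases he' with rfl | rfl
        · exact h1.eq
        · exact (h1.mul_right h2).eq
        · exact (h1.mul_left h3.symm).eq
        · exact ((h1.mul_right h2).mul_left (h3.symm.mul_right (Commute.refl a))).eq
      le := hKle
      tK := mem_sup_right (mem_zpowers a)
      hs := K.order_two hb hb1
      sH := K.le_centralizer ha hb
      sK := hbK
      gen := by
        refine le_antisymm (sup_le hKle (zpowers_le.mpr (K.le_centralizer ha hb))) fun x hx => ?_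
        obtain ⟨o, ho, t, ht, rfl⟩ := K.cent_inv h4 hself ha ha1 hx
        refine mul_mem (mem_sup_left (mem_sup_left ho)) ?_
        have hA : a ∈ KK ⊔ zpowers b := mem_sup_left (mem_sup_right (mem_zpowers a))
        have hB : b ∈ KK ⊔ zpowers b := mem_sup_right (mem_zpowers b)
        rcases K.mem_cases h4 ha ha1 hb hb1 hab ht with rfl | rfl | rfl | rfl
        exacts [one_mem _, hA, hB, mul_mem hA hB]
      inter := by
        refine le_antisymm (fun x hx => ?_) (le_inf le_sup_right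
          (zpowers_le.mpr (K.le_centralizer hb ha)))
        obtain ⟨o, ho, he⟩ := hKmem x hx.1
        have hxb : Commute x b := mem_centralizer_singleton_iff.mp hx.2
        have hob : Commute b o := by
          rcases he with rfl | rfl
          · exact hxb.symm
          · have := hxb.symm.mul_right (K.comm hb ha)
            rwa [mul_assoc, haa, mul_one] at this
        have ho1 := K.theta_fixed h4 hself ha ha1 hb hb1 hab ho hob
        rcases he with rfl | rfl
        · rw [ho1]; exact one_mem _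
        · rw [ho1, one_mul]; exact mem_zpowers a
      inv := by
        intro x hx
        obtain ⟨o, ho, rfl | rfl⟩ := hKmem x hx
        · exact hinv x ho
        · rw [show b * (o * a) * b⁻¹ = (b * o * b⁻¹) * (b * a * b⁻¹) by group, hinv o ho,
            (K.comm hb ha).eq, mul_inv_cancel_right, mul_inv_rev, inv_two haa, ← (haθ o ho).inv_left.eq]
      ti := by
        intro g hg
        rw [eq_bot_iff]
        rintro x ⟨hx, y, hy, hyx⟩
        replace hyx : g * y * g⁻¹ = x := hyx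
        rw [mem_bot]
        obtain ⟨o, ho, he⟩ := hKmem x hx
        obtain ⟨o', ho', he'⟩ := hKmem y hy
        rcases he with rfl | rfl
        · rcases he' with rfl | rfl
          · by_contra hx1
            exact hg (K.mem_cent_of_meet h4 hself ha ha1 ho hx1 (by
              rw [← hyx, show g⁻¹ * (g * y * g⁻¹) * g = y by group]; exact ho'))
          · exfalso
            have h1 := congrArg (· ^ r) hyx
            simp only [conj_pow] at h1
            rw [hKr o' ho', K.hyp.pow_r (K.theta_isPGroup ha ha1) ho] at h1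
            exact ha1 (conj_eq_one_iff.mp h1)
        · exfalso
          have h1 := congrArg (· ^ r) hyx
          simp only [conj_pow] at h1
          rw [hKr o ho] at h1
          rcases he' with rfl | rfl
          · rw [K.hyp.pow_r (K.theta_isPGroup ha ha1) ho', mul_one, mul_inv_cancel] at h1
            exact ha1 h1.symm
          · rw [hKr o' ho'] at h1
            exact hg (mem_centralizer_singleton_iff.mpr (mul_inv_eq_iff_eq_mul.mp h1))
      conj := hconj }
  obtain ⟨Q, D, h1, h2, h3, h4', h5, h6, h7⟩ := S.concl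
  obtain ⟨F, iF, iFF, hcard, he⟩ := BSW7.psl_of_frame hna ⟨h1, h2, h3, h4', h5, h6, h7⟩
  refine ⟨F, iF, iFF, ?_, he⟩
  rw [hcard, ← h4']
  exact odd_two_mul_add_one _

end Cfsg.Agent.TwoR73.Hyp.Sys
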