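import Cfsg.Agent.TwoR73.Basic
import Cfsg.Agent.Lib.PGroup.Basic
import Cfsg.Agent.Lib.Coprime.Action

/-!
# An element permuting the weights freely forces a trivial action
-/

set_option autoImplicit false
set_option linter.style.haveILetI false
set_option linter.unusedSectionVars false

open Subgroup

namespace Cfsg.Agent.TwoR73

universe u

section Eigen

variable {E : Type*} [CommGroup E] {Γ : Type*} [Group Γ] (φ : Γ →* MulAut E) (A : Subgroup Γ)

/-- Eigenvectors with eigenvalues `±1` for an elementary abelian two-group. -/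
theorem exists_eigen (hA : ∀ x ∈ A, x * x = 1) [Finite Γ] {a : Γ} (ha : a ∈ A) {e₀ : E}
    (h0 : e₀ ≠ 1) (he₀ : φ a e₀ = e₀⁻¹) :
    ∃ e : E, e ≠ 1 ∧ φ a e = e⁻¹ ∧ ∀ b ∈ A, φ b e = e ∨ φ b e = e⁻¹ := by
  classical
  cases nonempty_fintype A
  have hcomm : ∀ b ∈ A, ∀ c ∈ A, ∀ x : E, φ c (φ b x) = φ b (φ c x) := fun b hb c hc x => by
    rw [← MulAut.mul_apply, ← map_mul, (comm_of_sq hA hc hb).eq, map_mul, MulAut.mul_apply]
  suffices key : ∀ s : Finset A, ∃ e : E, e ≠ 1 ∧ φ a e = e⁻¹ ∧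
      ∀ b ∈ s, φ (b : Γ) e = e ∨ φ (b : Γ) e = e⁻¹ by
    obtain ⟨e, h1, h2, h3⟩ := key Finset.univ
    exact ⟨e, h1, h2, fun b hb => h3 ⟨b, hb⟩ (Finset.mem_univ _)⟩
  intro s
  induction s using Finset.induction_on with
  | empty => exact ⟨e₀, h0, he₀, by simp⟩
  | @insert b s _ ih =>
    obtain ⟨e, h1, h2, h3⟩ := ih
    by_cases hb : φ (b : Γ) e * e = 1
    · refine ⟨e, h1, h2, fun c hc => ?_⟩
      rcases Finset.mem_insert.mp hc with rfl | hc
      · exact Or.inr (eq_inv_of_mul_eq_one_left hb)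
      · exact h3 c hc
    · refine ⟨φ (b : Γ) e * e, hb, ?_, fun c hc => ?_⟩
      · rw [map_mul, hcomm b b.2 a ha, h2, map_inv, mul_inv]
      · rcases Finset.mem_insert.mp hc with rfl | hc
        · left
          rw [map_mul, ← MulAut.mul_apply, ← map_mul, hA _ c.2, map_one, MulAut.one_apply,
            mul_comm]
        · rcases h3 c hc with h | h
          · left; rw [map_mul, hcomm b b.2 c c.2, h]
          · right; rw [map_mul, hcomm b b.2 c c.2, h, map_inv, mul_inv]

variable [Finite Γ] {r l : ℕ}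

/-- The product over an orbit of a weight vector whose weight is moved. -/
theorem prod_ne_one (hr : r.Prime) (hr2 : r ≠ 2) (hexp : ∀ x : E, x ^ r = 1)
    (hA : ∀ x ∈ A, x * x = 1) {f : Γ} (hl : l.Prime) (hl2 : l ≠ 2) (hfl : f ^ l = 1)
    (hfA : ∀ b ∈ A, f * b * f⁻¹ ∈ A) (hfix : ∀ b ∈ A, f * b * f⁻¹ = b → b = 1)
    {a : Γ} (ha : a ∈ A) {e : E} (he : e ≠ 1) (hea : φ a e = e⁻¹)
    (heig : ∀ b ∈ A, φ b e = e ∨ φ b e = e⁻¹) :
    ∏ i ∈ Finset.range l, φ (f ^ i) e ≠ 1 := by
  classical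
  haveI := Fact.mk hr
  have hoe : orderOf e = r := orderOf_eq_prime (hexp e) he
  have hne : e⁻¹ ≠ e := fun hh => he (by
    have h2 : e ^ 2 = 1 := by
      rw [pow_two]; nth_rewrite 1 [← hh]; exact inv_mul_cancel e
    have hd := orderOf_dvd_of_pow_eq_one h2
    rw [hoe] at hd
    exact absurd ((Nat.prime_dvd_prime_iff_eq hr Nat.prime_two).mp hd) hr2)
  have hpowA : ∀ (i : ℕ), ∀ b ∈ A, f ^ i * b * (f ^ i)⁻¹ ∈ A := by
    intro i
    induction i with
    | zero => intro b hb; simpa using hb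
    | succ i ih => intro b hb; have := hfA _ (ih b hb); simpa [pow_succ', mul_assoc] using this
  have hinvA : ∀ (i : ℕ), ∀ b ∈ A, (f ^ i)⁻¹ * b * f ^ i ∈ A := by
    intro i b hb
    have h1 : (f ^ i)⁻¹ = f ^ (i * (l - 1)) := by
      refine inv_eq_of_mul_eq_one_right ?_
      rw [← pow_add, show i + i * (l - 1) = l * i by
        obtain ⟨m, rfl⟩ := Nat.exists_eq_add_of_le hl.one_le
        simp; ring, pow_mul, hfl, one_pow]
    have h2 := hpowA (i * (l - 1)) b hb
    rw [← h1, inv_inv] at h2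
    exact h2
  let χ : Γ → ℤ := fun b => if φ b e = e then 1 else -1
  have hχ : ∀ b ∈ A, φ b e = e ^ χ b := fun b hb => by
    show φ b e = e ^ (if φ b e = e then (1 : ℤ) else -1)
    split_ifs with hh
    · rw [zpow_one]; exact hh
    · rw [zpow_neg_one]; exact (heig b hb).resolve_left hh
  have hχsq : ∀ b, χ b * χ b = 1 := fun b => by
    show (if φ b e = e then (1 : ℤ) else -1) * (if φ b e = e then (1 : ℤ) else -1) = 1
    split_ifs <;> rfl
  -- the weight of the translates
  have hχi : ∀ (i : ℕ), ∀ b ∈ A, φ b (φ (f ^ i) e) = φ (f ^ i) e ^ χ ((f ^ i)⁻¹ * b * f ^ i) :=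
    fun i b hb => by
    rw [← map_zpow, ← hχ _ (hinvA i b hb), ← MulAut.mul_apply, ← map_mul, ← MulAut.mul_apply,
      ← map_mul]
    congr 2
    group
  -- the weight is moved
  have hmove : ∀ i, i ≠ 0 → i < l → ∃ b ∈ A, χ ((f ^ i)⁻¹ * b * f ^ i) ≠ χ b := by
    intro i hi0 hil
    by_contra hcon
    push Not at hcon
    obtain ⟨m, -, hm⟩ := Nat.exists_mul_mod_eq_one_of_coprime (n := i) (k := l)
      ((hl.coprime_iff_not_dvd.mpr (fun hd => by
        have := Nat.le_of_dvd (Nat.pos_of_ne_zero hi0) hd; omega)).symm) hl.one_lt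
    have hfm : f ^ (i * m) = f := by
      rw [← Nat.div_add_mod (i * m) l, hm, pow_add, pow_mul, hfl, one_pow, one_mul, pow_one]
    have hinvar : ∀ n : ℕ, ∀ b ∈ A, χ (f ^ (i * n) * b * (f ^ (i * n))⁻¹) = χ b := by
      intro n
      induction n with
      | zero => intro b _; simp
      | succ n ih =>
        intro b hb
        rw [Nat.mul_succ, pow_add]
        have h1 := hcon _ (hpowA i b hb)
        rw [show (f ^ i)⁻¹ * (f ^ i * b * (f ^ i)⁻¹) * f ^ i = b by group] at h1
        have h2 := ih _ (hpowA i b hb)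
        rw [← h1] at h2
        rw [← h2]
        congr 1
        group
    have hf1 : ∀ b ∈ A, χ (f * b * f⁻¹) = χ b := fun b hb => by
      have := hinvar m b hb
      rwa [hfm] at this
    have hmem : ∀ n : ℕ, (a * f) ^ n * (f ^ n)⁻¹ ∈ A ∧
        φ ((a * f) ^ n * (f ^ n)⁻¹) e = e ^ ((-1 : ℤ) ^ n) := by
      intro n
      induction n with
      | zero => simp
      | succ n ih =>
        have heq : (a * f) ^ (n + 1) * (f ^ (n + 1))⁻¹ =
            a * (f * ((a * f) ^ n * (f ^ n)⁻¹) * f⁻¹) := by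
          rw [pow_succ', pow_succ]; group
        rw [heq]
        refine ⟨mul_mem ha (hfA _ ih.1), ?_⟩
        rw [map_mul, MulAut.mul_apply, hχ _ (hfA _ ih.1), hf1 _ ih.1, ← hχ _ ih.1, ih.2, map_zpow,
          hea, inv_zpow, pow_succ, ← zpow_neg]
        congr 1
        ring
    obtain ⟨hPA, hPe⟩ := hmem l
    rw [hfl, inv_one, mul_one] at hPA hPe
    have hP1 : (a * f) ^ l = 1 := by
      refine hfix _ hPA ?_
      have h1 : Commute (a * f) ((a * f) ^ l) := Commute.self_pow _ _
      have h2 : Commute a ((a * f) ^ l) := comm_of_sq hA ha hPA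
      have h3 : Commute f ((a * f) ^ l) := by
        have := h2.inv_left.mul_left h1
        rwa [inv_mul_cancel_left] at this
      rw [h3.eq, mul_inv_cancel_right]
    rw [hP1, map_one, MulAut.one_apply, (hl.odd_of_ne_two hl2).neg_one_pow, zpow_neg_one] at hPe
    exact hne hPe.symm
  -- linear independence
  have key : ∀ n : ℕ, ∀ s : Finset ℕ, s.card = n → (∀ i ∈ s, i < l) → 0 ∈ s → ∀ c : ℕ → ℤ,
      ∏ i ∈ s, φ (f ^ i) e ^ c i = 1 → (r : ℤ) ∣ c 0 := by
    intro n
    induction n with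
    | zero =>
      intro s hs _ h0
      rw [Finset.card_eq_zero.mp hs] at h0
      simp at h0
    | succ n ih =>
      intro s hs hlt h0 c hc
      by_cases hs1 : s = {0}
      · rw [hs1, Finset.prod_singleton, pow_zero, map_one, MulAut.one_apply] at hc
        rw [← hoe]
        exact orderOf_dvd_iff_zpow_eq_one.mpr hc
      obtain ⟨j, hj, hj0⟩ : ∃ j ∈ s, j ≠ 0 := by
        by_contra hh
        push Not at hh
        exact hs1 (Finset.eq_singleton_iff_unique_mem.mpr ⟨h0, hh⟩)
      obtain ⟨b, hb, hbj⟩ := hmove j hj0 (hlt j hj)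
      let c' : ℕ → ℤ := fun i => c i * (χ ((f ^ i)⁻¹ * b * f ^ i) + χ b)
      have hc' : ∏ i ∈ s, φ (f ^ i) e ^ c' i = 1 := by
        have h1 : ∏ i ∈ s, φ (f ^ i) e ^ (c i * χ ((f ^ i)⁻¹ * b * f ^ i)) = 1 := by
          have := congrArg (φ b) hc
          rw [map_prod, map_one] at this
          rw [← this]
          exact Finset.prod_congr rfl fun i _ => by
            rw [map_zpow, hχi i b hb, ← zpow_mul, mul_comm]
        have h2 : ∏ i ∈ s, φ (f ^ i) e ^ (c i * χ b) = 1 := by
          simp only [zpow_mul, Finset.prod_zpow, hc, one_zpow]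
        rw [← mul_one (1 : E)]
        nth_rewrite 1 [← h1]
        nth_rewrite 1 [← h2]
        rw [← Finset.prod_mul_distrib]
        exact Finset.prod_congr rfl fun i _ => by rw [← zpow_add, ← mul_add]
      have hcj : c' j = 0 := by
        show c j * (χ ((f ^ j)⁻¹ * b * f ^ j) + χ b) = 0
        rcases Int.eq_one_or_neg_one_of_mul_eq_one (hχsq ((f ^ j)⁻¹ * b * f ^ j)) with h1 | h1 <;>
          rcases Int.eq_one_or_neg_one_of_mul_eq_one (hχsq b) with h2 | h2 <;>
          rw [h1, h2] at hbj ⊢ <;> first | exact absurd rfl hbj | ring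
      rw [← Finset.mul_prod_erase s _ hj, hcj, zpow_zero, one_mul] at hc'
      have hd := ih (s.erase j) (by rw [Finset.card_erase_of_mem hj, hs, Nat.add_sub_cancel])
        (fun i hi => hlt i (Finset.mem_of_mem_erase hi)) (Finset.mem_erase.mpr ⟨hj0.symm, h0⟩) c' hc'
      have h2 : c' 0 = c 0 * (2 * χ b) := by
        show c 0 * (χ ((f ^ 0)⁻¹ * b * f ^ 0) + χ b) = _
        simp [two_mul]
      rw [h2] at hd
      rcases (Nat.prime_iff_prime_int.mp hr).dvd_or_dvd hd with h3 | h3
      · exact h3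
      · exfalso
        rcases Int.eq_one_or_neg_one_of_mul_eq_one (hχsq b) with h4 | h4 <;> rw [h4] at h3 <;>
          have h5 := Int.natAbs_dvd_natAbs.mpr h3 <;> simp at h5 <;>
          exact hr2 ((Nat.prime_dvd_prime_iff_eq hr Nat.prime_two).mp h5)
  intro hprod
  have := key _ (Finset.range l) rfl (fun i hi => Finset.mem_range.mp hi)
    (Finset.mem_range.mpr hl.pos) (fun _ => 1) (by simpa using hprod)
  have h1 : r ∣ 1 := Int.natCast_dvd_natCast.mp (by simpa using this)
  exact hr.one_lt.ne' (Nat.dvd_one.mp h1)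

end Eigen

variable {G : Type u} [Group G] [Finite G] {r : ℕ}

/-- The action on the Frattini quotient of a subgroup. -/
noncomputable def quotAct (W : Subgroup G) :
    ↥(normalizer (W : Set G)) →* MulAut (W ⧸ frattini W) where
  toFun g := QuotientGroup.congr (frattini W) (frattini W) (W.normalizerMonoidHom g)
    (Subgroup.characteristic_iff_map_eq.mp inferInstance _)
  map_one' := MulEquiv.ext fun x => by
    induction x using QuotientGroup.induction_on
    simp
  map_mul' g g' := MulEquiv.ext fun x => by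
    induction x using QuotientGroup.induction_on
    simp only [map_mul, MulAut.mul_apply]
    rfl

theorem quotAct_mk (W : Subgroup G) (g : normalizer (W : Set G)) (w : W) :
    quotAct W g (QuotientGroup.mk w) = QuotientGroup.mk (W.normalizerMonoidHom g w) := rfl

/-- The key lemma: the two-group centralises the `r`-group. -/
theorem Hyp.centralize (h : Hyp G r) {W A : Subgroup G} (hW : IsPGroup r W)
    (hA : ∀ x ∈ A, x * x = 1) (hAW : A ≤ normalizer (W : Set G)) {f : G} {l : ℕ} (hl : l.Prime)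
    (hl2 : l ≠ 2) (hf : orderOf f = l) (hfW : f ∈ normalizer (W : Set G))
    (hfA : ∀ b ∈ A, f * b * f⁻¹ ∈ A) (hfix : ∀ b ∈ A, f * b * f⁻¹ = b → b = 1) :
    A ≤ centralizer (W : Set G) := by
  classical
  haveI := Fact.mk h.prime
  have hWodd := odd_of_isPGroup h.prime h.ne_two hW
  refine Coprime.le_centralizer_of_frattini A W hAW
    ((coprime_of_sq hA hWodd).coprime_dvd_right (card_subgroup_dvd_card _)) ?_
  intro a ha k₀ hk₀
  by_contra hnot
  let N := normalizer (W : Set G)
  letI : CommGroup (W ⧸ frattini W) :=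
    { (inferInstance : Group (W ⧸ frattini W)) with
      mul_comm := fun x y => (PGroup.quotient_frattini_commute hW x y).eq }
  let φ := quotAct W
  let A' : Subgroup N := A.subgroupOf N
  have hA' : ∀ x ∈ A', x * x = 1 := fun x hx => Subtype.ext (hA x hx)
  let a' : N := ⟨a, hAW ha⟩
  let k₀' : W := ⟨k₀, hk₀⟩
  set x₀ : W ⧸ frattini W := QuotientGroup.mk k₀' with hx₀
  have hne0 : φ a' x₀ * x₀⁻¹ ≠ 1 := fun he => hnot (by
    have h1 : (QuotientGroup.mk (W.normalizerMonoidHom a' k₀' * k₀'⁻¹) : W ⧸ frattini W) = 1 := by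
      rw [← he, QuotientGroup.mk_mul, QuotientGroup.mk_inv, hx₀, quotAct_mk]
    exact ⟨_, (QuotientGroup.eq_one_iff _).mp h1, by simp [a', k₀']⟩)
  have he0 : φ a' (φ a' x₀ * x₀⁻¹) = (φ a' x₀ * x₀⁻¹)⁻¹ := by
    rw [map_mul, map_inv, ← MulAut.mul_apply, ← map_mul, hA' a' ha, map_one, MulAut.one_apply,
      mul_inv, inv_inv, mul_comm]
  obtain ⟨e, he, hea, heig⟩ := exists_eigen φ A' hA' (a := a') ha hne0 he0
  let f' : N := ⟨f, hfW⟩
  have hfl : f' ^ l = 1 := Subtype.ext (by simp [f', ← hf, pow_orderOf_eq_one])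
  have hY := prod_ne_one φ A' h.prime h.ne_two
    (fun x => PGroup.quotient_frattini_pow hW x) hA' hl hl2 hfl (fun b hb => hfA _ hb)
    (fun b hb hb' => Subtype.ext (hfix b hb (by simpa [f'] using congrArg Subtype.val hb')))
    (a := a') ha he hea heig
  obtain ⟨k, rfl⟩ := QuotientGroup.mk_surjective e
  have hstep : ∀ m : ℕ, ∃ w : W, ((k : G) * f) ^ m = w * f ^ m ∧
      (QuotientGroup.mk w : W ⧸ frattini W) =
        ∏ i ∈ Finset.range m, φ (f' ^ i) (QuotientGroup.mk k) := by
    intro m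
    induction m with
    | zero => exact ⟨1, by simp, by simp⟩
    | succ m ih =>
      obtain ⟨w, hw1, hw2⟩ := ih
      refine ⟨k * W.normalizerMonoidHom f' w, ?_, ?_⟩
      · rw [pow_succ', hw1, pow_succ']
        simp [f', mul_assoc]
      · rw [QuotientGroup.mk_mul, ← quotAct_mk, hw2, map_prod, Finset.prod_range_succ', pow_zero,
          map_one, MulAut.one_apply, mul_comm]
        congr 1
        exact Finset.prod_congr rfl fun i _ => by
          rw [pow_succ' f' i, map_mul, MulAut.mul_apply]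
  obtain ⟨w, hw1, hw2⟩ := hstep l
  have hw : (w : G) ≠ 1 := fun e1 => hY (by
    rw [← hw2, show w = 1 from Subtype.ext e1, QuotientGroup.mk_one])
  rw [← hf, pow_orderOf_eq_one, mul_one] at hw1
  rw [hf] at hw1
  set y : G := (k : G) * f with hy
  have hy1 : y ≠ 1 := fun e1 => hw (by rw [← hw1, e1, one_pow])
  have hpow : y ^ (l * r) = 1 := by rw [pow_mul, hw1, h.pow_r hW w.2]
  have hodd : Odd (orderOf y) :=
    ((hl.odd_of_ne_two hl2).mul h.r_odd).of_dvd_nat (orderOf_dvd_of_pow_eq_one hpow)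
  have hp := h.orderOf_prime hy1 hodd
  rcases hp.dvd_mul.mp (orderOf_dvd_of_pow_eq_one hpow) with hd | hd
  · exact hw (by
      rw [← hw1]
      exact orderOf_dvd_iff_pow_eq_one.mp hd)
  · have heq := (Nat.prime_dvd_prime_iff_eq hp h.prime).mp hd
    by_cases hlr : l = r
    · exact hw (by rw [← hw1, hlr, ← heq, pow_orderOf_eq_one])
    · obtain ⟨v, hv1, -⟩ := hstep r
      have h1 : f ^ r ∈ W := by
        have : f ^ r = (v : G)⁻¹ * y ^ r := by rw [hv1, inv_mul_cancel_left]
        rw [this, ← heq, pow_orderOf_eq_one, mul_one]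
        exact inv_mem v.2
      have h2 : orderOf (f ^ r) ∣ r := orderOf_dvd_of_pow_eq_one (h.pow_r hW h1)
      rw [Nat.Coprime.orderOf_pow (by rw [hf]; exact (Nat.coprime_primes hl h.prime).mpr hlr), hf]
        at h2
      exact hlr ((Nat.prime_dvd_prime_iff_eq hl h.prime).mp h2)

end Cfsg.Agent.TwoR73
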