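import Cfsg.Agent.TwoR73.Module
import Cfsg.Agent.SFT45.Final
import Cfsg.Prelude.Def_Balance

/-!
# The odd cores of the centralisers of involutions
-/

set_option autoImplicit false
set_option linter.style.haveILetI false
set_option linter.unusedSectionVars false

open Subgroup

namespace Cfsg.Agent.TwoR73

universe u

variable {G : Type u} [Group G] [Finite G] {r : ℕ}

/-- The largest odd order subgroup of `C(a)` normalised by `T`. -/
def theta (T : Subgroup G) (a : G) : Subgroup G :=
  sSup {U : Subgroup G | U ≤ centralizer ({a} : Set G) ∧ Odd (Nat.card U) ∧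
    T ≤ normalizer (U : Set G)}

theorem le_theta {T U : Subgroup G} {a : G} (h1 : U ≤ centralizer ({a} : Set G))
    (h2 : Odd (Nat.card U)) (h3 : T ≤ normalizer (U : Set G)) : U ≤ theta T a :=
  le_sSup ⟨h1, h2, h3⟩

/-- The conjugate of a centraliser. -/
theorem conj_mem_centralizer {g a x : G} (hx : x ∈ centralizer ({a} : Set G)) :
    g * x * g⁻¹ ∈ centralizer ({g * a * g⁻¹} : Set G) :=
  mem_centralizer_singleton_iff.mpr ((Commute.conj_iff g).mpr (mem_centralizer_singleton_iff.mp hx))

namespace Hyp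

variable (h : Hyp G r)

/-- Facts about the Sylow two-subgroup. -/
structure Sys (T : Subgroup G) : Prop where
  hyp : Hyp G r
  sylow : ∃ S : Sylow 2 G, (S : Subgroup G) = T
  four : 4 ≤ Nat.card T
  exists_fusion : ∃ n ∈ normalizer (T : Set G), n ∉ centralizer (T : Set G)

variable {T : Subgroup G}

namespace Sys

variable (K : Sys (r := r) T)
include K

theorem sq {x : G} (hx : x ∈ T) : x * x = 1 := by
  obtain ⟨S, hS⟩ := K.sylow
  exact K.hyp.two_group_sq (hS ▸ S.2) hx

theorem sqT : ∀ x ∈ T, x * x = 1 := fun _ => K.sq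

theorem comm {x y : G} (hx : x ∈ T) (hy : y ∈ T) : Commute x y := comm_of_sq K.sqT hx hy

theorem le_centralizer {a : G} (ha : a ∈ T) : T ≤ centralizer ({a} : Set G) := fun _ hx =>
  mem_centralizer_singleton_iff.mpr (K.comm hx ha).eq

theorem order_two {a : G} (ha : a ∈ T) (ha1 : a ≠ 1) : orderOf a = 2 := orderOf_two (K.sq ha) ha1

theorem maximal {P : Subgroup G} (hP : IsPGroup 2 P) (hTP : T ≤ P) : P = T := by
  obtain ⟨S, rfl⟩ := K.sylow
  exact S.3 hP hTP

theorem exists_conj_mem {a : G} (ha : orderOf a = 2) : ∃ g : G, g * a * g⁻¹ ∈ T := by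
  haveI := Fact.mk Nat.prime_two
  obtain ⟨S, rfl⟩ := K.sylow
  obtain ⟨S', hS'⟩ := (IsPGroup.of_card (n := 1) (by rw [Nat.card_zpowers, ha, pow_one]) :
    IsPGroup 2 (zpowers a)).exists_le_sylow
  obtain ⟨g, hg⟩ := MulAction.exists_smul_eq G S' S
  refine ⟨g, hg ▸ ?_⟩
  rw [Sylow.coe_subgroup_smul]
  exact ⟨a, hS' (mem_zpowers a), rfl⟩

theorem mem_of_commute {x : G} (hx : x * x = 1) (hc : ∀ t ∈ T, Commute x t) : x ∈ T := by
  have hsq : ∀ y ∈ T ⊔ zpowers x, y * y = 1 := by
    intro y hy
    have hn : zpowers x ≤ normalizer (T : Set G) := by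
      rw [zpowers_le]
      exact centralizer_le_normalizer _ (mem_centralizer_iff.mpr fun t ht => (hc t ht).eq.symm)
    rw [← SetLike.mem_coe, Subgroup.coe_mul_of_right_le_normalizer_left T (zpowers x) hn] at hy
    obtain ⟨t, ht, z, hz, rfl⟩ := hy
    obtain ⟨i, rfl⟩ := mem_zpowers_iff.mp hz
    have hxi : x ^ i * x ^ i = 1 := by rw [← (Commute.refl x).mul_zpow, hx, one_zpow]
    have hc' : Commute (x ^ i) t := (hc t ht).zpow_left i
    calc t * x ^ i * (t * x ^ i) = t * (x ^ i * t) * x ^ i := by group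
      _ = (t * t) * (x ^ i * x ^ i) := by rw [hc'.eq]; group
      _ = 1 := by rw [K.sq ht, hxi, one_mul]
  have := K.maximal (isPGroup_of_sq hsq) le_sup_left
  exact this ▸ mem_sup_right (mem_zpowers x)

theorem exists_core_theta {a : G} (ha : a ∈ T) (ha1 : a ≠ 1) :
    theta T a ≤ centralizer ({a} : Set G) ∧ Odd (Nat.card (theta T a)) ∧
      centralizer ({a} : Set G) ≤ normalizer (theta T a : Set G) ∧
      ∀ x ∈ centralizer ({a} : Set G), ∀ t ∈ T, x * t * x⁻¹ ∈ T ⊔ theta T a := by
  obtain ⟨O, h1, h2, h3, h4, h5⟩ := exists_core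
    (K.hyp.solvable_centralizer_inv (K.order_two ha ha1)) (K.le_centralizer ha) K.sqT
    fun P hP hTP _ => K.maximal hP hTP
  have he : theta T a = O := le_antisymm (sSup_le fun U hU => h5 U hU.1 hU.2.1 hU.2.2)
    (le_theta h1 h2 ((K.le_centralizer ha).trans h3))
  rw [he]
  exact ⟨h1, h2, h3, h4⟩

theorem theta_le {a : G} (ha : a ∈ T) (ha1 : a ≠ 1) : theta T a ≤ centralizer ({a} : Set G) :=
  (K.exists_core_theta ha ha1).1

theorem theta_odd {a : G} (ha : a ∈ T) (ha1 : a ≠ 1) : Odd (Nat.card (theta T a)) :=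
  (K.exists_core_theta ha ha1).2.1

theorem centralizer_le_normalizer_theta {a : G} (ha : a ∈ T) (ha1 : a ≠ 1) :
    centralizer ({a} : Set G) ≤ normalizer (theta T a : Set G) := (K.exists_core_theta ha ha1).2.2.1

theorem le_normalizer_theta {a : G} (ha : a ∈ T) (ha1 : a ≠ 1) :
    T ≤ normalizer (theta T a : Set G) :=
  (K.le_centralizer ha).trans (K.centralizer_le_normalizer_theta ha ha1)

theorem theta_isPGroup {a : G} (ha : a ∈ T) (ha1 : a ≠ 1) : IsPGroup r (theta T a) :=
  K.hyp.isPGroup_of_invariant K.sqT K.four (K.le_normalizer_theta ha ha1) (K.theta_odd ha ha1)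

/-- `C(a) = θ(a) N_{C(a)}(T)`. -/
theorem exists_mul_normalizer {a x : G} (ha : a ∈ T) (ha1 : a ≠ 1)
    (hx : x ∈ centralizer ({a} : Set G)) :
    ∃ k ∈ theta T a, k * x ∈ normalizer (T : Set G) := by
  obtain ⟨-, hodd, hn, hconj⟩ := K.exists_core_theta ha ha1
  set A := T.map (MulAut.conj x).toMonoidHom with hA
  have hAC : A ≤ centralizer ({a} : Set G) := by
    rintro _ ⟨t, ht, rfl⟩
    exact mul_mem (mul_mem hx (K.le_centralizer ha ht)) (inv_mem hx)
  have hle : A ≤ theta T a ⊔ T := by
    rintro _ ⟨t, ht, rfl⟩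
    rw [sup_comm]
    exact hconj x hx t ht
  have hcard : Nat.card A = Nat.card T := card_map_of_injective (MulAut.conj x).injective
  obtain ⟨k, hk, hkA⟩ := Coprime.exists_conj_le_of_le_sup A (theta T a) T (hAC.trans hn)
    (K.le_normalizer_theta ha ha1) (hcard ▸ coprime_of_sq K.sqT hodd)
    (Or.inr (Coprime.isSolvable_of_isNilpotent'
      (haveI := Fact.mk K.hyp.prime; (K.theta_isPGroup ha ha1).isNilpotent))) hle
  refine ⟨k, hk, Coprime.le_normalizer_of_conj_mem (A := zpowers (k * x)) ?_ (mem_zpowers _)⟩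
  intro g hg
  have hkx : ∀ t ∈ T, k * x * t * (k * x)⁻¹ ∈ T := fun t ht => by
    have := hkA _ ⟨t, ht, rfl⟩
    simpa [mul_assoc] using this
  have hmap : T.map (MulAut.conj (k * x)).toMonoidHom = T := by
    refine Subgroup.eq_of_le_of_card_ge ?_ (by rw [card_map_of_injective (MulAut.conj _).injective])
    rintro _ ⟨t, ht, rfl⟩
    exact hkx t ht
  have hmem : k * x ∈ normalizer (T : Set G) := by
    rw [mem_normalizer_iff]
    intro t
    refine ⟨hkx t, fun ht => ?_⟩
    rw [← hmap] at ht
    obtain ⟨t', ht', he⟩ := ht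
    have : t' = t := (MulAut.conj (k * x)).injective he
    rwa [← this]
  exact fun t ht => (mem_normalizer_iff.mp (zpowers_le.mpr hmem hg) t).mp ht

theorem conj_theta_le {n a : G} (hn : n ∈ normalizer (T : Set G)) (ha : a ∈ T) (ha1 : a ≠ 1) :
    (theta T a).map (MulAut.conj n).toMonoidHom ≤ theta T (n * a * n⁻¹) := by
  refine le_theta ?_ ?_ ?_
  · rintro _ ⟨x, hx, rfl⟩
    exact conj_mem_centralizer (K.theta_le ha ha1 hx)
  · rw [card_map_of_injective (MulAut.conj n).injective]; exact K.theta_odd ha ha1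
  · refine Coprime.le_normalizer_of_conj_mem ?_
    rintro t ht _ ⟨x, hx, rfl⟩
    have ht' : n⁻¹ * t * n ∈ T := by
      have := (mem_normalizer_iff.mp (inv_mem hn) t).mp ht
      rwa [inv_inv] at this
    refine ⟨(n⁻¹ * t * n) * x * (n⁻¹ * t * n)⁻¹,
      (mem_normalizer_iff.mp (K.le_normalizer_theta ha ha1 ht') x).mp hx, ?_⟩
    simp [mul_assoc]

theorem balance {a b : G} (ha : a ∈ T) (ha1 : a ≠ 1) (hb : b ∈ T) :
    theta T a ⊓ centralizer ({b} : Set G) ≤ theta T b :=
  le_theta inf_le_right ((K.theta_odd ha ha1).of_dvd_nat (card_dvd_of_le inf_le_left))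
    (Coprime.le_normalizer_inf (K.le_normalizer_theta ha ha1)
      ((K.le_centralizer hb).trans le_normalizer))

/-- An odd order element centralising `T` lies in every `θ(a)`. -/
theorem mem_theta_of_centralizing {a x : G} (ha : a ∈ T) (hx : x ∈ centralizer (T : Set G))
    (ho : Odd (orderOf x)) : x ∈ theta T a := by
  refine le_theta (U := zpowers x) ?_ (by rwa [Nat.card_zpowers]) ?_ (mem_zpowers x)
  · rw [zpowers_le, mem_centralizer_singleton_iff]
    exact (mem_centralizer_iff.mp hx a ha).symm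
  · intro t ht
    refine centralizer_le_normalizer _ (mem_centralizer_iff.mpr ?_)
    intro z hz
    obtain ⟨i, rfl⟩ := mem_zpowers_iff.mp hz
    exact (Commute.zpow_left (mem_centralizer_iff.mp hx t ht).symm i).eq

/-- Elements normalising `T` but not centralising it have odd powers doing the same. -/
theorem exists_odd_fusion :
    ∃ n ∈ normalizer (T : Set G), n ∉ centralizer (T : Set G) ∧ Odd (orderOf n) := by
  obtain ⟨n, hn, hnc⟩ := K.exists_fusion
  have hn1 : n ≠ 1 := fun e => hnc (e ▸ one_mem _)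
  have hev : ∀ {y : G}, y ∈ normalizer (T : Set G) → orderOf y = 2 → y ∈ T := by
    intro y hy hy2
    haveI := Fact.mk Nat.prime_two
    have hp : IsPGroup 2 (zpowers y) :=
      IsPGroup.of_card (n := 1) (by rw [Nat.card_zpowers, hy2, pow_one])
    have := K.maximal (hp.to_sup_of_normal_right' (isPGroup_of_sq K.sqT) (zpowers_le.mpr hy))
      le_sup_right
    exact this ▸ mem_sup_left (mem_zpowers y)
  have hTC : T ≤ centralizer (T : Set G) := fun t ht =>
    mem_centralizer_iff.mpr fun t' ht' => (K.comm ht' ht).eq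
  have hex : ∀ m : ℕ, Odd m → n ^ m ∈ T → ¬ n ^ 2 ∈ centralizer (T : Set G) := by
    rintro _ ⟨j, rfl⟩ hm h2
    refine hnc ?_
    have : n = n ^ (2 * j + 1) * ((n ^ 2) ^ j)⁻¹ := by rw [← pow_mul, pow_succ']; group
    rw [this]
    exact mul_mem (hTC hm) (inv_mem (pow_mem h2 j))
  rcases K.hyp.spec n hn1 with hp | h2
  · rcases hp.eq_two_or_odd' with h2 | ho
    · exact absurd (hTC (hev hn h2)) hnc
    · exact ⟨n, hn, hnc, ho⟩
  · refine ⟨n ^ 2, pow_mem hn 2, hex r K.hyp.r_odd (hev (pow_mem hn r) ?_), ?_⟩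
    · rw [orderOf_pow' n K.hyp.prime.ne_zero, h2, Nat.gcd_eq_right (dvd_mul_left r 2),
        Nat.mul_div_cancel _ K.hyp.prime.pos]
    · rw [orderOf_pow' n two_ne_zero, h2, Nat.gcd_eq_right (dvd_mul_right 2 r),
        Nat.mul_div_cancel_left _ two_pos]
      exact K.hyp.r_odd

/-- For a four group the fusion is by an element of order three without fixed points. -/
theorem exists_three (h4 : Nat.card T = 4) : ∃ d ∈ normalizer (T : Set G),
    orderOf d = 3 ∧ ∀ b ∈ T, d * b * d⁻¹ = b → b = 1 := by
  classical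
  obtain ⟨d, hd, hdc, ho⟩ := K.exists_odd_fusion
  cases nonempty_fintype T
  let σ : Equiv.Perm T := (T.normalizerMonoidHom ⟨d, hd⟩).toEquiv
  have hσv : ∀ t : T, ((σ t : T) : G) = d * t * d⁻¹ := fun t => rfl
  have hσ1 : σ 1 = 1 := Subtype.ext (by rw [hσv]; simp)
  have hσne : σ ≠ 1 := by
    intro e
    refine hdc (mem_centralizer_iff.mpr fun t ht => ?_)
    have := congrArg Subtype.val (Equiv.congr_fun e ⟨t, ht⟩)
    rw [hσv] at this
    simp only [Equiv.Perm.coe_one, id_eq] at this
    exact (mul_inv_eq_iff_eq_mul.mp this).symm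
  have hσo : Odd (orderOf σ) := by
    refine ho.of_dvd_nat ((orderOf_dvd_of_pow_eq_one ?_).trans (Subgroup.orderOf_mk d hd).dvd)
    ext t
    have hpow : ∀ m : ℕ, ((σ ^ m) t : G) = d ^ m * t * (d ^ m)⁻¹ := by
      intro m
      induction m with
      | zero => simp
      | succ m ih => rw [pow_succ', Equiv.Perm.mul_apply, hσv, ih, pow_succ']; group
    rw [hpow, Subgroup.orderOf_mk, pow_orderOf_eq_one]
    simp
  have hfix : ∀ b ∈ T, d * b * d⁻¹ = b → b = 1 := by
    intro b hb he
    by_contra hb1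
    have hb' : (⟨b, hb⟩ : T) ≠ 1 := fun e => hb1 (congrArg Subtype.val e)
    have hsup : σ.support ⊆ (Finset.univ : Finset T) \ {1, ⟨b, hb⟩} := fun t ht => by
      simp only [Finset.mem_sdiff, Finset.mem_univ, Finset.mem_insert, Finset.mem_singleton,
        true_and, not_or]
      rw [Equiv.Perm.mem_support] at ht
      exact ⟨fun e => ht (e ▸ hσ1), fun e => ht (e ▸ Subtype.ext ((hσv _).trans he))⟩
    have hc : σ.support.card ≤ 2 := by
      refine (Finset.card_le_card hsup).trans ?_
      rw [Finset.card_univ_sdiff, Finset.card_pair hb'.symm, ← Nat.card_eq_fintype_card, h4]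
    have hc2 : σ.support.card = 2 := le_antisymm hc (Equiv.Perm.two_le_card_support_of_ne_one hσne)
    rw [(Equiv.Perm.card_support_eq_two.mp hc2).orderOf] at hσo
    exact Nat.not_even_iff_odd.mpr hσo even_two
  refine ⟨d, hd, ?_, hfix⟩
  haveI := Fact.mk Nat.prime_three
  have hd1 : d ≠ 1 := fun e => hdc (e ▸ one_mem _)
  have hsup : σ.support = (Finset.univ : Finset T).erase 1 := by
    ext t
    rw [Equiv.Perm.mem_support, Finset.mem_erase]
    refine ⟨fun ht => ⟨fun e => ht (e ▸ hσ1), Finset.mem_univ t⟩, fun ht e => ?_⟩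
    exact ht.1 (Subtype.ext (hfix t t.2 ((hσv t).symm.trans (congrArg Subtype.val e))))
  have h3 : σ.IsThreeCycle := by
    rw [← card_support_eq_three_iff, hsup, Finset.card_erase_of_mem (Finset.mem_univ _),
      Finset.card_univ, ← Nat.card_eq_fintype_card, h4]
  by_contra hne
  have hp := K.hyp.orderOf_prime hd1 ho
  have hdvd : orderOf σ ∣ orderOf d := by
    refine orderOf_dvd_of_pow_eq_one ?_
    ext t
    have hpow : ∀ m : ℕ, ((σ ^ m) t : G) = d ^ m * t * (d ^ m)⁻¹ := by
      intro m
      induction m with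
      | zero => simp
      | succ m ih => rw [pow_succ', Equiv.Perm.mul_apply, hσv, ih, pow_succ']; group
    rw [hpow, pow_orderOf_eq_one]
    simp
  rw [h3.orderOf] at hdvd
  exact hne ((Nat.prime_dvd_prime_iff_eq Nat.prime_three hp).mp hdvd).symm

/-- An `r`-group containing every `θ(a)`, normalised by `T`. -/
def Contained (K : Sys (r := r) T) : Prop :=
  let _ := K
  ∃ W : Subgroup G, IsPGroup r W ∧ ∀ a ∈ T, a ≠ 1 → theta T a ≤ W

theorem contained_of_eight (h8 : 8 ≤ Nat.card T) : Contained K := by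
  have hθ : Cfsg.IsSolvableSignalizerFunctor 2 T (theta T) := by
    refine ⟨⟨fun a ha ha1 => K.theta_le ha ha1, fun a ha ha1 hd => ?_,
      fun a ha ha1 b hb x hx => (mem_normalizer_iff.mp (K.le_normalizer_theta ha ha1 hb) x).mp hx,
      fun a ha ha1 b hb _ => K.balance ha ha1 hb⟩, fun a ha ha1 => ?_⟩
    · exact Nat.not_even_iff_odd.mpr (K.theta_odd ha ha1) (even_iff_two_dvd.mpr hd)
    · haveI := Fact.mk K.hyp.prime
      exact Coprime.isSolvable_of_isNilpotent' (K.theta_isPGroup ha ha1).isNilpotent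
  obtain ⟨-, X, hinv, hodd, hfix⟩ := SFT45.isComplete_two (A := T)
    ⟨isMulCommutative_of_sq K.sqT, fun a ha => by rw [pow_two, K.sq ha]⟩ (by simpa using h8) hθ
  refine ⟨X, K.hyp.isPGroup_of_invariant K.sqT K.four (Coprime.le_normalizer_of_conj_mem hinv) ?_,
    fun a ha ha1 => (hfix a ha ha1).ge.trans inf_le_left⟩
  rw [← Nat.not_even_iff_odd, even_iff_two_dvd]
  exact hodd

/-- In the four group case either the cores lie in an `r`-group or `T` is self-centralising. -/
theorem contained_or_self (h4 : Nat.card T = 4) :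
    Contained K ∨ ∀ x ∈ centralizer (T : Set G), Odd (orderOf x) → x = 1 := by
  by_cases htriv : ∀ x ∈ centralizer (T : Set G), Odd (orderOf x) → x = 1
  · exact Or.inr htriv
  left
  push Not at htriv
  obtain ⟨x, hxC, hxo, hx1⟩ := htriv
  obtain ⟨a, ha1⟩ : ∃ a : T, a ≠ 1 := by
    haveI : Nontrivial T := (Finite.one_lt_card_iff_nontrivial).mp (by omega)
    exact exists_ne 1
  have ha1' : (a : G) ≠ 1 := fun e => ha1 (Subtype.ext e)
  set R := theta T a ⊓ centralizer (T : Set G) with hR
  have hRr : IsPGroup r R := (K.theta_isPGroup a.2 ha1').to_le inf_le_left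
  have hRodd : Odd (Nat.card R) := (K.theta_odd a.2 ha1').of_dvd_nat (card_dvd_of_le inf_le_left)
  have hxR : x ∈ R := ⟨K.mem_theta_of_centralizing a.2 hxC hxo, hxC⟩
  have hRmem : ∀ y ∈ centralizer (T : Set G), Odd (orderOf y) → y ∈ R := fun y hy hyo =>
    ⟨K.mem_theta_of_centralizing a.2 hy hyo, hy⟩
  obtain ⟨d, hd, hd3, hdfix⟩ := K.exists_three h4
  set H := normalizer (R : Set G) with hH
  have hTH : T ≤ H := Coprime.le_normalizer_inf (K.le_normalizer_theta a.2 ha1')
    ((le_normalizer (H := centralizer (T : Set G))).trans' fun t ht =>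
      mem_centralizer_iff.mpr fun t' ht' => (K.comm ht' ht).eq)
  have hdC : ∀ y ∈ centralizer (T : Set G), d * y * d⁻¹ ∈ centralizer (T : Set G) := by
    intro y hy
    refine mem_centralizer_iff.mpr fun t ht => ?_
    have ht' : d⁻¹ * t * d ∈ T := by
      have := (mem_normalizer_iff.mp (inv_mem hd) t).mp ht
      rwa [inv_inv] at this
    have hc := mem_centralizer_iff.mp hy _ ht'
    calc t * (d * y * d⁻¹) = d * ((d⁻¹ * t * d) * y) * d⁻¹ := by group
      _ = d * (y * (d⁻¹ * t * d)) * d⁻¹ := by rw [hc]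
      _ = _ := by group
  have hdH : d ∈ H := by
    have hle : R.map (MulAut.conj d).toMonoidHom ≤ R := by
      rintro _ ⟨y, hy, rfl⟩
      refine hRmem _ (hdC y hy.2) ?_
      show Odd (orderOf (MulAut.conj d y))
      rw [MulEquiv.orderOf_eq]
      exact odd_orderOf hRodd hy
    have heq := Subgroup.eq_of_le_of_card_ge hle
      (by rw [card_map_of_injective (MulAut.conj d).injective])
    rw [hH, mem_normalizer_iff]
    intro y
    refine ⟨fun hy => heq ▸ ⟨y, hy, rfl⟩, fun hy => ?_⟩
    rw [← heq] at hy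
    obtain ⟨y', hy', he⟩ := hy
    have : y' = y := (MulAut.conj d).injective he
    rwa [← this]
  -- `H` is solvable
  have hsolC : Group.IsSolvable (centralizer (R : Set G)) :=
    Coprime.solvable_of_le (centralizer_le (Set.singleton_subset_iff.mpr hxR))
      (K.hyp.solvable_centralizer_r (K.hyp.orderOf_r hRr hxR hx1))
  have hsolH : Group.IsSolvable H := by
    haveI := Fact.mk Nat.prime_two
    obtain ⟨S, hS⟩ := K.sylow
    have hTC : T ≤ centralizer (R : Set G) := fun t ht =>
      mem_centralizer_iff.mpr fun y hy => (mem_centralizer_iff.mp hy.2 t ht).symm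
    let C' : Subgroup H := (centralizer (R : Set G)).subgroupOf H
    haveI : C'.Normal := by
      constructor
      intro c hc g
      show (g : G) * c * (g : G)⁻¹ ∈ centralizer (R : Set G)
      refine mem_centralizer_iff.mpr fun y hy => ?_
      have hy' : (g : G)⁻¹ * y * g ∈ R := by
        have := (mem_normalizer_iff.mp (inv_mem g.2) y).mp hy
        rwa [inv_inv] at this
      have hc' := mem_centralizer_iff.mp (show (c : G) ∈ centralizer (R : Set G) from hc) _ hy'
      calc y * ((g : G) * c * (g : G)⁻¹) = g * (((g : G)⁻¹ * y * g) * c) * (g : G)⁻¹ := by group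
        _ = g * (c * ((g : G)⁻¹ * y * g)) * (g : G)⁻¹ := by rw [hc']
        _ = _ := by group
    haveI : Group.IsSolvable C' :=
      haveI := hsolC
      Group.isSolvable_of_isSolvable_injective
        (f := (H.subtype.comp C'.subtype).codRestrict (centralizer (R : Set G)) fun c => c.2)
        fun c c' e => Subtype.ext (Subtype.ext (congrArg
          (fun z : centralizer (R : Set G) => (z : G)) e))
    -- Frattini: the quotient is covered by the normaliser of `T`
    let P : Sylow 2 C' :=
      { toSubgroup := (T.subgroupOf H).subgroupOf C'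
        isPGroup' := ((isPGroup_of_sq K.sqT).comap_of_injective H.subtype
          H.subtype_injective).comap_of_injective C'.subtype C'.subtype_injective
        is_maximal' := by
          intro Q hQ hle
          have hTQ : T ≤ (Q.map C'.subtype).map H.subtype := fun t ht =>
            ⟨⟨t, hTH ht⟩, ⟨⟨⟨t, hTH ht⟩, hTC ht⟩, hle ht, rfl⟩, rfl⟩
          have he := K.maximal ((hQ.map _).map _) hTQ
          refine le_antisymm (fun q hq => ?_) hle
          show ((q : H) : G) ∈ T
          rw [← he]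
          exact ⟨q, ⟨q, hq, rfl⟩, rfl⟩ }
    have hsup : normalizer (((P : Subgroup C').map C'.subtype : Subgroup H) : Set H) ⊔ C' = ⊤ :=
      Sylow.normalizer_sup_eq_top P
    have hmapP : (P : Subgroup C').map C'.subtype = T.subgroupOf H := by
      show ((T.subgroupOf H).subgroupOf C').map C'.subtype = _
      rw [subgroupOf_map_subtype]
      exact inf_eq_left.mpr fun t ht => hTC ht
    rw [hmapP] at hsup
    set N := normalizer ((T.subgroupOf H : Subgroup H) : Set H)
    haveI hNs : Group.IsSolvable N := by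
      have hsolT : Group.IsSolvable (centralizer (T : Set G)) :=
        Coprime.solvable_of_le (centralizer_le (Set.singleton_subset_iff.mpr a.2))
          (K.hyp.solvable_centralizer_inv (K.order_two a.2 ha1'))
      let ψ : N →* MulAut (T.subgroupOf H) := (T.subgroupOf H).normalizerMonoidHom
      have hcardT : Nat.card (T.subgroupOf H) = 4 := by
        rw [Nat.card_congr (Subgroup.subgroupOfEquivOfLe hTH).toEquiv, h4]
      haveI hker : Group.IsSolvable ψ.ker :=
        haveI := hsolT
        Group.isSolvable_of_isSolvable_injective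
          (f := (H.subtype.comp (N.subtype.comp ψ.ker.subtype)).codRestrict
            (centralizer (T : Set G)) fun n => mem_centralizer_iff.mpr fun t ht => by
              have := congrArg (fun z : T.subgroupOf H => ((z : H) : G))
                (DFunLike.congr_fun (MonoidHom.mem_ker.mp n.2) ⟨⟨t, hTH ht⟩, ht⟩)
              simp [ψ] at this
              exact (mul_inv_eq_iff_eq_mul.mp this).symm)
          fun c c' e => Subtype.ext (Subtype.ext (Subtype.ext (congrArg
            (fun z : centralizer (T : Set G) => (z : G)) e)))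
      haveI : Group.IsSolvable ψ.range := by
        refine S3996.isSolvable_two ψ.range ((Finset.card_le_card (t := {2, 3}) ?_).trans
          Finset.card_le_two)
        intro q hq
        obtain ⟨hq, hqd, -⟩ := Nat.mem_primeFactors.mp hq
        have h1 := hqd.trans (card_subgroup_dvd_card ψ.range)
        have h24 : Nat.card (MulAut (T.subgroupOf H)) ∣ Nat.factorial 4 := by
          rw [← hcardT, ← Nat.card_perm]
          exact card_dvd_of_injective (MulAut.toPerm _) fun σ τ e =>
            MulEquiv.ext fun z => Equiv.congr_fun e z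
        have h2 : q ∣ 2 ^ 3 * 3 := by simpa [Nat.factorial] using h1.trans h24
        rcases hq.dvd_mul.mp h2 with h3 | h3
        · simp [(Nat.prime_dvd_prime_iff_eq hq Nat.prime_two).mp (hq.dvd_of_dvd_pow h3)]
        · simp [(Nat.prime_dvd_prime_iff_eq hq Nat.prime_three).mp h3]
      exact Group.isSolvable_of_ker_le_range ψ.ker.subtype ψ.rangeRestrict
        (by rw [MonoidHom.ker_rangeRestrict, Subgroup.range_subtype])
    haveI : Group.IsSolvable (H ⧸ C') := by
      refine Group.isSolvable_of_surjective (f := (QuotientGroup.mk' C').comp N.subtype) ?_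
      intro q
      obtain ⟨g, rfl⟩ := QuotientGroup.mk_surjective q
      have hg : g ∈ N ⊔ C' := hsup.ge (mem_top g)
      obtain ⟨n, hn, c, hc, rfl⟩ := mem_sup_of_normal_right.mp hg
      refine ⟨⟨n, hn⟩, ?_⟩
      show (QuotientGroup.mk' C') n = QuotientGroup.mk' C' (n * c)
      rw [map_mul, show QuotientGroup.mk' C' c = 1 from (QuotientGroup.eq_one_iff c).mpr hc, mul_one]
    exact Group.isSolvable_of_ker_le_range C'.subtype (QuotientGroup.mk' C')
      (by rw [QuotientGroup.ker_mk', Subgroup.range_subtype])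
  obtain ⟨O, hOH, hOo, hOn, -, hOmax⟩ := exists_core hsolH hTH K.sqT
    fun P hP hTP _ => K.maximal hP hTP
  have hdO : ∀ y ∈ O, d * y * d⁻¹ ∈ O := fun y hy => (mem_normalizer_iff.mp (hOn hdH) y).mp hy
  have hTO : T ≤ centralizer (O : Set G) :=
    K.hyp.centralize (K.hyp.isPGroup_of_invariant K.sqT K.four (hTH.trans hOn) hOo) K.sqT
      (hTH.trans hOn) Nat.prime_three (by norm_num) hd3 (hOn hdH)
      (fun b hb => (mem_normalizer_iff.mp hd b).mp hb) hdfix
  refine ⟨R, hRr, fun b hb hb1 => ?_⟩
  by_contra hnle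
  haveI := Fact.mk K.hyp.prime
  have hRb : R ≤ theta T b := fun y hy =>
    K.mem_theta_of_centralizing hb hy.2 (odd_orderOf hRodd hy)
  have hlt : R.subgroupOf (theta T b) < ⊤ := by
    rw [lt_top_iff_ne_top, Ne, subgroupOf_eq_top]
    exact hnle
  haveI : Group.IsNilpotent (theta T b) := (K.theta_isPGroup hb hb1).isNilpotent
  obtain ⟨y, hy, hyn⟩ := SetLike.exists_of_lt (Group.normalizerCondition_of_isNilpotent _ hlt)
  refine hyn ?_
  rw [mem_subgroupOf]
  have hyH : (y : G) ∈ H := by
    rw [hH, mem_normalizer_iff]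
    intro z
    refine ⟨fun hz => (mem_normalizer_iff.mp hy ⟨z, hRb hz⟩).mp hz, fun hz => ?_⟩
    have hz' : z ∈ theta T b := by
      have := mul_mem (mul_mem (inv_mem y.2) (hRb hz)) y.2
      simpa [mul_assoc] using this
    exact (mem_normalizer_iff.mp hy ⟨z, hz'⟩).mpr hz
  have hyO : (y : G) ∈ O := hOmax (H ⊓ theta T b) inf_le_left
    ((K.theta_odd hb hb1).of_dvd_nat (card_dvd_of_le inf_le_right))
    (Coprime.le_normalizer_inf (hTH.trans le_normalizer) (K.le_normalizer_theta hb hb1))
    ⟨hyH, y.2⟩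
  exact hRmem _ (mem_centralizer_iff.mpr fun t ht => (mem_centralizer_iff.mp (hTO ht) y hyO).symm)
    (odd_orderOf (K.theta_odd hb hb1) y.2)

end Sys

theorem exists_sys (h : Hyp G r) [IsSimpleGroup G] (hna : ¬ IsMulCommutative G)
    (hex : ∃ g : G, orderOf g = 2 * r) : ∃ T : Subgroup G, Sys (r := r) T := by
  classical
  haveI : Fact (Nat.Prime 2) := ⟨Nat.prime_two⟩
  obtain ⟨g, hg⟩ := hex
  have h2 : 2 ∣ Nat.card G := (Dvd.intro r hg.symm).trans (orderOf_dvd_natCard g)
  obtain ⟨S⟩ := (inferInstance : Nonempty (Sylow 2 G))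
  have hsq : ∀ x ∈ (S : Subgroup G), x * x = 1 := fun x hx => h.two_group_sq S.2 hx
  have hnc : ¬ normalizer ((S : Subgroup G) : Set G) ≤ centralizer ((S : Subgroup G) : Set G) := by
    intro hle
    have hc := MonoidHom.ker_transferSylow_isComplement' S hle
    set N := (MonoidHom.transferSylow S hle).ker
    rcases (inferInstance : N.Normal).eq_bot_or_eq_top with hN | hN
    · have hS : (S : Subgroup G) = ⊤ := by
        rw [hN] at hc
        exact isComplement'_bot_left.mp hc
      exact hna ⟨⟨fun x y => (comm_of_sq hsq (hS.ge (mem_top x)) (hS.ge (mem_top y))).eq⟩⟩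
    · rw [hN] at hc
      exact S.ne_bot_of_dvd_card h2 (isComplement'_top_left.mp hc)
  refine ⟨S, h, ⟨S, rfl⟩, ?_, ?_⟩
  · by_contra hlt
    refine hnc fun n hn => mem_centralizer_iff.mpr fun t ht => ?_
    obtain ⟨k, hk⟩ := IsPGroup.iff_card.mp S.2
    have hk2 : 2 ∣ Nat.card (S : Subgroup G) := S.dvd_card_of_dvd_card h2
    have hc2 : Nat.card (S : Subgroup G) = 2 := by
      rcases k with _ | _ | k
      · rw [hk] at hk2; norm_num at hk2
      · exact hk
      · rw [hk] at hlt
        exact absurd (by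
          calc 4 = 2 ^ 2 := by norm_num
            _ ≤ 2 ^ (k + 2) := Nat.pow_le_pow_right (by norm_num) (by omega)) hlt
    by_cases ht1 : t = 1
    · simp [ht1]
    · have hnt := (mem_normalizer_iff.mp hn t).mp ht
      by_contra hne
      have ht' : n * t * n⁻¹ ≠ t := fun e => hne ((mul_inv_eq_iff_eq_mul.mp e).symm)
      have hn1 : n * t * n⁻¹ ≠ 1 := fun e => ht1 (conj_eq_one_iff.mp e)
      obtain ⟨p, q, hpq, huniv⟩ := Nat.card_eq_two_iff.mp hc2
      have hall : ∀ z : (S : Subgroup G), z = p ∨ z = q := fun z => by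
        have hz : z ∈ ({p, q} : Set _) := huniv ▸ Set.mem_univ z
        simpa using hz
      rcases hall ⟨t, ht⟩ with a1 | a1 <;> rcases hall ⟨_, hnt⟩ with a2 | a2 <;>
        rcases hall 1 with a3 | a3 <;>
        first
          | exact ht' (congrArg Subtype.val (a2.trans a1.symm))
          | exact ht1 (congrArg Subtype.val (a1.trans a3.symm))
          | exact hn1 (congrArg Subtype.val (a2.trans a3.symm))
  · by_contra hcon
    push Not at hcon
    exact hnc fun n hn => hcon n hn

end Hyp

end Cfsg.Agent.TwoR73
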