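import Cfsg.Agent.TwoR73.AutT

/-!
# The transfer to the automiser
-/

set_option autoImplicit false
set_option linter.style.haveILetI false
set_option linter.unusedSectionVars false

open Subgroup

namespace Cfsg.Agent.TwoR73.SE

universe u

variable {G : Type u} [Group G] [Finite G] {r : ℕ} {T W : Subgroup G}

theorem fix_only_base (E : SE r T W) (w : Tw r T) (g x : G) (hx : x ∈ W) (hx1 : x ≠ 1)
    (hgx : g⁻¹ * x * g ∈ normalizer (T : Set G)) : g ∈ normalizer (T : Set G) := by
  have hord : orderOf (g⁻¹ * x * g) = r := by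
    have := Involution.orderOf_conj g⁻¹ x
    rw [inv_inv] at this
    exact this.trans (E.hyp.orderOf_r E.W_r hx hx1)
  by_cases hC : g⁻¹ * x * g ∈ centralizer (T : Set G)
  · have hW := E.W_max _ hC (hord ▸ E.hyp.r_odd)
    have := E.W_conj (g := g⁻¹) hx hx1 (by rwa [inv_inv])
    exact inv_mem_iff.mp this
  · obtain ⟨-, a, ha, ha1, hfix⟩ := w.r_elt ⟨_, hgx⟩ hord hC
    refine E.mem_of_conj ha ha1 (E.cent_W hx hx1 (mem_centralizer_singleton_iff.mpr ?_))
    have h : Commute (g⁻¹ * x * g) a := mul_inv_eq_iff_eq_mul.mp ((hfix a ha).mpr (Or.inr rfl))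
    have h2 := (Commute.conj_iff g).mpr h
    rw [show g * (g⁻¹ * x * g) * g⁻¹ = x by group] at h2
    exact h2.symm.eq

/-- Conjugate `r`-elements of `M` have the same image. -/
theorem phi_conj (E : SE r T W) (w : Tw r T) {g : G} (y : ↥(normalizer (T : Set G)))
    (hy : orderOf (y : G) = r) (hyC : (y : G) ∉ centralizer (T : Set G))
    (hg : g⁻¹ * y * g ∈ normalizer (T : Set G)) : w.φ ⟨g⁻¹ * y * g, hg⟩ = w.φ y := by
  have hconjφ : ∀ m : ↥(normalizer (T : Set G)), w.φ (m * y * m⁻¹) = w.φ y := fun m => by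
    rw [map_mul, map_mul, mul_right_comm, ← map_mul, mul_inv_cancel, map_one, one_mul]
  have hord : orderOf (g⁻¹ * (y : G) * g) = r := by
    have := Involution.orderOf_conj g⁻¹ (y : G)
    rw [inv_inv] at this
    exact this.trans hy
  by_cases hgM : g ∈ normalizer (T : Set G)
  · rw [← hconjφ (⟨g, hgM⟩ : ↥(normalizer (T : Set G)))⁻¹]
    exact congrArg w.φ (Subtype.ext (by simp))
  by_cases hC : g⁻¹ * y * g ∈ centralizer (T : Set G)
  · exfalso
    have hW := E.W_max _ hC (hord ▸ E.hyp.r_odd)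
    refine hgM (inv_mem_iff.mp (E.fix_only_base w g⁻¹ _ hW (fun e => ?_) ?_))
    · rw [e, orderOf_one] at hord; exact E.hyp.prime.one_lt.ne hord
    · rw [inv_inv, show g * (g⁻¹ * y * g) * g⁻¹ = (y : G) by group]; exact y.2
  obtain ⟨-, a, ha, ha1, hafix⟩ := w.r_elt y hy hyC
  obtain ⟨-, b, hb, hb1, hbfix⟩ := w.r_elt ⟨_, hg⟩ hord hC
  have hca : Commute (y : G) a := mul_inv_eq_iff_eq_mul.mp ((hafix a ha).mpr (Or.inr rfl))
  set a' := g * b * g⁻¹ with ha'
  have hca' : Commute (y : G) a' := by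
    have h : Commute (g⁻¹ * (y : G) * g) b := mul_inv_eq_iff_eq_mul.mp ((hbfix b hb).mpr (Or.inr rfl))
    have h2 := (Commute.conj_iff g).mpr h
    rw [show g * (g⁻¹ * (y : G) * g) * g⁻¹ = (y : G) by group] at h2
    exact h2
  have hao := E.sys.order_two ha ha1
  have ha'o : orderOf a' = 2 :=
    (Involution.orderOf_conj g b).trans (E.sys.order_two hb hb1)
  have hodd : Odd (orderOf (a * a')) := by
    refine TwoFusionB.odd_orderOf_mul E.emb hao ha'o
      (x := (QuotientGroup.mk 1 : G ⧸ normalizer (T : Set G))) (y := QuotientGroup.mk g)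
      (TwoFusionB.smul_one_eq_iff.mpr (le_normalizer ha)) (TwoFusionB.smul_mk_eq_iff.mpr ?_) ?_
    · rw [ha', show g⁻¹ * (g * b * g⁻¹) * g = b by group]; exact le_normalizer hb
    · rw [Ne, QuotientGroup.eq, inv_one, one_mul]; exact hgM
  obtain ⟨j, hj⟩ := hodd
  set ρ := a * a' with hρ
  have haa : a * a = 1 := E.sys.sq ha
  have ha'a' : a' * a' = 1 := mul_self_two ha'o
  have hinv : a * ρ ^ j * a = (ρ ^ j)⁻¹ := by
    have h1 : a * ρ * a⁻¹ = ρ⁻¹ := by
      rw [hρ, inv_two haa, mul_inv_rev, inv_two haa, inv_two ha'a', ← mul_assoc a a a', haa, one_mul]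
    have h2 : a * ρ ^ j * a⁻¹ = (ρ ^ j)⁻¹ := by rw [← conj_pow, h1, inv_pow]
    rwa [inv_two haa] at h2
  set v := ρ ^ j * a with hv
  have hvv : v * v = 1 := by
    rw [hv, show ρ ^ j * a * (ρ ^ j * a) = ρ ^ j * (a * ρ ^ j * a) by group, hinv, mul_inv_cancel]
  have hva : v * a * v⁻¹ = a' := by
    rw [inv_two hvv, hv, show ρ ^ j * a * a * (ρ ^ j * a) = ρ ^ j * (a * a) * ρ ^ j * a by group,
      haa, mul_one, ← pow_add]
    have h2 : ρ ^ (j + j) = ρ⁻¹ := by
      apply eq_inv_of_mul_eq_one_left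
      rw [← pow_succ, show j + j + 1 = 2 * j + 1 by ring, ← hj, pow_orderOf_eq_one]
    rw [h2, hρ, mul_inv_rev, inv_two haa, inv_two ha'a', mul_assoc, haa, mul_one]
  have hvy : Commute v (y : G) := ((hca.mul_right hca').pow_right j).mul_right hca |>.symm
  have hm : g⁻¹ * v ∈ normalizer (T : Set G) := by
    refine E.mem_of_conj ha ha1 ?_
    rw [show g⁻¹ * v * a * (g⁻¹ * v)⁻¹ = g⁻¹ * (v * a * v⁻¹) * g by group, hva, ha',
      show g⁻¹ * (g * b * g⁻¹) * g = b by group]
    exact le_normalizer hb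
  rw [← hconjφ ⟨_, hm⟩]
  refine congrArg w.φ (Subtype.ext ?_)
  show g⁻¹ * (y : G) * g = g⁻¹ * v * (y : G) * (g⁻¹ * v)⁻¹
  rw [mul_assoc g⁻¹ v, hvy.eq, mul_inv_rev, inv_inv]
  group

theorem index_dvd [IsSimpleGroup G] (E : SE r T W) (hna : ¬ IsMulCommutative G) (w : Tw r T) :
    r ∣ (normalizer (T : Set G)).index := by
  classical
  haveI := Fact.mk E.hyp.prime
  haveI : Fact (Nat.Prime r) := ⟨E.hyp.prime⟩
  set M := normalizer (T : Set G) with hM
  obtain ⟨y, hy, hyC⟩ := w.exists_r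
  let V : G →* (ZMod w.s)ˣ := MonoidHom.transfer w.φ
  have hV : V (y : G) = 1 := by
    rcases (inferInstance : V.ker.Normal).eq_bot_or_eq_top with h | h
    · exact absurd ⟨⟨fun a b => (MonoidHom.ker_eq_bot_iff V).mp h
        (by rw [map_mul, map_mul, mul_comm])⟩⟩ hna
    · exact MonoidHom.mem_ker.mp (h ▸ mem_top _)
  cases nonempty_fintype (G ⧸ M)
  haveI : Fintype (Quotient (MulAction.orbitRel (zpowers (y : G)) (G ⧸ M))) := Fintype.ofFinite _
  have hformula : V (y : G) = _ := MonoidHom.transfer_eq_prod_quotient_orbitRel_zpowers_quot w.φ (y : G)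
  have hp : ∀ c : G ⧸ M, Function.minimalPeriod ((y : G) • ·) c = 1 ∨
      Function.minimalPeriod ((y : G) • ·) c = r := by
    intro c
    refine (Nat.dvd_prime E.hyp.prime).mp (Function.IsPeriodicPt.minimalPeriod_dvd ?_)
    show ((y : G) • ·)^[r] c = c
    rw [smul_iterate, ← hy, pow_orderOf_eq_one]
    exact one_smul G c
  have hphiy : orderOf (w.φ y) = r := orderOf_eq_prime (w.φ_pow y) (w.r_elt y hy hyC).1
  have hterm : ∀ q : Quotient (MulAction.orbitRel (zpowers (y : G)) (G ⧸ M)),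
      w.φ ⟨q.out.out⁻¹ * (y : G) ^ Function.minimalPeriod ((y : G) • ·) q.out * q.out.out,
        QuotientGroup.out_conj_pow_minimalPeriod_mem M (y : G) q.out⟩ =
      if Function.minimalPeriod ((y : G) • ·) q.out = 1 then w.φ y else 1 := by
    intro q
    split_ifs with h
    · have hmem := QuotientGroup.out_conj_pow_minimalPeriod_mem M (y : G) q.out
      have e : q.out.out⁻¹ * (y : G) ^ Function.minimalPeriod ((y : G) • ·) q.out * q.out.out =
          q.out.out⁻¹ * (y : G) * q.out.out := by rw [h, pow_one]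
      rw [e] at hmem
      rw [← E.phi_conj w y hy hyC hmem]
      exact congrArg w.φ (Subtype.ext e)
    · have hr' := (hp q.out).resolve_left h
      rw [← map_one w.φ]
      refine congrArg w.φ (Subtype.ext ?_)
      show q.out.out⁻¹ * (y : G) ^ Function.minimalPeriod ((y : G) • ·) q.out * q.out.out = 1
      rw [hr', ← hy, pow_orderOf_eq_one, mul_one, inv_mul_cancel]
  rw [hV, Finset.prod_congr rfl fun q _ => hterm q, Finset.prod_ite, Finset.prod_const,
    Finset.prod_const, one_pow, mul_one] at hformula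
  have hd := orderOf_dvd_of_pow_eq_one hformula.symm
  rw [hphiy] at hd
  rw [index_eq_sum_minimalPeriod M (y : G),
    ← Finset.sum_filter_add_sum_filter_not Finset.univ
      (fun q : Quotient (MulAction.orbitRel (zpowers (y : G)) (G ⧸ M)) =>
        Function.minimalPeriod ((y : G) • ·) q.out = 1)]
  refine Nat.dvd_add ?_ (Finset.dvd_sum fun q hq => ?_)
  · rw [Finset.sum_congr rfl fun q hq => (Finset.mem_filter.mp hq).2, Finset.sum_const, smul_eq_mul,
      mul_one]
    exact hd
  · rw [(hp q.out).resolve_left (Finset.mem_filter.mp hq).2]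

theorem W_eq_bot [IsSimpleGroup G] (E : SE r T W) (hna : ¬ IsMulCommutative G) (w : Tw r T) :
    W = ⊥ := by
  by_contra hW
  exact E.index_not_dvd hW (E.fix_only_base w) (E.index_dvd hna w)

end Cfsg.Agent.TwoR73.SE
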