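import Cfsg.Agent.TwoR73.Transfer

/-!
# The case of trivial `W`
-/

set_option autoImplicit false
set_option linter.style.haveILetI false
set_option linter.unusedSectionVars false

open Subgroup

namespace Cfsg.Agent.TwoR73.SE

universe u

variable {G : Type u} [Group G] [Finite G] {r : ℕ} {T : Subgroup G}

section

variable (E : SE r T (⊥ : Subgroup G)) (w : Tw r T)
include E

theorem centT {x : G} (hx : x ∈ centralizer (T : Set G)) : x ∈ T := by
  obtain ⟨t, ht, v, hv, rfl⟩ := E.cent_T hx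
  rw [mem_bot.mp hv, mul_one]
  exact ht

include w

theorem s_odd : Odd w.s :=
  w.s_prime.odd_of_ne_two fun e => by
    have := w.r_lt
    have := E.hyp.three_le
    omega

theorem sigma_pow_fpf {i : ℕ} (hi : (w.σ : G) ^ i ≠ 1) {t : G} (ht : t ∈ T)
    (hc : Commute ((w.σ : G) ^ i) t) : t = 1 := by
  by_contra ht1
  haveI := Fact.mk w.s_prime
  have ho : orderOf ((w.σ : G) ^ i) = w.s :=
    orderOf_eq_prime (by rw [← pow_mul, mul_comm, pow_mul, ← w.σ_ord, pow_orderOf_eq_one, one_pow]) hi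
  exact w.s_ne (ho.symm.trans (E.hyp.orderOf_r_of_commute (E.sys.order_two ht ht1) hc.symm hi
    (ho.symm ▸ E.s_odd w)))

/-- An element with trivial image is in `T` or conjugate to a power of `σ`. -/
theorem ker_cases (x : ↥(normalizer (T : Set G))) (hx : w.φ x = 1) :
    (x : G) ∈ T ∨ ∃ t ∈ T, ∃ i : ℕ, (w.σ : G) ^ i ≠ 1 ∧ (x : G) = t * (w.σ : G) ^ i * t⁻¹ := by
  classical
  obtain ⟨i, hi⟩ := w.ker x hx
  have hiT := E.centT hi
  by_cases h1 : (w.σ : G) ^ i = 1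
  · left
    rwa [h1, inv_one, one_mul] at hiT
  right
  have hn : (w.σ : G) ^ i ∈ normalizer (T : Set G) := pow_mem w.σ.2 i
  let F : T → T := fun t => ⟨((w.σ : G) ^ i)⁻¹ * (t : G) * (w.σ : G) ^ i * (t : G)⁻¹, by
    refine mul_mem ?_ (inv_mem t.2)
    have := (mem_normalizer_iff.mp (inv_mem hn) (t : G)).mp t.2
    rwa [inv_inv] at this⟩
  have hF : Function.Injective F := by
    intro t t' he
    have he' : ((w.σ : G) ^ i)⁻¹ * (t : G) * (w.σ : G) ^ i * (t : G)⁻¹ =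
        ((w.σ : G) ^ i)⁻¹ * (t' : G) * (w.σ : G) ^ i * (t' : G)⁻¹ := congrArg Subtype.val he
    refine Subtype.ext (inv_mul_eq_one.mp (E.sigma_pow_fpf w h1 (mul_mem (inv_mem t'.2) t.2) ?_)).symm
    rw [Commute, SemiconjBy]
    calc (w.σ : G) ^ i * ((t' : G)⁻¹ * t) = (t' : G)⁻¹ * (t' * (w.σ : G) ^ i * (t' : G)⁻¹) * t := by group
      _ = (t' : G)⁻¹ * ((w.σ : G) ^ i * (((w.σ : G) ^ i)⁻¹ * t' * (w.σ : G) ^ i * (t' : G)⁻¹)) * t := by
          group
      _ = (t' : G)⁻¹ * ((w.σ : G) ^ i * (((w.σ : G) ^ i)⁻¹ * t * (w.σ : G) ^ i * (t : G)⁻¹)) * t := by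
          rw [he']
      _ = _ := by group
  obtain ⟨t, ht⟩ := (Finite.injective_iff_surjective.mp hF) ⟨_, hiT⟩
  refine ⟨t, t.2, i, h1, ?_⟩
  have ht' : ((w.σ : G) ^ i)⁻¹ * (t : G) * (w.σ : G) ^ i * (t : G)⁻¹ =
      ((w.σ : G) ^ i)⁻¹ * (x : G) := congrArg Subtype.val ht
  calc (x : G) = (w.σ : G) ^ i * (((w.σ : G) ^ i)⁻¹ * (x : G)) := by group
    _ = (w.σ : G) ^ i * (((w.σ : G) ^ i)⁻¹ * (t : G) * (w.σ : G) ^ i * (t : G)⁻¹) := by rw [ht']
    _ = _ := by group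

theorem ker_ord (x : ↥(normalizer (T : Set G))) (hx : w.φ x = 1) (ho : Odd (orderOf (x : G)))
    (hx1 : (x : G) ≠ 1) : orderOf (x : G) = w.s := by
  rcases E.ker_cases w x hx with h | ⟨t, -, i, hi, he⟩
  · exact absurd (eq_one_of_odd_of_sq ho (E.sys.sq h)) hx1
  · haveI := Fact.mk w.s_prime
    rw [he, Involution.orderOf_conj]
    exact orderOf_eq_prime
      (by rw [← pow_mul, mul_comm, pow_mul, ← w.σ_ord, pow_orderOf_eq_one, one_pow]) hi

/-- In a two point stabiliser the kernel of `φ` is cyclic of prime order. -/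
theorem ker_stab2 {u : G} (hu : u ∉ normalizer (T : Set G)) (hu2 : u * u = 1)
    (d d' : ↥(normalizer (T : Set G))) (hd : u * d * u ∈ normalizer (T : Set G))
    (hd' : u * d' * u ∈ normalizer (T : Set G)) (hφ : w.φ d = 1) (hφ' : w.φ d' = 1)
    (h1 : (d' : G) ≠ 1) : ∃ j : ℕ, (d : G) = (d' : G) ^ j := by
  haveI := Fact.mk w.s_prime
  by_cases hd1 : (d : G) = 1
  · exact ⟨0, by rw [hd1, pow_zero]⟩
  obtain ⟨i, hi⟩ := w.ker d hφ
  obtain ⟨i', hi'⟩ := w.ker d' hφ'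
  have hiT := E.centT hi
  have hi'T := E.centT hi'
  have hn' : ¬ w.s ∣ i' := fun hdv => by
    obtain ⟨m, rfl⟩ := hdv
    rw [pow_mul, ← w.σ_ord, pow_orderOf_eq_one, one_pow, inv_one, one_mul] at hi'T
    exact h1 (eq_one_of_odd_of_sq (E.odd_of_swap hu hu2 d'.2 hd') (E.sys.sq hi'T))
  obtain ⟨m, -, hm⟩ := Nat.exists_mul_mod_eq_one_of_coprime (n := i') (k := w.s)
    ((w.s_prime.coprime_iff_not_dvd.mpr hn').symm) w.s_prime.one_lt
  refine ⟨m * i, ?_⟩
  set e := ((d' : G) ^ (m * i))⁻¹ * d with he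
  have heM : e ∈ normalizer (T : Set G) := mul_mem (inv_mem (pow_mem d'.2 _)) d.2
  have hpow : ∀ k : ℕ, ((w.σ : G) ^ (i' * k))⁻¹ * (d' : G) ^ k ∈ T := by
    intro k
    induction k with
    | zero => simp
    | succ k ih =>
      have hn : (w.σ : G) ^ i' ∈ normalizer (T : Set G) := pow_mem w.σ.2 i'
      rw [show ((w.σ : G) ^ (i' * (k + 1)))⁻¹ * (d' : G) ^ (k + 1) =
        (((w.σ : G) ^ i')⁻¹ * (((w.σ : G) ^ (i' * k))⁻¹ * (d' : G) ^ k) * (w.σ : G) ^ i') *
          (((w.σ : G) ^ i')⁻¹ * d') by rw [Nat.mul_succ, pow_add, pow_succ]; group]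
      refine mul_mem ?_ hi'T
      have := (mem_normalizer_iff.mp (inv_mem hn) _).mp ih
      rwa [inv_inv] at this
  have hsig : (w.σ : G) ^ (i' * (m * i)) = (w.σ : G) ^ i := by
    rw [← mul_assoc, pow_mul]
    congr 1
    rw [← Nat.div_add_mod (i' * m) w.s, hm, pow_add, pow_mul, ← w.σ_ord, pow_orderOf_eq_one,
      one_pow, one_mul, pow_one]
  have heT : e ∈ T := by
    have := mul_mem (inv_mem (hpow (m * i))) hiT
    rw [hsig] at this
    rw [he]
    convert this using 1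
    group
  have he1 : e = 1 := by
    refine eq_one_of_odd_of_sq (E.odd_of_swap hu hu2 heM ?_) (E.sys.sq heT)
    have h2 : u * (d' : G) ^ (m * i) * u ∈ normalizer (T : Set G) := by
      have := pow_mem hd' (m * i)
      rwa [show u * (d' : G) * u = u * d' * u⁻¹ by rw [inv_two hu2], conj_pow, inv_two hu2] at this
    rw [he, show u * (((d' : G) ^ (m * i))⁻¹ * d) * u =
      (u * (d' : G) ^ (m * i) * u)⁻¹ * (u * d * u) by
        rw [mul_inv_rev, mul_inv_rev, inv_two hu2]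
        simp only [mul_assoc]
        rw [← mul_assoc u u ((d : G) * u), hu2, one_mul]]
    exact mul_mem (inv_mem h2) hd
  exact (inv_mul_eq_one.mp he1).symm

/-- A swapping involution inverts the kernel of `φ` in the two point stabiliser. -/
theorem inverts {u : G} (hu : u ∉ normalizer (T : Set G)) (hu2 : u * u = 1)
    (d : ↥(normalizer (T : Set G))) (hd : u * d * u ∈ normalizer (T : Set G)) (hφ : w.φ d = 1) :
    u * d * u = (d : G)⁻¹ := by
  by_cases hd1 : (d : G) = 1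
  · rw [hd1, mul_one, hu2, inv_one]
  haveI := Fact.mk w.s_prime
  have hds := E.ker_ord w d hφ (E.odd_of_swap hu hu2 d.2 hd) hd1
  have hord : orderOf (u * (d : G) * u) = w.s := by
    conv_lhs => rw [show u * (d : G) * u = u * d * u⁻¹ by rw [inv_two hu2]]
    rw [Involution.orderOf_conj, hds]
  have hφ' : w.φ ⟨u * d * u, hd⟩ = 1 := by
    rw [← orderOf_eq_one_iff]
    have h1 : orderOf (w.φ ⟨u * d * u, hd⟩) ∣ w.s := by
      exact ((orderOf_map_dvd w.φ _).trans (Subgroup.orderOf_mk (u * (d : G) * u) hd).dvd).trans hord.dvd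
    exact Nat.eq_one_of_dvd_coprimes ((Nat.coprime_primes w.s_prime E.hyp.prime).mpr w.s_ne) h1
      (orderOf_dvd_of_pow_eq_one (w.φ_pow _))
  have hback : u * (u * (d : G) * u) * u = d := by
    rw [show u * (u * (d : G) * u) * u = (u * u) * d * (u * u) by group, hu2, one_mul, mul_one]
  obtain ⟨j, hj⟩ := E.ker_stab2 w hu hu2 ⟨_, hd⟩ d (by rw [hback]; exact d.2) hd hφ' hφ hd1
  replace hj : u * (d : G) * u = (d : G) ^ j := hj
  have h2 : (d : G) ^ (j * j) = d := by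
    rw [pow_mul, ← hj, show u * (d : G) * u = u * d * u⁻¹ by rw [inv_two hu2], conj_pow, ← hj,
      inv_two hu2, hback]
  have h3 : ((j * j : ℕ) : ZMod w.s) = ((1 : ℕ) : ZMod w.s) := by
    rw [ZMod.natCast_eq_natCast_iff, ← hds]
    exact pow_eq_pow_iff_modEq.mp (h2.trans (pow_one _).symm)
  push_cast at h3
  rcases mul_self_eq_one_iff.mp h3 with h4 | h4
  · exfalso
    have h5 : (d : G) ^ j = d := by
      refine (pow_eq_pow_iff_modEq.mpr ?_).trans (pow_one _)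
      rw [hds, ← ZMod.natCast_eq_natCast_iff, h4, Nat.cast_one]
    have hc : Commute u d := by
      rw [h5] at hj
      rw [Commute, SemiconjBy]
      calc u * (d : G) = u * d * u * u := by rw [mul_assoc (u * (d : G)), hu2, mul_one]
        _ = _ := by rw [hj]
    have hu1 : u ≠ 1 := fun e => hu (e ▸ one_mem _)
    exact w.s_ne (hds.symm.trans (E.hyp.orderOf_r_of_commute (orderOf_two hu2 hu1) hc hd1
      (hds ▸ E.s_odd w)))
  · rw [hj, eq_inv_iff_mul_eq_one, ← pow_succ]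
    refine orderOf_dvd_iff_pow_eq_one.mp ?_
    rw [hds, ← ZMod.natCast_eq_zero_iff]
    push_cast
    rw [h4, neg_add_cancel]

/-- Every swapping involution inverts a conjugate of `σ`. -/
theorem exists_inverted {u : G} (hu : u ∉ normalizer (T : Set G)) (hu2 : u * u = 1) :
    ∃ t ∈ T, u * (t * w.σ * t⁻¹) * u = (t * (w.σ : G) * t⁻¹)⁻¹ := by
  classical
  haveI := Fact.mk w.s_prime
  obtain ⟨d, hdu, hdφ, hd1⟩ : ∃ d : ↥(normalizer (T : Set G)),
      u * d * u ∈ normalizer (T : Set G) ∧ w.φ d = 1 ∧ (d : G) ≠ 1 := by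
    by_contra hcon
    push Not at hcon
    haveI : NeZero w.s := ⟨w.s_prime.ne_zero⟩
    let D := E.stab2 u
    let χ : D → {x : (ZMod w.s)ˣ // x ^ r = 1} := fun d =>
      ⟨w.φ ⟨d, ((E.mem_stab2 hu2).mp d.2).1⟩, w.φ_pow _⟩
    have hχ : Function.Injective χ := by
      intro d d' he
      have he' : w.φ ⟨d, ((E.mem_stab2 hu2).mp d.2).1⟩ = w.φ ⟨d', ((E.mem_stab2 hu2).mp d'.2).1⟩ :=
        congrArg Subtype.val he
      have := hcon ⟨((d : G))⁻¹ * d', mul_mem (inv_mem ((E.mem_stab2 hu2).mp d.2).1)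
        ((E.mem_stab2 hu2).mp d'.2).1⟩ ((E.mem_stab2 hu2).mp (mul_mem (inv_mem d.2) d'.2)).2 (by
        show w.φ ((⟨d, ((E.mem_stab2 hu2).mp d.2).1⟩ : ↥(normalizer (T : Set G)))⁻¹ *
          ⟨d', ((E.mem_stab2 hu2).mp d'.2).1⟩) = 1
        rw [map_mul, map_inv, inv_mul_eq_one]
        exact he')
      exact Subtype.ext (inv_mul_eq_one.mp this)
    have h1 := Nat.card_le_card_of_injective χ hχ
    have h2 : Nat.card {x : (ZMod w.s)ˣ // x ^ r = 1} ≤ r := by
      haveI : Fintype (ZMod w.s)ˣ := inferInstance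
      rw [Nat.card_eq_fintype_card, Fintype.card_subtype]
      exact IsCyclic.card_pow_eq_one_le E.hyp.prime.pos
    let f : {d : G // d ∈ normalizer (T : Set G) ∧ u * d * u = d⁻¹} → D := fun d =>
      ⟨d.1, (E.mem_stab2 hu2).mpr ⟨d.2.1, d.2.2.symm ▸ inv_mem d.2.1⟩⟩
    have h3 := Nat.card_le_card_of_injective f
      (fun a b e => Subtype.ext (congrArg (fun z : D => (z : G)) e))
    have h4 := E.card_inverted hu hu2
    rw [w.card_T, Nat.add_sub_cancel] at h4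
    have := w.r_lt
    omega
  have hodd := E.odd_of_swap hu hu2 d.2 hdu
  rcases E.ker_cases w d hdφ with h | ⟨t, ht, i, hi, he⟩
  · exact absurd (eq_one_of_odd_of_sq hodd (E.sys.sq h)) hd1
  refine ⟨t, ht, ?_⟩
  have hinv := E.inverts w hu hu2 d hdu hdφ
  have hni : ¬ w.s ∣ i := fun hdv => hi (orderOf_dvd_iff_pow_eq_one.mp (w.σ_ord.symm ▸ hdv))
  obtain ⟨m, -, hm⟩ := Nat.exists_mul_mod_eq_one_of_coprime (n := i) (k := w.s)
    ((w.s_prime.coprime_iff_not_dvd.mpr hni).symm) w.s_prime.one_lt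
  have hpow : (d : G) ^ m = t * w.σ * t⁻¹ := by
    rw [he, conj_pow, ← pow_mul, ← Nat.div_add_mod (i * m) w.s, hm, pow_add, pow_mul, ← w.σ_ord,
      pow_orderOf_eq_one, one_pow, one_mul, pow_one]
  rw [← hpow, show u * (d : G) ^ m * u = u * d ^ m * u⁻¹ by rw [inv_two hu2], ← conj_pow,
    inv_two hu2, hinv, inv_pow]

theorem mem_ker_sigma {x : G} (hx : x ∈ normalizer (T : Set G)) (hc : Commute x (w.σ : G)) :
    ∃ i : ℕ, x = (w.σ : G) ^ i := by
  have hφ : w.φ ⟨x, hx⟩ = 1 := by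
    rw [← map_one w.φ]
    refine w.φ_eq _ _ ?_
    simp [hc.eq]
  obtain ⟨i, hi⟩ := w.ker _ hφ
  refine ⟨i, ?_⟩
  have h1 : Commute (((w.σ : G) ^ i)⁻¹ * x) w.σ :=
    ((Commute.refl (w.σ : G)).pow_left i).inv_left.mul_left hc
  have hσ1 : (w.σ : G) ^ 1 ≠ 1 := by
    rw [pow_one]
    exact fun e => w.s_prime.one_lt.ne (by rw [← w.σ_ord, e, orderOf_one])
  have := E.sigma_pow_fpf w hσ1 (E.centT hi) (by rw [pow_one]; exact h1.symm)
  exact (inv_mul_eq_one.mp this).symm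

end

end Cfsg.Agent.TwoR73.SE
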