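import Cfsg.Agent.TwoR73.Twisted

/-!
# The case of trivial `W`: the numbers
-/

set_option autoImplicit false
set_option linter.style.haveILetI false
set_option linter.unusedSectionVars false

open Subgroup

namespace Cfsg.Agent.TwoR73.SE

universe u

theorem mem_normalizer_zpowers {G : Type*} [Group G] [Finite G] {x g : G}
    (h : g * x * g⁻¹ ∈ zpowers x) : g ∈ normalizer (zpowers x : Set G) := by
  have hmap : (zpowers x).map (MulAut.conj g).toMonoidHom = zpowers x := by
    refine Subgroup.eq_of_le_of_card_ge ?_ ?_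
    · rw [MonoidHom.map_zpowers]
      exact zpowers_le.2 h
    · rw [Subgroup.card_map_of_injective (MulAut.conj g).injective]
  rw [Subgroup.mem_normalizer_iff]
  intro y
  constructor
  · intro hy
    rw [← hmap]
    exact ⟨y, hy, rfl⟩
  · intro hy
    rw [← hmap] at hy
    obtain ⟨y', hy', he⟩ := hy
    have : y' = y := (MulAut.conj g).injective he
    rwa [← this]

variable {G : Type u} [Group G] [Finite G] {r : ℕ} {T : Subgroup G}
variable (E : SE r T (⊥ : Subgroup G)) (w : Tw r T)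
include E w

theorem sigma_ne : (w.σ : G) ≠ 1 := fun e =>
  w.s_prime.one_lt.ne (by rw [← w.σ_ord, e, orderOf_one])

theorem conj_sigma_comm {t : G} (ht : t ∈ T) (h : Commute (w.σ : G) t) : t = 1 :=
  E.sigma_pow_fpf w (i := 1) (by rw [pow_one]; exact E.sigma_ne w) ht (by rwa [pow_one])

theorem exists_mem_H_of_ne :
    ∃ x : ↥(normalizer (T : Set G)), (x : G) ∈ normalizer (zpowers (w.σ : G) : Set G) ∧
      w.φ x ≠ 1 := by
  obtain ⟨y, hy, hyC⟩ := w.exists_r
  obtain ⟨hφy, -⟩ := w.r_elt y hy hyC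
  have hconj : w.φ (y * w.σ * y⁻¹) = 1 := by
    rw [map_mul, map_mul, w.φ_σ, mul_one, ← map_mul, mul_inv_cancel, map_one]
  rcases E.ker_cases w (y * w.σ * y⁻¹) hconj with h | ⟨t, ht, i, -, he⟩
  · refine absurd (eq_one_of_odd_of_sq ?_ (E.sys.sq h)) fun e => E.sigma_ne w (conj_eq_one_iff.mp e)
    show Odd (orderOf ((y : G) * w.σ * (y : G)⁻¹))
    rw [Involution.orderOf_conj, w.σ_ord]
    exact E.s_odd w
  replace he : (y : G) * w.σ * (y : G)⁻¹ = t * (w.σ : G) ^ i * t⁻¹ := he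
  have htM : t⁻¹ ∈ normalizer (T : Set G) := inv_mem (le_normalizer ht)
  refine ⟨⟨t⁻¹, htM⟩ * y, mem_normalizer_zpowers ?_, ?_⟩
  · refine ⟨(i : ℤ), ?_⟩
    show (w.σ : G) ^ (i : ℤ) = t⁻¹ * y * w.σ * (t⁻¹ * y)⁻¹
    rw [zpow_natCast, mul_inv_rev, inv_inv,
      show t⁻¹ * (y : G) * w.σ * ((y : G)⁻¹ * t) = t⁻¹ * (y * w.σ * (y : G)⁻¹) * t by group, he]
    group
  · rw [map_mul, w.φ_cent ⟨t⁻¹, htM⟩ (inv_mem (E.T_cent ht)), one_mul]
    exact hφy

theorem zpow_sigma_mem_ker {z : G} (hz : z ∈ zpowers (w.σ : G)) :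
    ∃ h : z ∈ normalizer (T : Set G), w.φ ⟨z, h⟩ = 1 := by
  obtain ⟨i, rfl⟩ := mem_zpowers_iff.mp hz
  refine ⟨zpow_mem w.σ.2 i, ?_⟩
  rw [show (⟨(w.σ : G) ^ i, zpow_mem w.σ.2 i⟩ : ↥(normalizer (T : Set G))) = w.σ ^ i from
    Subtype.ext (by simp), map_zpow, w.φ_σ, one_zpow]

theorem centralizer_zpowers_sigma :
    centralizer (zpowers (w.σ : G) : Set G) = centralizer ({(w.σ : G)} : Set G) := by
  refine le_antisymm (centralizer_le (Set.singleton_subset_iff.mpr (mem_zpowers _))) fun x hx => ?_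
  refine mem_centralizer_iff.mpr fun z hz => ?_
  obtain ⟨i, rfl⟩ := mem_zpowers_iff.mp hz
  exact (Commute.zpow_left (mem_centralizer_singleton_iff.mp hx).symm i).eq

/-- The centralizer of an element of order `s` is an `s`-group. -/
theorem isPGroup_cent {z : G} (hz : orderOf z = w.s) :
    IsPGroup w.s (centralizer ({z} : Set G)) := by
  refine IsPGroup.of_card (n := (Nat.card (centralizer ({z} : Set G))).primeFactorsList.length)
    (Nat.eq_prime_pow_of_unique_prime_dvd Nat.card_pos.ne' fun {q} hq hqd => ?_)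
  haveI := Fact.mk hq
  obtain ⟨⟨y, hyC⟩, hy⟩ := exists_prime_orderOf_dvd_card' q hqd
  rw [Subgroup.orderOf_mk] at hy
  by_contra hne
  have hc : Commute z y := (mem_centralizer_singleton_iff.mp hyC).symm
  have hm := hc.orderOf_mul_eq_mul_orderOf_of_coprime (by
    rw [hz, hy]; exact (Nat.coprime_primes w.s_prime hq).mpr (Ne.symm hne))
  rw [hz, hy] at hm
  rcases E.hyp.spec (z * y) (fun e => by
    rw [e, orderOf_one] at hm
    exact hq.ne_one (Nat.eq_one_of_mul_eq_one_left hm.symm)) with h | h <;> rw [hm] at h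
  · exact absurd h (Nat.not_prime_mul w.s_prime.ne_one hq.ne_one)
  · have h2 : w.s ∣ 2 * r := Dvd.intro q h
    rcases w.s_prime.dvd_mul.mp h2 with h3 | h3
    · have := (Nat.prime_dvd_prime_iff_eq w.s_prime Nat.prime_two).mp h3
      have := w.r_lt
      have := E.hyp.three_le
      omega
    · exact w.s_ne ((Nat.prime_dvd_prime_iff_eq w.s_prime E.hyp.prime).mp h3)

theorem card_HM :
    Nat.card ↥(normalizer (zpowers (w.σ : G) : Set G) ⊓ normalizer (T : Set G)) = w.s * r := by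
  classical
  haveI : NeZero w.s := ⟨w.s_prime.ne_zero⟩
  haveI := Fact.mk w.s_prime
  haveI := Fact.mk E.hyp.prime
  set K := normalizer (zpowers (w.σ : G) : Set G) ⊓ normalizer (T : Set G)
  let φK : K →* (ZMod w.s)ˣ := w.φ.comp (Subgroup.inclusion inf_le_right)
  have hker : φK.ker = (zpowers (w.σ : G)).subgroupOf K := by
    refine le_antisymm (fun x hx => ?_) (fun x hx => ?_)
    · rw [mem_subgroupOf]
      have hxM : (x : G) ∈ normalizer (T : Set G) := x.2.2
      have hφ : w.φ ⟨x, hxM⟩ = 1 := MonoidHom.mem_ker.mp hx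
      obtain ⟨i, hi⟩ := w.ker _ hφ
      set t := ((w.σ : G) ^ i)⁻¹ * (x : G) with ht
      have htT : t ∈ T := E.centT hi
      have htH : t ∈ normalizer (zpowers (w.σ : G) : Set G) :=
        mul_mem (inv_mem (pow_mem (le_normalizer (mem_zpowers _)) i)) x.2.1
      -- `t` normalises `⟨σ⟩`, so it centralises `σ`
      have hc : (t * w.σ * t⁻¹) * (w.σ : G)⁻¹ = 1 := by
        have h1 : (t * w.σ * t⁻¹) * (w.σ : G)⁻¹ ∈ zpowers (w.σ : G) :=
          mul_mem ((mem_normalizer_iff.mp htH _).mp (mem_zpowers _)) (inv_mem (mem_zpowers _))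
        have h2 : (t * w.σ * t⁻¹) * (w.σ : G)⁻¹ ∈ T := by
          rw [show t * w.σ * t⁻¹ * (w.σ : G)⁻¹ = t * ((w.σ : G) * t⁻¹ * (w.σ : G)⁻¹) by group]
          exact mul_mem htT ((mem_normalizer_iff.mp w.σ.2 _).mp (inv_mem htT))
        refine eq_one_of_odd_of_sq ?_ (E.sys.sq h2)
        have h3 : orderOf ((t * w.σ * t⁻¹) * (w.σ : G)⁻¹) ∣ orderOf (w.σ : G) :=
          orderOf_dvd_of_mem_zpowers h1
        exact (w.σ_ord.symm ▸ E.s_odd w).of_dvd_nat h3
      rw [mul_inv_eq_one, mul_inv_eq_iff_eq_mul] at hc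
      have ht1 := E.conj_sigma_comm w htT hc.symm
      rw [ht, inv_mul_eq_one] at ht1
      exact ht1 ▸ pow_mem (mem_zpowers _) i
    · obtain ⟨h, h1⟩ := E.zpow_sigma_mem_ker w (mem_subgroupOf.mp hx)
      exact MonoidHom.mem_ker.mpr h1
  have hrange : Nat.card φK.range = r := by
    obtain ⟨x, hxH, hx⟩ := E.exists_mem_H_of_ne w
    have hmem : w.φ x ∈ φK.range := ⟨⟨x, hxH, x.2⟩, rfl⟩
    refine le_antisymm ?_ ?_
    · let f : φK.range → {z : (ZMod w.s)ˣ // z ^ r = 1} := fun z => ⟨z, by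
        obtain ⟨y, hy⟩ := z.2
        rw [← hy]
        exact w.φ_pow _⟩
      refine (Nat.card_le_card_of_injective f
        (fun a b e => Subtype.ext (congrArg (fun z : {z : (ZMod w.s)ˣ // z ^ r = 1} => z.1) e))).trans ?_
      rw [Nat.card_eq_fintype_card, Fintype.card_subtype]
      exact IsCyclic.card_pow_eq_one_le E.hyp.prime.pos
    · exact (orderOf_eq_prime (w.φ_pow x) hx).ge.trans
        (Nat.le_of_dvd Nat.card_pos (Subgroup.orderOf_dvd_natCard _ hmem))
  rw [← φK.ker.card_mul_index, Subgroup.index_ker, hrange, hker,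
    Nat.card_congr (subgroupOfEquivOfLe ?_).toEquiv, Nat.card_zpowers, w.σ_ord]
  exact le_inf le_normalizer ((zpowers_le.mpr w.σ.2))

theorem card_M : Nat.card ↥(normalizer (T : Set G)) = (w.s + 1) * w.s * r := by
  classical
  haveI : NeZero w.s := ⟨w.s_prime.ne_zero⟩
  haveI := Fact.mk w.s_prime
  haveI := Fact.mk E.hyp.prime
  have hrange : Nat.card w.φ.range = r := by
    obtain ⟨x, -, hx⟩ := E.exists_mem_H_of_ne w
    refine le_antisymm ?_ ?_
    · let f : w.φ.range → {z : (ZMod w.s)ˣ // z ^ r = 1} := fun z => ⟨z, by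
        obtain ⟨y, hy⟩ := z.2
        rw [← hy]
        exact w.φ_pow _⟩
      refine (Nat.card_le_card_of_injective f
        (fun a b e => Subtype.ext (congrArg (fun z : {z : (ZMod w.s)ˣ // z ^ r = 1} => z.1) e))).trans ?_
      rw [Nat.card_eq_fintype_card, Fintype.card_subtype]
      exact IsCyclic.card_pow_eq_one_le E.hyp.prime.pos
    · exact (orderOf_eq_prime (w.φ_pow x) hx).ge.trans
        (Nat.le_of_dvd Nat.card_pos (Subgroup.orderOf_dvd_natCard _ ⟨x, rfl⟩))
  have hker : Nat.card w.φ.ker = (w.s + 1) * w.s := by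
    let F : Fin w.s × T → w.φ.ker := fun p => ⟨w.σ ^ (p.1 : ℕ) * ⟨p.2, le_normalizer p.2.2⟩, by
      rw [MonoidHom.mem_ker, map_mul, map_pow, w.φ_σ, one_pow, one_mul,
        w.φ_cent ⟨p.2, le_normalizer p.2.2⟩ (E.T_cent p.2.2)]⟩
    have hF : Function.Bijective F := by
      constructor
      · rintro ⟨i, t⟩ ⟨j, t'⟩ he
        have he' : (w.σ : G) ^ (i : ℕ) * t = (w.σ : G) ^ (j : ℕ) * t' := by
          have := congrArg (fun z : w.φ.ker => ((z : ↥(normalizer (T : Set G))) : G)) he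
          simpa [F] using this
        have h1 : ((w.σ : G) ^ (j : ℕ))⁻¹ * (w.σ : G) ^ (i : ℕ) ∈ T := by
          have : ((w.σ : G) ^ (j : ℕ))⁻¹ * (w.σ : G) ^ (i : ℕ) = t' * (t : G)⁻¹ := by
            rw [eq_mul_inv_iff_mul_eq, mul_assoc, he']; group
          rw [this]; exact mul_mem t'.2 (inv_mem t.2)
        have h2 : ((w.σ : G) ^ (j : ℕ))⁻¹ * (w.σ : G) ^ (i : ℕ) = 1 := by
          refine eq_one_of_odd_of_sq ((w.σ_ord.symm ▸ E.s_odd w).of_dvd_nat
            (orderOf_dvd_of_mem_zpowers ?_)) (E.sys.sq h1)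
          exact mul_mem (inv_mem (pow_mem (mem_zpowers _) _)) (pow_mem (mem_zpowers _) _)
        have hij : (j : ℕ) = i := pow_injOn_Iio_orderOf (by simp [w.σ_ord]) (by simp [w.σ_ord])
          (inv_mul_eq_one.mp h2)
        have : i = j := Fin.ext hij.symm
        subst this
        exact Prod.ext rfl (Subtype.ext (mul_left_cancel he'))
      · rintro ⟨x, hx⟩
        obtain ⟨i, hi⟩ := w.ker x (MonoidHom.mem_ker.mp hx)
        refine ⟨(⟨i % w.s, Nat.mod_lt _ w.s_prime.pos⟩, ⟨_, E.centT hi⟩), ?_⟩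
        apply Subtype.ext
        apply Subtype.ext
        show (w.σ : G) ^ (i % w.s) * (((w.σ : G) ^ i)⁻¹ * x) = x
        rw [← w.σ_ord, pow_mod_orderOf, mul_inv_cancel_left]
    rw [← Nat.card_eq_of_bijective F hF, Nat.card_prod, Nat.card_fin, w.card_T, mul_comm]
  rw [← w.φ.ker.card_mul_index, Subgroup.index_ker, hrange, hker]

theorem card_H : Nat.card ↥(normalizer (zpowers (w.σ : G) : Set G)) =
    2 * r * Nat.card ↥(centralizer ({(w.σ : G)} : Set G)) := by
  classical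
  haveI := Fact.mk w.s_prime
  haveI := Fact.mk E.hyp.prime
  set H := normalizer (zpowers (w.σ : G) : Set G)
  let π : H →* MulAut (zpowers (w.σ : G)) := (zpowers (w.σ : G)).normalizerMonoidHom
  have hπ : ∀ (h : H) (z : zpowers (w.σ : G)), ((π h z : zpowers (w.σ : G)) : G) = h * z * (h : G)⁻¹ :=
    fun h z => rfl
  have hker : π.ker = (centralizer ({(w.σ : G)} : Set G)).subgroupOf H := by
    rw [← E.centralizer_zpowers_sigma w]
    exact normalizerMonoidHom_ker _
  have hcardS : Nat.card (zpowers (w.σ : G)) = w.s := by rw [Nat.card_zpowers, w.σ_ord]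
  haveI : Fact (Nat.Prime (Nat.card (zpowers (w.σ : G)))) := ⟨hcardS.symm ▸ w.s_prime⟩
  haveI : IsCyclic (MulAut (zpowers (w.σ : G))) :=
    isCyclic_of_injective (IsCyclic.mulAutMulEquiv (zpowers (w.σ : G))).toMonoidHom
      (IsCyclic.mulAutMulEquiv (zpowers (w.σ : G))).injective
  obtain ⟨g, hg⟩ := (inferInstance : IsCyclic π.range).exists_generator
  obtain ⟨h, hh⟩ := g.2
  have hgo : orderOf g = Nat.card π.range := orderOf_eq_card_of_forall_mem_zpowers hg
  have hdvd : Nat.card π.range ∣ orderOf (h : G) := by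
    rw [← hgo, ← Subgroup.orderOf_coe, ← hh, Subgroup.orderOf_coe]
    exact orderOf_map_dvd π h
  -- an inversion
  have h2 : 2 ∣ Nat.card π.range := by
    obtain ⟨z, hz⟩ := TwoFusionB.exists_ne_coset E.emb
      (QuotientGroup.mk 1 : G ⧸ normalizer (T : Set G))
    obtain ⟨u, hu2, hu, -⟩ := E.exists_rep hz.symm
    obtain ⟨t, ht, hinv⟩ := E.exists_inverted w hu hu2
    set v := t⁻¹ * u * t with hv
    have hv1 : v * (w.σ : G) * v⁻¹ = (w.σ : G)⁻¹ := by
      rw [hv, show (t⁻¹ * u * t)⁻¹ = t⁻¹ * u * t by rw [mul_inv_rev, mul_inv_rev, inv_inv, inv_two hu2]; group]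
      calc t⁻¹ * u * t * (w.σ : G) * (t⁻¹ * u * t) = t⁻¹ * (u * (t * w.σ * t⁻¹) * u) * t := by group
        _ = _ := by rw [hinv]; group
    have hvH : v ∈ H := mem_normalizer_zpowers (hv1 ▸ inv_mem (mem_zpowers _))
    have hne : π ⟨v, hvH⟩ ≠ 1 := fun e => by
      have := congrArg Subtype.val (DFunLike.congr_fun e ⟨_, mem_zpowers (w.σ : G)⟩)
      rw [hπ, hv1] at this
      refine E.sigma_ne w (eq_one_of_odd_of_sq (w.σ_ord.symm ▸ E.s_odd w) ?_)
      nth_rewrite 1 [← (show (w.σ : G)⁻¹ = w.σ from this)]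
      exact inv_mul_cancel _
    have hsq : π ⟨v, hvH⟩ ^ 2 = 1 := by
      rw [pow_two, ← map_mul, show (⟨v, hvH⟩ : H) * ⟨v, hvH⟩ = 1 from Subtype.ext (by
        show t⁻¹ * u * t * (t⁻¹ * u * t) = 1
        rw [show t⁻¹ * u * t * (t⁻¹ * u * t) = t⁻¹ * (u * u) * t by group, hu2, mul_one, inv_mul_cancel]),
        map_one]
    haveI := Fact.mk Nat.prime_two
    rw [← orderOf_eq_prime hsq hne]
    exact Subgroup.orderOf_dvd_natCard _ ⟨_, rfl⟩
  -- an element of order `r`
  have hr' : r ∣ Nat.card π.range := by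
    obtain ⟨x, hxH, hx⟩ := E.exists_mem_H_of_ne w
    have hne : ∀ k : ℕ, π (⟨x, hxH⟩ ^ k) = 1 → w.φ (x ^ k) = 1 := fun k e => by
      have h1 := congrArg Subtype.val (DFunLike.congr_fun e ⟨_, mem_zpowers (w.σ : G)⟩)
      rw [hπ, SubmonoidClass.coe_pow] at h1
      rw [← map_one w.φ]
      refine w.φ_eq _ _ ?_
      simp only [SubmonoidClass.coe_pow, OneMemClass.coe_one, one_mul, inv_one, mul_one]
      rw [show (x : G) ^ k * w.σ * ((x : G) ^ k)⁻¹ = (w.σ : G) from h1, inv_mul_cancel]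
      exact one_mem _
    by_contra hnd
    refine hx ?_
    have h1 := hne (Nat.card π.range) (by
      rw [map_pow]
      exact orderOf_dvd_iff_pow_eq_one.mp (Subgroup.orderOf_dvd_natCard _ ⟨_, rfl⟩))
    rw [map_pow] at h1
    rw [← orderOf_eq_one_iff]
    exact Nat.eq_one_of_dvd_coprimes (E.hyp.prime.coprime_iff_not_dvd.mpr hnd)
      (orderOf_dvd_of_pow_eq_one (w.φ_pow x)) (orderOf_dvd_of_pow_eq_one h1)
  have hcop : Nat.Coprime 2 r := (Nat.coprime_primes Nat.prime_two E.hyp.prime).mpr E.hyp.ne_two.symm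
  have h2r : 2 * r ∣ Nat.card π.range := hcop.mul_dvd_of_dvd_of_dvd h2 hr'
  have hμ : Nat.card π.range = 2 * r := by
    refine Nat.dvd_antisymm ?_ h2r
    have h2r' := h2r.trans hdvd
    have hh1 : (h : G) ≠ 1 := fun e => by
      rw [e, orderOf_one, Nat.dvd_one] at h2r'
      omega
    rcases E.hyp.spec (h : G) hh1 with hp | he
    · rcases hp.eq_one_or_self_of_dvd _ h2r' with h5 | h5
      · omega
      · exact absurd (h5 ▸ hp) (Nat.not_prime_mul (by norm_num) E.hyp.prime.ne_one)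
    · rw [← he]; exact hdvd
  rw [← π.ker.card_mul_index, Subgroup.index_ker, hμ, hker,
    Nat.card_congr (subgroupOfEquivOfLe ?_).toEquiv, mul_comm]
  rw [← E.centralizer_zpowers_sigma w]
  exact centralizer_le_normalizer _

theorem fix_orbit {z : G ⧸ normalizer (T : Set G)} (hz : (w.σ : G) • z = z) :
    ∃ h ∈ normalizer (zpowers (w.σ : G) : Set G), h • (QuotientGroup.mk 1) = z := by
  by_cases hb : z = QuotientGroup.mk 1
  · exact ⟨1, one_mem _, by rw [one_smul, hb]⟩
  obtain ⟨u, hu2, hu, rfl⟩ := E.exists_rep hb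
  have hmem := TwoFusionB.smul_mk_eq_iff.mp hz
  rw [inv_two hu2] at hmem
  have hinv := E.inverts w hu hu2 w.σ hmem w.φ_σ
  refine ⟨u, mem_normalizer_zpowers ?_, E.smul_mk_one u⟩
  rw [inv_two hu2, hinv]
  exact inv_mem (mem_zpowers _)

theorem card_fix_mul :
    Nat.card {z : G ⧸ normalizer (T : Set G) // (w.σ : G) • z = z} * (w.s * r) =
      Nat.card ↥(normalizer (zpowers (w.σ : G) : Set G)) := by
  set H := normalizer (zpowers (w.σ : G) : Set G)
  let b : G ⧸ normalizer (T : Set G) := QuotientGroup.mk 1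
  have horb : MulAction.orbit H b = {z | (w.σ : G) • z = z} := by
    ext z
    constructor
    · rintro ⟨h, rfl⟩
      show (w.σ : G) • ((h : G) • b) = (h : G) • b
      have h1 : (h : G)⁻¹ * w.σ * h ∈ zpowers (w.σ : G) := by
        have := (mem_normalizer_iff.mp (inv_mem h.2) (w.σ : G)).mp (mem_zpowers _)
        rwa [inv_inv] at this
      obtain ⟨hM, -⟩ := E.zpow_sigma_mem_ker w h1
      rw [E.smul_mk_one]
      exact TwoFusionB.smul_mk_eq_iff.mpr hM
    · intro hz
      obtain ⟨h, hh, he⟩ := E.fix_orbit w hz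
      exact ⟨⟨h, hh⟩, he⟩
  have hstab : MulAction.stabilizer H b = (H ⊓ normalizer (T : Set G)).subgroupOf H := by
    ext h
    rw [MulAction.mem_stabilizer_iff, mem_subgroupOf, mem_inf]
    show (h : G) • b = b ↔ _
    rw [TwoFusionB.smul_one_eq_iff]
    exact ⟨fun h1 => ⟨h.2, h1⟩, fun h1 => h1.2⟩
  rw [← (MulAction.stabilizer H b).card_mul_index, MulAction.index_stabilizer, hstab,
    Nat.card_congr (subgroupOfEquivOfLe inf_le_left).toEquiv, E.card_HM w, horb, mul_comm,
    ← Nat.card_coe_set_eq]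
  rfl

theorem card_others :
    (w.s + 1) * (Nat.card {z : G ⧸ normalizer (T : Set G) // (w.σ : G) • z = z} - 1) + 1 =
      (normalizer (T : Set G)).index := by
  classical
  cases nonempty_fintype (G ⧸ normalizer (T : Set G))
  set b : G ⧸ normalizer (T : Set G) := QuotientGroup.mk 1 with hb
  have htb : ∀ t : T, (t : G) • b = b := fun t => TwoFusionB.smul_one_eq_iff.mpr (le_normalizer t.2)
  let F : T × {z : G ⧸ normalizer (T : Set G) // (w.σ : G) • z = z ∧ z ≠ b} →
      {z : G ⧸ normalizer (T : Set G) // z ≠ b} := fun p =>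
    ⟨(p.1 : G) • p.2.1, fun e => p.2.2.2 (by
      have := congrArg (((p.1 : G))⁻¹ • ·) e
      simp only [inv_smul_smul] at this
      rw [this, inv_smul_eq_iff]
      exact (htb p.1).symm)⟩
  have hF : Function.Bijective F := by
    constructor
    · rintro ⟨t, z, hz, hzb⟩ ⟨t', z', hz', hzb'⟩ he
      have he' : (t : G) • z = (t' : G) • z' := congrArg Subtype.val he
      suffices ht : t = t' by
        subst ht
        exact Prod.ext rfl (Subtype.ext (MulAction.injective (t : G) he'))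
      set a := (t' : G)⁻¹ * t with ha
      have haT : a ∈ T := mul_mem (inv_mem t'.2) t.2
      have haz : a • z = z' := by rw [ha, mul_smul, he', inv_smul_smul]
      obtain ⟨u, hu2, hu, hzu⟩ := E.exists_rep hzb'
      have hd1 : u * (w.σ : G) * u ∈ normalizer (T : Set G) := by
        have := TwoFusionB.smul_mk_eq_iff.mp (hzu ▸ hz' : (w.σ : G) • (QuotientGroup.mk u : G ⧸ _) = _)
        rwa [inv_two hu2] at this
      have hfix : (a * w.σ * a⁻¹) • z' = z' := by
        rw [← haz, mul_smul, mul_smul, inv_smul_smul, hz]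
      have hd2 : u * (a * w.σ * a⁻¹) * u ∈ normalizer (T : Set G) := by
        have := TwoFusionB.smul_mk_eq_iff.mp
          (hzu ▸ hfix : (a * w.σ * a⁻¹) • (QuotientGroup.mk u : G ⧸ _) = _)
        rwa [inv_two hu2] at this
      have haM : a * w.σ * a⁻¹ ∈ normalizer (T : Set G) :=
        mul_mem (mul_mem (le_normalizer haT) w.σ.2) (inv_mem (le_normalizer haT))
      have hφ : w.φ ⟨a * w.σ * a⁻¹, haM⟩ = 1 := by
        rw [show (⟨a * w.σ * a⁻¹, haM⟩ : ↥(normalizer (T : Set G))) =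
          ⟨a, le_normalizer haT⟩ * w.σ * (⟨a, le_normalizer haT⟩)⁻¹ from rfl,
          map_mul, map_mul, w.φ_σ, mul_one, ← map_mul, mul_inv_cancel, map_one]
      obtain ⟨j, hj⟩ := E.ker_stab2 w hu hu2 ⟨_, haM⟩ w.σ hd2 hd1 hφ w.φ_σ (E.sigma_ne w)
      replace hj : a * (w.σ : G) * a⁻¹ = (w.σ : G) ^ j := hj
      have h1 : (w.σ : G)⁻¹ * (a * w.σ * a⁻¹) ∈ zpowers (w.σ : G) :=
        hj ▸ mul_mem (inv_mem (mem_zpowers _)) (pow_mem (mem_zpowers _) j)
      have h2 : (w.σ : G)⁻¹ * (a * w.σ * a⁻¹) ∈ T := by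
        rw [show (w.σ : G)⁻¹ * (a * w.σ * a⁻¹) = ((w.σ : G)⁻¹ * a * w.σ) * a⁻¹ by group]
        refine mul_mem ?_ (inv_mem haT)
        have := (mem_normalizer_iff.mp (inv_mem w.σ.2) a).mp haT
        simpa using this
      have h3 := eq_one_of_odd_of_sq ((w.σ_ord.symm ▸ E.s_odd w).of_dvd_nat
        (orderOf_dvd_of_mem_zpowers h1)) (E.sys.sq h2)
      rw [inv_mul_eq_one, eq_mul_inv_iff_mul_eq] at h3
      have := E.conj_sigma_comm w haT h3
      rw [ha, inv_mul_eq_one] at this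
      exact Subtype.ext this.symm
    · rintro ⟨z, hzb⟩
      obtain ⟨u, hu2, hu, rfl⟩ := E.exists_rep hzb
      obtain ⟨t, ht, hinv⟩ := E.exists_inverted w hu hu2
      refine ⟨(⟨t, ht⟩, ⟨t⁻¹ • QuotientGroup.mk u, ?_, fun e => hzb ?_⟩), ?_⟩
      · rw [← inv_smul_eq_iff, inv_inv] at *
        rw [← mul_smul, ← mul_smul]
        refine TwoFusionB.smul_mk_eq_iff.mpr ?_
        rw [inv_two hu2, hinv]
        exact inv_mem (mul_mem (mul_mem (le_normalizer ht) w.σ.2) (inv_mem (le_normalizer ht)))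
      · rw [inv_smul_eq_iff] at e
        rw [e]
        exact htb ⟨t, ht⟩
      · exact Subtype.ext (smul_inv_smul t _)
  have h1 := Nat.card_eq_of_bijective F hF
  rw [Nat.card_prod, w.card_T] at h1
  have hσb : (w.σ : G) • b = b := TwoFusionB.smul_one_eq_iff.mpr w.σ.2
  have h2 : Nat.card {z : G ⧸ normalizer (T : Set G) // (w.σ : G) • z = z ∧ z ≠ b} =
      Nat.card {z : G ⧸ normalizer (T : Set G) // (w.σ : G) • z = z} - 1 := by
    rw [← Nat.card_congr (Equiv.subtypeSubtypeEquivSubtypeInter (fun z => (w.σ : G) • z = z) fun z => z ≠ b),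
      Nat.card_eq_fintype_card, Nat.card_eq_fintype_card]
    have : Fintype.card {a : {z : G ⧸ normalizer (T : Set G) // (w.σ : G) • z = z} //
        a.1 ≠ b} = Fintype.card {a : {z : G ⧸ normalizer (T : Set G) // (w.σ : G) • z = z} //
        ¬ a = ⟨b, hσb⟩} := Fintype.card_congr (Equiv.subtypeEquivRight fun a =>
      ⟨fun h e => h (congrArg Subtype.val e), fun h e => h (Subtype.ext e)⟩)
    rw [this, Fintype.card_subtype_compl, Fintype.card_subtype_eq]
  rw [← h2, h1, Subgroup.index_eq_card, Nat.card_eq_fintype_card, Nat.card_eq_fintype_card,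
    Fintype.card_subtype_compl, Fintype.card_subtype_eq]
  have : 0 < Fintype.card (G ⧸ normalizer (T : Set G)) := Fintype.card_pos
  omega

end Cfsg.Agent.TwoR73.SE
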